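import Cfsg.Agent.Lib.PSL2.Centralizers
import Cfsg.Agent.Lib.PSL2.Torus
import Cfsg.Agent.Lib.PSL2.Borel
import Cfsg.Agent.Lib.PSL2.Involutions
import Cfsg.Agent.Lib.PSL2.Overgroups
import Cfsg.Agent.Lib.PSL2.Subgroups
import Cfsg.Agent.Lib.PSL2.Facts

/-!
# Gorenstein-Walter, Klein general case: facts about `PSL(2,q)`, `q ≡ 3, 5 (mod 8)` (helper64)

* `exists_torusOrder`: the odd number `n` with `|C(u)| = 4 n` for every involution `u`.
* `exists_torus`, `pow_eq_one`, `cyclic_of_pgroup`, `commute_of_odd`: the odd part of `C(u)` is cyclic of order `n`.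
* `mem_centralizer_of_conj_pow`: the normaliser of a subgroup of prime order of the torus lies in `C(u)`.
* `exists_good`: many conjugates generating, with a given one, a subgroup of even order.
-/

set_option autoImplicit false
set_option linter.unusedSectionVars false
set_option linter.style.haveILetI false

open scoped LinearAlgebra.Projectivization

namespace Cfsg.Agent.GWKlein.L2

open Subgroup MulAction Cfsg.Agent.PSL2

/-- In a cyclic subgroup the elements killed by the order of an element are powers of it. -/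
theorem mem_zpowers_of_pow_eq_one {L : Type*} [Group L] [Finite L] {y x x' : L} (hx : x ∈ zpowers y)
    (hx' : x' ∈ zpowers y) (h : x ^ orderOf x' = 1) : x ∈ zpowers x' := by
  classical
  let Y := zpowers y
  haveI : Fintype Y := Fintype.ofFinite Y
  let X : Finset Y := Finset.univ.filter fun w => w ^ orderOf x' = 1
  have hle : X.card ≤ orderOf x' := IsCyclic.card_pow_eq_one_le (orderOf_pos x')
  let Z : Finset Y := (zpowers (⟨x', hx'⟩ : Y) : Set Y).toFinset
  have hZX : Z ⊆ X := by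
    intro w hw
    rw [Set.mem_toFinset] at hw
    refine Finset.mem_filter.2 ⟨Finset.mem_univ _, ?_⟩
    rw [← Subgroup.orderOf_mk x' hx']
    exact orderOf_dvd_iff_pow_eq_one.1 (orderOf_dvd_of_mem_zpowers hw)
  have hZ : orderOf x' ≤ Z.card := by
    rw [Set.toFinset_card, ← Nat.card_eq_fintype_card, SetLike.coe_sort_coe, Nat.card_zpowers,
      Subgroup.orderOf_mk]
  have he := Finset.eq_of_subset_of_card_le hZX (hle.trans hZ)
  have hm : (⟨x, hx⟩ : Y) ∈ X := Finset.mem_filter.2 ⟨Finset.mem_univ _, Subtype.ext h⟩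
  rw [← he, Set.mem_toFinset] at hm
  obtain ⟨j, hj⟩ := hm
  exact ⟨j, congrArg Subtype.val hj⟩

variable (F : Type) [Field F] [Finite F]

/-- The standing hypothesis on `q = |F|` and `n`. -/
structure TorusOrder (n : ℕ) : Prop where
  three : 3 < Nat.card F
  eq : Nat.card F % 4 = 1 ∧ 4 * n + 1 = Nat.card F ∨ Nat.card F % 4 = 3 ∧ 4 * n = Nat.card F + 1
  odd : Odd n

theorem exists_torusOrder (h8 : Nat.card F % 8 = 3 ∨ Nat.card F % 8 = 5) (h3 : 3 < Nat.card F) :
    ∃ n, TorusOrder F n := by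
  rcases h8 with h | h
  · refine ⟨(Nat.card F + 1) / 4, h3, Or.inr ⟨by omega, by omega⟩, Nat.odd_iff.2 ?_⟩
    omega
  · refine ⟨Nat.card F / 4, h3, Or.inl ⟨by omega, by omega⟩, Nat.odd_iff.2 ?_⟩
    omega

variable {F}

namespace TorusOrder

variable {n : ℕ} (hn : TorusOrder F n)
include hn

theorem odd_card : Odd (Nat.card F) := by
  rcases hn.eq with h | h <;> exact Nat.odd_iff.2 (by omega)

theorem pos : 0 < n := by
  obtain ⟨j, hj⟩ := hn.odd
  omega

theorem card_centralizer {u : PSL2 F} (hu : orderOf u = 2) :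
    Nat.card (centralizer ({u} : Set (PSL2 F))) = 4 * n := by
  obtain ⟨h1, h3⟩ := card_centralizer_involution hn.odd_card hu
  rcases hn.eq with ⟨h, e⟩ | ⟨h, e⟩
  · rw [h1 h]; omega
  · rw [h3 h]; omega

theorem two_mul_card :
    2 * Nat.card (PSL2 F) = Nat.card F * ((Nat.card F + 1) * (Nat.card F - 1)) := by
  have h := card_psl_mul (F := F)
  obtain ⟨j, hj⟩ := hn.odd_card
  rwa [Nat.gcd_eq_left (show 2 ∣ Nat.card F - 1 by omega)] at h

theorem card_big : 24 * n ^ 3 ≤ Nat.card (PSL2 F) := by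
  have h := hn.two_mul_card
  have h3 := hn.three
  obtain ⟨j, hj⟩ := hn.odd
  rcases hn.eq with ⟨hq, e⟩ | ⟨hq, e⟩
  · obtain ⟨m, rfl⟩ : ∃ m, n = m + 1 := ⟨2 * j, hj⟩
    rw [show Nat.card F = 4 * m + 5 by omega, show 4 * m + 5 + 1 = 4 * m + 6 by omega,
      show 4 * m + 5 - 1 = 4 * m + 4 by omega] at h
    nlinarith
  · obtain ⟨m, rfl⟩ : ∃ m, n = m + 3 := ⟨n - 3, by omega⟩
    rw [show Nat.card F = 4 * m + 11 by omega, show 4 * m + 11 + 1 = 4 * m + 12 by omega,
      show 4 * m + 11 - 1 = 4 * m + 10 by omega] at h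
    nlinarith

/-- A cyclic subgroup of order `2 n` inside the centraliser of an involution. -/
theorem exists_torus {u : PSL2 F} (hu : orderOf u = 2) :
    ∃ y : PSL2 F, orderOf y = 2 * n ∧ y ^ n = u ∧
      (orderOf y = (Nat.card F - 1) / Nat.gcd 2 (Nat.card F - 1) ∨
        orderOf y = (Nat.card F + 1) / Nat.gcd 2 (Nat.card F - 1)) := by
  have hg : Nat.gcd 2 (Nat.card F - 1) = 2 :=
    Nat.gcd_eq_left (by obtain ⟨j, hj⟩ := hn.odd_card; omega)
  obtain ⟨y, hy⟩ := exists_psl_orderOf_torus (F := F) (m := 2 * n) (by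
    rw [hg]
    rcases hn.eq with ⟨-, e⟩ | ⟨-, e⟩
    · exact Or.inl ⟨1, by omega⟩
    · exact Or.inr ⟨1, by omega⟩)
  have hi : orderOf (y ^ n) = 2 := by
    rw [orderOf_pow_of_dvd hn.pos.ne' (hy ▸ dvd_mul_left n 2), hy, Nat.mul_div_cancel _ hn.pos]
  obtain ⟨g, hgu⟩ := isConj_iff.1 (involution_isConj hn.odd_card hi hu)
  have ho : orderOf (g * y * g⁻¹) = 2 * n :=
    (MulEquiv.orderOf_eq (MulAut.conj g) y).trans hy
  refine ⟨g * y * g⁻¹, ho, by rw [conj_pow, hgu], ?_⟩
  rw [ho, hg]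
  rcases hn.eq with ⟨-, e⟩ | ⟨-, e⟩
  · exact Or.inl (by omega)
  · exact Or.inr (by omega)

/-- Elements of odd order of `C(u)` lie in the torus. -/
theorem mem_torus {u x y : PSL2 F} (hu : orderOf u = 2) (hy : orderOf y = 2 * n) (hyu : y ^ n = u)
    (hx : Odd (orderOf x)) (hc : Commute x u) : x ∈ zpowers y := by
  set C := centralizer ({u} : Set (PSL2 F))
  have hyC : zpowers y ≤ C :=
    zpowers_le.2 (mem_centralizer_singleton_iff.2 (hyu ▸ (Commute.refl y).pow_right n).eq)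
  have hidx : ((zpowers y).subgroupOf C).index = 2 := by
    have h := ((zpowers y).subgroupOf C).card_mul_index
    rw [Nat.card_congr (subgroupOfEquivOfLe hyC).toEquiv, Nat.card_zpowers, hy,
      hn.card_centralizer hu, show 4 * n = 2 * n * 2 by ring] at h
    exact Nat.eq_of_mul_eq_mul_left (by have := hn.pos; omega) h
  have h2 : x * x ∈ zpowers y := by
    have := Subgroup.mul_self_mem_of_index_two hidx ⟨x, mem_centralizer_singleton_iff.2 hc.eq⟩
    exact this
  obtain ⟨j, hj⟩ := hx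
  have e : x = (x * x) ^ (j + 1) := by
    rw [← pow_two, ← pow_mul, show 2 * (j + 1) = orderOf x + 1 by omega, pow_succ,
      pow_orderOf_eq_one, one_mul]
  rw [e]
  exact pow_mem h2 _

theorem pow_eq_one {u x : PSL2 F} (hu : orderOf u = 2) (hx : Odd (orderOf x)) (hc : Commute x u) :
    x ^ n = 1 := by
  obtain ⟨y, hy, hyu, -⟩ := hn.exists_torus hu
  have h1 : orderOf x ∣ 2 * n := hy ▸ orderOf_dvd_of_mem_zpowers (hn.mem_torus hu hy hyu hx hc)
  exact orderOf_dvd_iff_pow_eq_one.1 ((Nat.coprime_two_right.2 hx).dvd_of_dvd_mul_left h1)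

theorem commute_of_odd {u x x' : PSL2 F} (hu : orderOf u = 2) (hx : Odd (orderOf x))
    (hc : Commute x u) (hx' : Odd (orderOf x')) (hc' : Commute x' u) : Commute x x' := by
  obtain ⟨y, hy, hyu, -⟩ := hn.exists_torus hu
  obtain ⟨i, rfl⟩ := hn.mem_torus hu hy hyu hx hc
  obtain ⟨j, rfl⟩ := hn.mem_torus hu hy hyu hx' hc'
  exact (Commute.refl y).zpow_zpow i j

theorem cyclic_of_pgroup {u x x' : PSL2 F} (hu : orderOf u = 2) {p : ℕ} (hp : p.Prime) (hp2 : p ≠ 2)
    {i j : ℕ} (hx : x ^ p ^ i = 1) (hx' : x' ^ p ^ j = 1) (hc : Commute x u) (hc' : Commute x' u) :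
    x ∈ zpowers x' ∨ x' ∈ zpowers x := by
  obtain ⟨a, -, ha⟩ := (Nat.dvd_prime_pow hp).1 (orderOf_dvd_of_pow_eq_one hx)
  obtain ⟨b, -, hb⟩ := (Nat.dvd_prime_pow hp).1 (orderOf_dvd_of_pow_eq_one hx')
  have ho : Odd p := hp.odd_of_ne_two hp2
  obtain ⟨y, hy, hyu, -⟩ := hn.exists_torus hu
  have h1 := hn.mem_torus hu hy hyu (ha ▸ ho.pow) hc
  have h2 := hn.mem_torus hu hy hyu (hb ▸ ho.pow) hc'
  rcases le_total a b with hab | hab
  · left
    refine mem_zpowers_of_pow_eq_one h1 h2 (orderOf_dvd_iff_pow_eq_one.1 ?_)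
    rw [ha, hb]
    exact pow_dvd_pow p hab
  · right
    refine mem_zpowers_of_pow_eq_one h2 h1 (orderOf_dvd_iff_pow_eq_one.1 ?_)
    rw [ha, hb]
    exact pow_dvd_pow p hab

theorem dvd_of_orderOf {u z : PSL2 F} (hu : orderOf u = 2) {p : ℕ} (hp : p.Prime) (hp2 : p ≠ 2)
    (hz : orderOf z = p) (hc : Commute z u) : p ∣ n :=
  hz ▸ orderOf_dvd_of_pow_eq_one (hn.pow_eq_one hu (hz ▸ hp.odd_of_ne_two hp2) hc)

/-- A power of a torus element of prime order is conjugate to a power of it only inside `C(u)`. -/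
theorem mem_centralizer_of_conj_pow {u z c : PSL2 F} (hu : orderOf u = 2) {p : ℕ} (hp : p.Prime)
    (hp2 : p ≠ 2) (hz : orderOf z = p) (hc : Commute z u) {a b : ℕ} (ha : ¬ p ∣ a)
    (h : c * z ^ a * c⁻¹ = z ^ b) : Commute c u := by
  obtain ⟨y, hy, hyu, htor⟩ := hn.exists_torus hu
  have hzy := hn.mem_torus hu hy hyu (hz ▸ hp.odd_of_ne_two hp2) hc
  obtain ⟨k, hk⟩ := exists_pow_eq_self_of_coprime (x := z) (n := a)
    (hz.symm ▸ (hp.coprime_iff_not_dvd.2 ha).symm)
  have hcz : c * z * c⁻¹ ∈ zpowers z := by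
    have e : c * z * c⁻¹ = (z ^ b) ^ k := by
      rw [← h, conj_pow]
      exact congrArg (fun w => c * w * c⁻¹) hk.symm
    rw [e]
    exact pow_mem (pow_mem (mem_zpowers z) b) k
  have h3 : 3 ≤ orderOf z := by
    rw [hz]
    have := hp.two_le
    omega
  have hu2 : u ^ 2 = 1 := orderOf_dvd_iff_pow_eq_one.1 hu.dvd
  -- `c y c⁻¹` centralises `z`
  have hyz : Commute (c * y * c⁻¹) z := by
    have h1 : Commute (c * y * c⁻¹) (c * z * c⁻¹) := by
      obtain ⟨j, hj⟩ := hzy
      have : Commute y z := hj ▸ (Commute.refl y).zpow_right j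
      exact (commute_map_iff (f := (MulAut.conj c).toMonoidHom) (MulAut.conj c).injective).2 this
    obtain ⟨j, hj⟩ := hcz
    simp only at hj
    have hne : c * z * c⁻¹ ≠ 1 := fun e => by
      rw [conj_eq_one_iff.1 e, orderOf_one] at h3
      omega
    have hcop : IsCoprime j (p : ℤ) := by
      rw [Int.isCoprime_iff_nat_coprime, Int.natAbs_natCast]
      refine (hp.coprime_iff_not_dvd.2 fun hd => hne ?_).symm
      rw [← hj, ← orderOf_dvd_iff_zpow_eq_one, hz]
      exact Int.natCast_dvd.2 hd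
    obtain ⟨s, t, hst⟩ := hcop
    have e : z = (c * z * c⁻¹) ^ s := by
      have hp0 : z ^ ((p : ℤ) * t) = 1 := by
        rw [zpow_mul, zpow_natCast, ← hz, pow_orderOf_eq_one, one_zpow]
      rw [← hj, ← zpow_mul]
      calc z = z ^ (j * s + (p : ℤ) * t) := by
            rw [show j * s + (p : ℤ) * t = s * j + t * (p : ℤ) by ring, hst, zpow_one]
        _ = z ^ (j * s) := by rw [zpow_add, hp0, mul_one]
    rw [e]
    exact h1.zpow_right s
  have hm := mem_zpowers_of_commute_torus htor hzy h3 hyz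
  have hmu : c * u * c⁻¹ ∈ zpowers y := by
    rw [← hyu, ← conj_pow]
    exact pow_mem hm n
  have huy : u ∈ zpowers y := hyu ▸ pow_mem (mem_zpowers y) n
  obtain ⟨j, hj⟩ := mem_zpowers_of_pow_eq_one hmu huy
    (by rw [hu, conj_pow, hu2, mul_one, mul_inv_cancel])
  simp only at hj
  have e : c * u * c⁻¹ = u := by
    rcases Int.even_or_odd j with ⟨i, rfl⟩ | ⟨i, rfl⟩
    · exfalso
      rw [show i + i = (2 : ℤ) * i by ring, zpow_mul, zpow_ofNat, hu2, one_zpow] at hj
      rw [conj_eq_one_iff.1 hj.symm, orderOf_one] at hu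
      omega
    · rw [zpow_add, zpow_mul, zpow_ofNat, hu2, one_zpow, one_mul, zpow_one] at hj
      exact hj.symm
  exact mul_inv_eq_iff_eq_mul.1 e

end TorusOrder

/-! ### Subgroups of odd order generated by two conjugates -/

theorem even_psl_two {R : Type*} [Field R] [Finite R] (hodd : Odd (Nat.card R)) :
    Even (Nat.card (PSL2 R)) := by
  have h := card_psl_mul (F := R)
  obtain ⟨j, hj⟩ := hodd
  rw [hj, Nat.gcd_eq_left (show 2 ∣ 2 * j + 1 - 1 by omega), Nat.add_sub_cancel] at h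
  obtain ⟨i, hi⟩ : ∃ i, (2 * j + 1 + 1) * (2 * j) = 4 * i := ⟨(j + 1) * j, by ring⟩
  rw [hi] at h
  exact ⟨(2 * j + 1) * i, by nlinarith⟩

theorem even_pgl_two {R : Type*} [Field R] [Finite R] (hodd : Odd (Nat.card R)) :
    Even (Nat.card (PGL2 R)) := by
  obtain ⟨j, hj⟩ := hodd
  rw [card_pgl_eq, hj, Nat.add_sub_cancel]
  exact ((even_two_mul j).mul_left _).mul_left _

/-- A subgroup of odd order is cyclic or fixes a point. -/
theorem odd_subgroup_cases (hodd : Odd (Nat.card F)) {X : Subgroup (PSL2 F)} (hX : Odd (Nat.card X)) :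
    IsCyclic X ∨ ∃ P : Pt F, X ≤ stabilizer (PSL2 F) P := by
  obtain ⟨p, hp⟩ := CharP.exists F
  haveI : Fact p.Prime := ⟨CharP.char_is_prime F p⟩
  have hne : ∀ {k : ℕ}, Nat.card X = k → Even k → False := fun h he =>
    Nat.not_even_iff_odd.2 (h ▸ hX) he
  rcases psl_dickson p X with ⟨-, S, hS⟩ | ⟨-, hc, -⟩ | ⟨k, -, -, -, hk, -⟩ | ⟨-, h | h | h⟩ |
    ⟨-, h60, -⟩ | ⟨R, m, hm, hR, h | ⟨-, -, h⟩⟩
  · obtain ⟨P, hP⟩ := normalizer_sylow_le p S
    exact Or.inr ⟨P, hS.trans hP⟩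
  · exact Or.inl hc
  · exact (hne hk (even_two_mul k)).elim
  · obtain ⟨e⟩ := h
    exact (hne ((Nat.card_congr e.toEquiv).trans card_alt_four) (by decide)).elim
  · obtain ⟨e⟩ := h
    exact (hne ((Nat.card_congr e.toEquiv).trans card_perm_four) (by decide)).elim
  · obtain ⟨e⟩ := h
    exact (hne ((Nat.card_congr e.toEquiv).trans card_alt_five) (by decide)).elim
  · exact (hne h60 (by decide)).elim
  · obtain ⟨e⟩ := h
    rw [← hR, Nat.odd_pow_iff (by omega)] at hodd
    exact (hne (Nat.card_congr e.toEquiv) (even_psl_two hodd)).elim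
  · obtain ⟨e⟩ := h
    rw [← hR, Nat.odd_pow_iff (by omega)] at hodd
    exact (hne (Nat.card_congr e.toEquiv) (even_pgl_two hodd)).elim

/-- A nontrivial element fixes at most two points. -/
theorem card_fixed_le_two [Fintype (Pt F)] [DecidableEq (Pt F)] {z : PSL2 F} (hz : z ≠ 1) :
    (Finset.univ.filter fun P : Pt F => z • P = P).card ≤ 2 := by
  by_contra hc
  push Not at hc
  obtain ⟨P, hP, Q, hQ, R, hR, hPQ, hPR, hQR⟩ := Finset.two_lt_card.1 hc
  rw [Finset.mem_filter] at hP hQ hR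
  exact hz (Matrix.ProjectiveSpecialLinearGroup.toPGL_injective ((eq_one_of_fix_three hPQ hPR hQR
    ((toPGL_smul z P).trans hP.2) ((toPGL_smul z Q).trans hQ.2) ((toPGL_smul z R).trans hR.2)).trans
      (map_one _).symm))

/-- The elements of prime order `r ≠ char F` fixing a point number at most `q (r - 1)`. -/
theorem card_torsion_stabilizer_le (P : Pt F) {r : ℕ} (hr : r.Prime) :
    ∃ (c : ℕ) (ψ : stabilizer (PSL2 F) P →* Fˣ), CharP F c ∧ c.Prime ∧
      (∀ x, ψ x = 1 ↔ (x : PSL2 F) ^ c = 1) ∧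
      Nat.card {x : stabilizer (PSL2 F) P // ψ x ^ r = 1 ∧ ψ x ≠ 1} ≤ Nat.card F * (r - 1) := by
  classical
  obtain ⟨c, hc⟩ := CharP.exists F
  haveI : Fact c.Prime := ⟨CharP.char_is_prime F c⟩
  obtain ⟨ψ, hψ⟩ := exists_borel_hom c P
  refine ⟨c, ψ, hc, Fact.out, hψ, ?_⟩
  have hker : Nat.card ψ.ker ≤ Nat.card F := by
    have hp : IsPGroup c ψ.ker := fun x => ⟨1, Subtype.ext (Subtype.ext (by
      rw [pow_one]
      exact (hψ x.1).1 x.2))⟩
    obtain ⟨i, hi⟩ := hp.exists_card_eq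
    obtain ⟨x, hx, -, hcard, -⟩ := card_psl_split (F := F) c
    have hd : c ^ i ∣ Nat.card F * x := hcard ▸ hi ▸
      ((card_subgroup_dvd_card ψ.ker).trans (card_subgroup_dvd_card (stabilizer (PSL2 F) P)))
    rw [hi]
    exact Nat.le_of_dvd Nat.card_pos (((Nat.Prime.coprime_iff_not_dvd Fact.out).2 hx).pow_left i
      |>.dvd_of_dvd_mul_right hd)
  set U : Subgroup Fˣ := (powMonoidHom r : Fˣ →* Fˣ).ker with hU
  have hUr : Nat.card U ≤ r := by
    haveI := Fintype.ofFinite F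
    haveI : IsCyclic Fˣ := inferInstance
    have h := IsCyclic.card_pow_eq_one_le (α := Fˣ) hr.pos
    rw [Nat.card_eq_fintype_card, Fintype.card_subtype]
    convert h using 3
    simp [hU, MonoidHom.mem_ker]
  have h1 : Nat.card {x : stabilizer (PSL2 F) P // ψ x ^ r = 1 ∧ ψ x ≠ 1} ≤
      Nat.card {q : U × ψ.ker // (q.1 : Fˣ) ≠ 1} := by
    have hsec : ∀ u : U, ∀ x : stabilizer (PSL2 F) P, ψ x = u →
        ψ (x * (Function.invFun ψ (u : Fˣ))⁻¹) = 1 := fun u x hx => by
      rw [map_mul, map_inv, Function.invFun_eq ⟨x, hx⟩, hx, mul_inv_cancel]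
    refine Nat.card_le_card_of_injective (fun x =>
      (⟨(⟨ψ x.1, x.2.1⟩, ⟨x.1 * (Function.invFun ψ (ψ x.1))⁻¹, hsec ⟨ψ x.1, x.2.1⟩ x.1 rfl⟩),
        x.2.2⟩ : {q : U × ψ.ker // (q.1 : Fˣ) ≠ 1})) fun x x' h => ?_
    simp only [Subtype.mk.injEq, Prod.mk.injEq] at h
    obtain ⟨h1, h2⟩ := h
    have h1' : ψ x.1 = ψ x'.1 := congrArg Subtype.val h1
    have h2' : x.1 * (Function.invFun ψ (ψ x.1))⁻¹ = x'.1 * (Function.invFun ψ (ψ x'.1))⁻¹ :=
      congrArg Subtype.val h2
    rw [h1'] at h2'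
    exact Subtype.ext (mul_right_cancel h2')
  refine h1.trans ?_
  rw [Nat.card_congr (Equiv.prodSubtypeFstEquivSubtypeProd (p := fun u : U => (u : Fˣ) ≠ 1)),
    Nat.card_prod, mul_comm]
  refine Nat.mul_le_mul hker ?_
  haveI := Fintype.ofFinite U
  rw [Nat.card_eq_fintype_card, Fintype.card_subtype]
  have hlt : (Finset.univ.filter fun u : U => (u : Fˣ) ≠ 1).card < Fintype.card U :=
    Finset.card_lt_card (Finset.filter_ssubset.2 ⟨1, Finset.mem_univ _, by simp⟩)
  rw [← Nat.card_eq_fintype_card] at hlt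
  omega

namespace TorusOrder

variable {n : ℕ} (hn : TorusOrder F n)
include hn

/-- Many cosets of `C(u)` whose conjugate generates with `z` a subgroup of even order. -/
theorem exists_good {u z : PSL2 F} (hu : orderOf u = 2) {p : ℕ} (hp : p.Prime) (hp2 : p ≠ 2)
    (hz : orderOf z = p) (hc : Commute z u) :
    ∃ S : Finset (PSL2 F), p ^ 2 ≤ S.card ∧
      (∀ h ∈ S, Even (Nat.card (closure ({z, h * z * h⁻¹} : Set (PSL2 F))))) ∧
      ∀ h ∈ S, ∀ h' ∈ S, Commute (h'⁻¹ * h) u → h = h' := by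
  classical
  set C := centralizer ({u} : Set (PSL2 F)) with hC
  haveI : Fintype (PSL2 F ⧸ C) := Fintype.ofFinite _
  haveI : Fintype (Pt F) := Fintype.ofFinite _
  let bad : Finset (PSL2 F ⧸ C) :=
    Finset.univ.filter fun c => Odd (Nat.card (closure ({z, c.out * z * c.out⁻¹} : Set (PSL2 F))))
  let good : Finset (PSL2 F ⧸ C) := Finset.univ \ bad
  refine ⟨good.image Quotient.out, ?_, ?_, ?_⟩
  swap
  · intro h hh
    obtain ⟨c, hc', rfl⟩ := Finset.mem_image.1 hh
    simp only [good, bad, Finset.mem_sdiff, Finset.mem_univ, Finset.mem_filter, true_and] at hc'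
    exact Nat.not_odd_iff_even.1 hc'
  swap
  · intro h hh h' hh' hcu
    obtain ⟨c, -, rfl⟩ := Finset.mem_image.1 hh
    obtain ⟨c', -, rfl⟩ := Finset.mem_image.1 hh'
    have e : (QuotientGroup.mk c'.out : PSL2 F ⧸ C) = QuotientGroup.mk c.out :=
      QuotientGroup.eq.2 (mem_centralizer_singleton_iff.2 hcu.eq)
    rw [QuotientGroup.out_eq', QuotientGroup.out_eq'] at e
    rw [e]
  rw [Finset.card_image_of_injective _ (fun a b h => by
    rw [← QuotientGroup.out_eq' a, h, QuotientGroup.out_eq'])]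
  -- injectivity of the conjugates
  have hinj : ∀ c c' : PSL2 F ⧸ C, ∀ a b : ℕ, ¬ p ∣ a →
      c.out * z ^ a * c.out⁻¹ = c'.out * z ^ b * c'.out⁻¹ → c = c' := by
    intro c c' a b ha h
    have h' : (c'.out⁻¹ * c.out) * z ^ a * (c'.out⁻¹ * c.out)⁻¹ = z ^ b := by
      calc (c'.out⁻¹ * c.out) * z ^ a * (c'.out⁻¹ * c.out)⁻¹
          = c'.out⁻¹ * (c.out * z ^ a * c.out⁻¹) * c'.out := by group
        _ = _ := by rw [h]; group
    have e : (QuotientGroup.mk c'.out : PSL2 F ⧸ C) = QuotientGroup.mk c.out :=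
      QuotientGroup.eq.2 (mem_centralizer_singleton_iff.2
        (hn.mem_centralizer_of_conj_pow hu hp hp2 hz hc ha h').eq)
    rw [QuotientGroup.out_eq', QuotientGroup.out_eq'] at e
    exact e.symm
  have hz1 : z ≠ 1 := fun e => by rw [e, orderOf_one] at hz; exact hp.ne_one hz.symm
  let fixed : Finset (Pt F) := Finset.univ.filter fun P => z • P = P
  let badAt : Pt F → Finset (PSL2 F ⧸ C) := fun P =>
    Finset.univ.filter fun c => z • P = P ∧ c.out * z * c.out⁻¹ ∈ stabilizer (PSL2 F) P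
  have hsub : bad ⊆ insert (QuotientGroup.mk 1) (fixed.biUnion badAt) := by
    intro c hc'
    simp only [bad, Finset.mem_filter, Finset.mem_univ, true_and] at hc'
    have hzX : z ∈ closure ({z, c.out * z * c.out⁻¹} : Set (PSL2 F)) := subset_closure (by simp)
    have hxX : c.out * z * c.out⁻¹ ∈ closure ({z, c.out * z * c.out⁻¹} : Set (PSL2 F)) :=
      subset_closure (by simp)
    rcases odd_subgroup_cases hn.odd_card hc' with hcy | ⟨P, hP⟩
    · refine Finset.mem_insert.2 (Or.inl ?_)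
      obtain ⟨g, hg⟩ := (Subgroup.isCyclic_iff_exists_zpowers_eq_top _).1 hcy
      rw [← hg] at hzX hxX
      obtain ⟨b, hb⟩ := mem_zpowers_iff.1 (mem_zpowers_of_pow_eq_one hxX hzX
        (by rw [hz, conj_pow, ← hz, pow_orderOf_eq_one, mul_one, mul_inv_cancel]))
      obtain ⟨b', hb'⟩ := (mem_powers_iff_mem_zpowers (x := z) (y := c.out * z * c.out⁻¹)).2 ⟨b, hb⟩
      simp only at hb'
      have hcu := hn.mem_centralizer_of_conj_pow (c := c.out) hu hp hp2 hz hc (a := 1) (b := b')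
        hp.not_dvd_one (by rw [pow_one, hb'])
      rw [← QuotientGroup.out_eq' c]
      exact QuotientGroup.eq.2
        (mul_mem (inv_mem (mem_centralizer_singleton_iff.2 hcu.eq)) (one_mem _))
    · refine Finset.mem_insert_of_mem (Finset.mem_biUnion.2 ⟨P, ?_, ?_⟩)
      · exact Finset.mem_filter.2 ⟨Finset.mem_univ _, hP hzX⟩
      · exact Finset.mem_filter.2 ⟨Finset.mem_univ _, hP hzX, hP hxX⟩
  have hfix : fixed.card ≤ 2 := card_fixed_le_two hz1
  have hbadAt : ∀ P, Nat.card F % 4 = 1 → (badAt P).card ≤ Nat.card F := by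
    intro P _
    obtain ⟨c₀, ψ, hc₀, hc₀p, hψ, hle⟩ := card_torsion_stabilizer_le P hp
    by_cases hemp : (badAt P).Nonempty
    swap
    · rw [Finset.not_nonempty_iff_eq_empty] at hemp
      simp [hemp]
    obtain ⟨c₁, hc₁⟩ := hemp
    have hzP : z • P = P := (Finset.mem_filter.1 hc₁).2.1
    have hzp : z ^ c₀ ≠ 1 := by
      intro e
      have h1 : p ∣ c₀ := hz ▸ orderOf_dvd_of_pow_eq_one e
      have h2 := hn.dvd_of_orderOf hu hp hp2 hz hc
      haveI : Fact c₀.Prime := ⟨hc₀p⟩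
      obtain ⟨k, hk, hcard⟩ := GLOrder.exists_card_eq_pow (F := F) c₀
      have h3 : p ∣ Nat.card F := h1.trans (hcard ▸ dvd_pow_self c₀ hk.ne')
      have h4 : p ∣ 4 * n := h2.mul_left 4
      rcases hn.eq with ⟨-, e'⟩ | ⟨-, e'⟩
      · exact hp.not_dvd_one ((Nat.dvd_add_right h4).1 (e' ▸ h3))
      · exact hp.not_dvd_one ((Nat.dvd_add_right h3).1 (e' ▸ h4))
    have hin : ∀ c ∈ badAt P, ∀ k : ℕ, c.out * z ^ k * c.out⁻¹ ∈ stabilizer (PSL2 F) P := by
      intro c hc' k
      rw [← conj_pow]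
      exact pow_mem (Finset.mem_filter.1 hc').2.2 k
    have hzp' : z ^ p = 1 := hz ▸ pow_orderOf_eq_one z
    have hmem : ∀ c, (hc' : c ∈ badAt P) → ∀ a : Fin (p - 1),
        ψ ⟨_, hin c hc' (a.1 + 1)⟩ ^ p = 1 ∧ ψ ⟨_, hin c hc' (a.1 + 1)⟩ ≠ 1 := by
      intro c hc' a
      constructor
      · rw [← map_pow]
        refine (congrArg ψ (Subtype.ext ?_)).trans (map_one ψ)
        show (c.out * z ^ (a.1 + 1) * c.out⁻¹) ^ p = 1
        rw [conj_pow, ← pow_mul, mul_comm, pow_mul, hzp', one_pow, mul_one, mul_inv_cancel]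
      · intro e
        have e' := (hψ _).1 e
        simp only [conj_pow, conj_eq_one_iff, ← pow_mul, ← orderOf_dvd_iff_pow_eq_one, hz] at e'
        rcases hp.dvd_mul.1 e' with h | h
        · have := Nat.le_of_dvd (by omega) h
          omega
        · exact hzp (orderOf_dvd_iff_pow_eq_one.1 (hz ▸ h))
    have hle' : Nat.card ({c // c ∈ badAt P} × Fin (p - 1)) ≤ Nat.card F * (p - 1) := by
      refine le_trans (Nat.card_le_card_of_injective (fun ca =>
        (⟨_, hmem ca.1.1 ca.1.2 ca.2⟩ : {x : stabilizer (PSL2 F) P // ψ x ^ p = 1 ∧ ψ x ≠ 1}))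
        fun x y h => ?_) hle
      have h' : x.1.1.out * z ^ (x.2.1 + 1) * x.1.1.out⁻¹ = y.1.1.out * z ^ (y.2.1 + 1) * y.1.1.out⁻¹ :=
        congrArg Subtype.val (congrArg Subtype.val h)
      have hcc := hinj _ _ _ _ (fun hd => absurd (Nat.le_of_dvd (by omega) hd) (by omega)) h'
      rw [hcc, mul_left_inj, mul_right_inj] at h'
      have := (pow_inj_mod.1 h')
      rw [hz, Nat.mod_eq_of_lt (by omega), Nat.mod_eq_of_lt (by omega)] at this
      exact Prod.ext (Subtype.ext hcc) (Fin.ext (by omega))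
    rw [Nat.card_prod, Nat.card_fin, Nat.card_eq_fintype_card, Fintype.card_coe] at hle'
    exact Nat.le_of_mul_le_mul_right hle' (by have := hp.two_le; omega)
  have hbad : bad.card ≤ if Nat.card F % 4 = 1 then 1 + 2 * Nat.card F else 1 := by
    refine (Finset.card_le_card hsub).trans ?_
    split_ifs with h1
    · refine (Finset.card_insert_le _ _).trans ?_
      have := Finset.card_biUnion_le_card_mul fixed badAt (Nat.card F) (fun P _ => hbadAt P h1)
      nlinarith
    · refine (Finset.card_insert_le _ _).trans ?_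
      have : fixed.biUnion badAt = ∅ := by
        rw [Finset.eq_empty_iff_forall_notMem]
        intro c hc'
        obtain ⟨P, hP, -⟩ := Finset.mem_biUnion.1 hc'
        exfalso
        rw [Finset.mem_filter] at hP
        obtain ⟨c₀, hc₀⟩ := CharP.exists F
        haveI : Fact c₀.Prime := ⟨CharP.char_is_prime F c₀⟩
        obtain ⟨ψ, hψ⟩ := exists_borel_hom c₀ P
        haveI := Fintype.ofFinite F
        have h2 := hn.dvd_of_orderOf hu hp hp2 hz hc
        obtain ⟨k, hk, hcard⟩ := GLOrder.exists_card_eq_pow (F := F) c₀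
        rcases hn.eq with ⟨e, -⟩ | ⟨-, e⟩
        · exact h1 e
        have hord : orderOf (ψ ⟨z, hP.2⟩) ∣ p := orderOf_dvd_of_pow_eq_one (by
          rw [← map_pow]
          refine (congrArg ψ (Subtype.ext ?_)).trans (map_one ψ)
          show z ^ p = 1
          rw [← hz, pow_orderOf_eq_one])
        rcases (Nat.dvd_prime hp).1 hord with h0 | h0
        · have h3 : p ∣ c₀ := hz ▸ orderOf_dvd_of_pow_eq_one ((hψ _).1 (orderOf_eq_one_iff.1 h0))
          have h4 : p ∣ Nat.card F := h3.trans (hcard ▸ dvd_pow_self c₀ hk.ne')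
          exact hp.not_dvd_one ((Nat.dvd_add_right h4).1 (e ▸ h2.mul_left 4))
        · have h3 : p ∣ Nat.card F - 1 := by
            rw [← h0, ← Nat.card_units]
            exact orderOf_dvd_natCard _
          have h4 : p ∣ 2 := by
            have h5 := Nat.dvd_sub (e ▸ h2.mul_left 4 : p ∣ Nat.card F + 1) h3
            rwa [show Nat.card F + 1 - (Nat.card F - 1) = 2 by have := hn.three; omega] at h5
          exact hp2 ((Nat.prime_dvd_prime_iff_eq hp Nat.prime_two).1 h4)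
      rw [this, Finset.card_empty]
  have htot : good.card + bad.card = Nat.card (PSL2 F ⧸ C) := by
    rw [Nat.card_eq_fintype_card]
    simp only [good]
    rw [Finset.card_sdiff_of_subset (Finset.subset_univ _), Finset.card_univ]
    exact Nat.sub_add_cancel (Finset.card_le_univ _)
  have hidx : Nat.card (PSL2 F ⧸ C) * (4 * n) = Nat.card (PSL2 F) := by
    rw [← hn.card_centralizer hu]
    exact (card_eq_card_quotient_mul_card_subgroup C).symm
  have hpn : p ^ 2 ≤ n ^ 2 :=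
    Nat.pow_le_pow_left (Nat.le_of_dvd hn.pos (hn.dvd_of_orderOf hu hp hp2 hz hc)) 2
  have h2c := hn.two_mul_card
  have hn1 := hn.pos
  rcases hn.eq with ⟨hq, e⟩ | ⟨hq, e⟩
  · rw [if_pos hq] at hbad
    have hidx' : Nat.card (PSL2 F ⧸ C) = (4 * n + 1) * (2 * n + 1) := by
      rw [← hidx, ← e, Nat.add_sub_cancel] at h2c
      exact Nat.eq_of_mul_eq_mul_right (show 0 < 4 * n * 2 by omega) (by linarith)
    have : n ≤ n ^ 2 := Nat.le_self_pow two_ne_zero n
    nlinarith
  · rw [if_neg (by omega)] at hbad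
    obtain ⟨m, rfl⟩ : ∃ m, n = m + 1 := ⟨n - 1, by omega⟩
    have hq' : Nat.card F = 4 * m + 3 := by omega
    have hidx' : Nat.card (PSL2 F ⧸ C) = (4 * m + 3) * (2 * m + 1) := by
      rw [← hidx, hq', show 4 * m + 3 + 1 = 4 * (m + 1) by ring,
        show 4 * m + 3 - 1 = 2 * (2 * m + 1) by omega] at h2c
      exact Nat.eq_of_mul_eq_mul_right (show 0 < 4 * (m + 1) * 2 by omega) (by linarith)
    nlinarith

end TorusOrder

end Cfsg.Agent.GWKlein.L2
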