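import Cfsg.Agent.Lib.GWKlein.General.Defs
import Cfsg.Agent.Lib.GWKlein.Basic
import Cfsg.Agent.Lib.HallOrders.Basic
import Cfsg.Agent.Lib.DegThreeP.Two
import Cfsg.Agent.Lib.CharSimple.Basic
import Cfsg.Agent.Lib.PSL2.Soluble
import Cfsg.Agent.Lib.AbelianSylowTwo.SolvCent
import Cfsg.Agent.Lib.HalfClasses.Klein

/-!
# Gorenstein-Walter, Klein four Sylow 2-subgroups: the induction on the order

* `psl_arith`: the arithmetic of `PSL(2,q)` with a Klein four Sylow 2-subgroup.
* `isL2Like_of_klein`: a nonsolvable group whose Sylow 2-subgroups are at most four-groups is of type `L2(q)` when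
  the simple ones are known.
* `KleinStep`, `klein_of_step`, `kleinGW_of_step`, `kleinGWSolvable_of_step`, `dihedral_two_of_step`.
-/

set_option autoImplicit false

namespace Cfsg.Agent.GWKlein

open Subgroup

universe u

/-- The conclusion of the theorem. -/
def IsPSL2Klein (G : Type u) [Group G] : Prop :=
  ∃ (F : Type) (_ : Field F) (_ : Fintype F), (Fintype.card F % 8 = 3 ∨ Fintype.card F % 8 = 5) ∧
    3 < Fintype.card F ∧ Nonempty (G ≃* Matrix.ProjectiveSpecialLinearGroup (Fin 2) F)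

theorem psl_arith {T : Type u} [Group T] [Finite T] [IsSimpleGroup T] (hT : ¬ IsMulCommutative T)
    {F : Type} [Field F] [Fintype F] (hodd : Odd (Fintype.card F))
    (e : T ≃* Matrix.ProjectiveSpecialLinearGroup (Fin 2) F) (h8 : ¬ 8 ∣ Nat.card T) : IsPSL2Klein T := by
  obtain ⟨k, hk⟩ := hodd
  have hk' : Nat.card F = 2 * k + 1 := by rw [Nat.card_eq_fintype_card, hk]
  have hcard := PSL2.card_psl_mul (F := F)
  rw [← Nat.card_congr e.toEquiv, hk', show 2 * k + 1 - 1 = 2 * k by omega,
    show Nat.gcd 2 (2 * k) = 2 from Nat.gcd_eq_left (dvd_mul_right 2 k)] at hcard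
  refine ⟨F, inferInstance, inferInstance, ?_, ?_, ⟨e⟩⟩
  · rcases Nat.even_or_odd k with ⟨j, hj⟩ | ⟨j, hj⟩
    · rcases Nat.even_or_odd j with ⟨i, hi⟩ | ⟨i, hi⟩
      · exfalso
        subst hj hi
        exact h8 ⟨(8 * i + 1) * (4 * i + 1) * i, by ring_nf at hcard ⊢; omega⟩
      · omega
    · rcases Nat.even_or_odd j with ⟨i, hi⟩ | ⟨i, hi⟩
      · omega
      · exfalso
        subst hj hi
        exact h8 ⟨(8 * i + 7) * (i + 1) * (4 * i + 3), by ring_nf at hcard ⊢; omega⟩
  · have h1 : 1 < Fintype.card F := Fintype.one_lt_card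
    by_contra h3
    have hk1 : k = 1 := by omega
    subst hk1
    norm_num at hcard
    exact hT ⟨⟨IsSimpleGroup.comm_iff_isSolvable.2
      (PSL2.isSolvable_of_card_two_three (by simp; omega))⟩⟩

/-- A nonsolvable group with Sylow 2-subgroups inside a four-group is of type `L2(q)`. -/
theorem isL2Like_of_klein {Y : Type u} [Group Y] [Finite Y]
    (h8 : ¬ 8 ∣ Nat.card Y) (hexp : ∀ R : Subgroup Y, IsPGroup 2 R → ∀ x ∈ R, x * x = 1)
    (IH : ∀ (T : Type u) [Group T] [Finite T] [IsSimpleGroup T], Nat.card T ≤ Nat.card Y →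
      ¬ IsMulCommutative T → ∀ P : Sylow 2 T, IsKleinFour (P : Subgroup T) →
      ∃ (F : Type) (_ : Field F) (_ : Fintype F), Odd (Fintype.card F) ∧
        Nonempty (T ≃* Matrix.ProjectiveSpecialLinearGroup (Fin 2) F))
    (hns : ¬ Group.IsSolvable Y) : IsL2Like Y := by
  classical
  haveI := Fact.mk Nat.prime_two
  set O := Cfsg.oddCore Y with hO
  haveI hOs : Group.IsSolvable O := OddOrderTheorem.solvable (by
    rw [Nat.odd_iff, ← Nat.two_dvd_ne_zero]
    exact Cores.not_dvd_card_pPrimeCore)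
  have hQns : ¬ Group.IsSolvable (Y ⧸ O) := fun h =>
    hns ((Group.isSolvable_iff_subgroup_quotient O).2 ⟨hOs, h⟩)
  have hQO : Cfsg.pPrimeCore 2 (Y ⧸ O) = ⊥ := Cores.pPrimeCore_quotient_self 2
  haveI : Nontrivial (Y ⧸ O) := not_subsingleton_iff_nontrivial.1 fun h => hQns inferInstance
  have hQ8 : ¬ 8 ∣ Nat.card (Y ⧸ O) := fun h => h8 (h.trans (card_quotient_dvd_card O))
  obtain ⟨N, ⟨hN, hN0⟩, hmin⟩ := (Set.toFinite {N : Subgroup (Y ⧸ O) | N.Normal ∧ N ≠ ⊥}).exists_minimal
    ⟨⊤, inferInstance, top_ne_bot⟩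
  haveI := hN
  haveI : Nontrivial N := (Subgroup.nontrivial_iff_ne_bot N).2 hN0
  obtain ⟨T, _, hTs, k, hk, ⟨φ⟩⟩ := CharSimple.exists_pi_simple (G := N) fun H hH => by
    by_cases h : H = ⊥
    · exact Or.inl h
    refine Or.inr (eq_top_iff.2 fun x _ => ?_)
    haveI := hH
    have hnor : (H.map N.subtype).Normal := Cores.map_subtype_normal_of_characteristic N H
    have hle : N ≤ H.map N.subtype := hmin ⟨hnor, fun e =>
      h ((map_eq_bot_iff_of_injective H N.subtype_injective).1 e)⟩ (map_subtype_le H)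
    obtain ⟨y, hy, hyx⟩ := hle x.2
    rwa [← Subtype.ext hyx]
  haveI : Finite T := Finite.of_injective _ ((φ.symm.injective).comp
    (Pi.mulSingle_injective (M := fun _ : Fin k => T) ⟨0, hk⟩))
  have hNcard : Nat.card N = Nat.card T ^ k := by
    rw [Nat.card_congr φ.toEquiv, Nat.card_fun, Nat.card_fin]
  by_cases hTc : IsMulCommutative T
  · -- an abelian minimal normal subgroup makes the quotient solvable
    exfalso
    have hq : (Nat.card T).Prime := by
      letI : CommGroup T := { (inferInstance : Group T) with mul_comm := fun a b => hTc.is_comm.comm a b }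
      exact IsSimpleGroup.prime_card
    have h2 : Nat.card T = 2 := by
      by_contra h2
      have : N ≤ Cfsg.pPrimeCore 2 (Y ⧸ O) := Cores.le_pPrimeCore hN (by
        rw [hNcard]
        exact Nat.Coprime.pow_left _ ((Nat.coprime_primes hq Nat.prime_two).2 h2))
      rw [hQO, le_bot_iff] at this
      exact hN0 this
    have hNp : IsPGroup 2 N := IsPGroup.of_card (n := k) (by rw [hNcard, h2])
    haveI hNsol : Group.IsSolvable N := by haveI := hNp.isNilpotent; infer_instance
    obtain ⟨S⟩ := (inferInstance : Nonempty (Sylow 2 Y))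
    set Sb : Sylow 2 (Y ⧸ O) := S.mapSurjective (QuotientGroup.mk'_surjective O)
    have hab : ∀ a ∈ (Sb : Subgroup (Y ⧸ O)), ∀ b ∈ (Sb : Subgroup (Y ⧸ O)), a * b = b * a := by
      rintro _ ⟨a, ha, rfl⟩ _ ⟨b, hb, rfl⟩
      have ha2 := hexp S S.2 a ha
      have hb2 := hexp S S.2 b hb
      have hab2 := hexp S S.2 _ (mul_mem ha hb)
      rw [← map_mul, ← map_mul]
      congr 1
      calc a * b = (a * b)⁻¹ := (inv_eq_of_mul_eq_one_right hab2).symm
        _ = b * a := by rw [mul_inv_rev, inv_eq_of_mul_eq_one_right hb2, inv_eq_of_mul_eq_one_right ha2]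
    have hNS : N ≤ (Sb : Subgroup (Y ⧸ O)) := (Cores.le_pCore hN hNp).trans (Cores.pCore_le_sylow Sb)
    set C := centralizer (N : Set (Y ⧸ O)) with hC
    have hSC : (Sb : Subgroup (Y ⧸ O)) ≤ C := fun x hx =>
      mem_centralizer_iff.2 fun y hy => hab y (hNS hy) x hx
    have hNC : N ≤ C := hNS.trans hSC
    have hQC : Group.IsSolvable ((Y ⧸ O) ⧸ C) := OddOrderTheorem.solvable (by
      rw [← index_eq_card, Nat.odd_iff, ← Nat.two_dvd_ne_zero]
      exact fun h => Sb.not_dvd_index (h.trans (index_dvd_of_le hSC)))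
    have hCs : Group.IsSolvable C := by
      haveI : Group.IsSolvable (N.subgroupOf C) :=
        Group.isSolvable_of_surjective (f := (subgroupOfEquivOfLe hNC).symm.toMonoidHom)
          (subgroupOfEquivOfLe hNC).symm.surjective
      refine (Group.isSolvable_iff_subgroup_quotient (N.subgroupOf C)).2 ⟨inferInstance,
        HallOrders.solvable_of_not_four_dvd fun h4 => hQ8 ?_⟩
      have h := (N.subgroupOf C).card_eq_card_quotient_mul_card_subgroup
      have h2' : 2 ∣ Nat.card (N.subgroupOf C) := by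
        rw [Cores.card_subgroupOf hNC, hNcard, h2]; exact dvd_pow_self 2 (by omega)
      exact (show 8 ∣ Nat.card C by rw [h]; exact Nat.mul_dvd_mul h4 h2').trans (card_subgroup_dvd_card C)
    exact hQns ((Group.isSolvable_iff_subgroup_quotient C).2 ⟨hCs, hQC⟩)
  -- the nonabelian case
  have h2T : 2 ∣ Nat.card T := by
    by_contra h
    exact hTc ⟨⟨IsSimpleGroup.comm_iff_isSolvable.2 (OddOrderTheorem.solvable (Nat.odd_iff.2 (by omega)))⟩⟩
  have h4T : 4 ∣ Nat.card T := DegThreeP.four_dvd_card hTc h2T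
  have hk1 : k = 1 := by
    by_contra hne
    refine hQ8 ((show 8 ∣ Nat.card N from ?_).trans (card_subgroup_dvd_card N))
    rw [hNcard]
    exact (show 8 ∣ 4 ^ 2 by norm_num).trans ((pow_dvd_pow_of_dvd h4T 2).trans (pow_dvd_pow _ (by omega)))
  subst hk1
  rw [pow_one] at hNcard
  let eN : N ≃* T := φ.trans (MulEquiv.piUnique fun _ : Fin 1 => T)
  haveI : IsSimpleGroup N := IsSimpleGroup.isSimpleGroup_of_surjective eN.symm.toMonoidHom eN.symm.surjective
  have hNna : ¬ IsMulCommutative N := fun h => hTc ⟨⟨fun a b => eN.symm.injective (by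
    rw [map_mul, map_mul]; exact h.is_comm.comm _ _)⟩⟩
  have hN4 : 4 ∣ Nat.card N := hNcard ▸ h4T
  have hN8 : ¬ 8 ∣ Nat.card N := fun h => hQ8 (h.trans (card_subgroup_dvd_card N))
  -- its Sylow 2-subgroups are four-groups
  obtain ⟨P⟩ := (inferInstance : Nonempty (Sylow 2 N))
  have hPk : IsKleinFour (P : Subgroup N) := by
    obtain ⟨j, hj⟩ := P.2.exists_card_eq
    have hj2 : j = 2 := by
      have hd1 : 2 ^ 2 ∣ Nat.card (P : Subgroup N) := P.pow_dvd_card_of_pow_dvd_card (by simpa using hN4)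
      rw [hj] at hd1
      have h1 : 2 ≤ j := Nat.pow_dvd_pow_iff_le_right (x := 2) (by norm_num) |>.1 hd1
      by_contra hne
      exact hN8 (((pow_dvd_pow 2 (show 3 ≤ j by omega)).trans hj.symm.dvd).trans (card_subgroup_dvd_card _))
    subst hj2
    have h4' : Nat.card (P : Subgroup N) = 4 := by rw [hj]; norm_num
    refine HalfClasses.isKleinFour_of_sq h4' fun v hv => Subtype.ext ?_
    obtain ⟨S, hS⟩ := (P.2.map N.subtype).exists_le_sylow
    obtain ⟨S', hS'⟩ := Sylow.mapSurjective_surjective (QuotientGroup.mk'_surjective O) 2 S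
    have hv' : (v : Y ⧸ O) ∈ (S' : Subgroup Y).map (QuotientGroup.mk' O) := by
      rw [← Sylow.coe_mapSurjective (QuotientGroup.mk'_surjective O), hS']
      exact hS ⟨v, hv, rfl⟩
    obtain ⟨y, hy, hyv⟩ := hv'
    show (v : Y ⧸ O) * v = 1
    rw [← hyv, ← map_mul, hexp S' S'.2 y hy, map_one]
  obtain ⟨F, _, _, hodd, ⟨e⟩⟩ := IH N ((card_le_card_group N).trans
    (Nat.le_of_dvd Nat.card_pos (card_quotient_dvd_card O))) hNna P hPk
  obtain ⟨F', hF1, hF2, hm8, h3, ⟨e'⟩⟩ := psl_arith hNna hodd e hN8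
  refine ⟨F', hF1, hF2, hm8, h3, N, hN, ?_, ⟨e'⟩⟩
  -- its centraliser is trivial
  set C := centralizer (N : Set (Y ⧸ O)) with hC
  have hinf : N ⊓ C = ⊥ := by
    rw [eq_bot_iff]
    rintro x ⟨hxN, hxC⟩
    rcases IsSimpleGroup.eq_bot_or_eq_top_of_normal (center N) inferInstance with hb | hb
    · have : (⟨x, hxN⟩ : N) ∈ center N := mem_center_iff.2 fun y =>
        Subtype.ext (mem_centralizer_iff.1 hxC y y.2)
      rw [hb, mem_bot] at this
      exact congrArg Subtype.val this
    · exact (hNna ⟨⟨fun a b => (mem_center_iff.1 (hb ▸ mem_top b) a)⟩⟩).elim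
  have hCodd : (Nat.card C).Coprime 2 := by
    refine ((Nat.Prime.coprime_iff_not_dvd Nat.prime_two).2 fun hd => hQ8 ?_).symm
    let ψ : C →* (Y ⧸ O) ⧸ N := (QuotientGroup.mk' N).comp C.subtype
    have hψ : Function.Injective ψ := (injective_iff_map_eq_one ψ).2 fun x hx => Subtype.ext (by
      have h1 : (x : Y ⧸ O) ∈ N ⊓ C := ⟨(QuotientGroup.eq_one_iff _).1 hx, x.2⟩
      rw [hinf, mem_bot] at h1
      exact h1)
    rw [N.card_eq_card_quotient_mul_card_subgroup]
    exact (show 8 ∣ 2 * 4 by norm_num).trans (Nat.mul_dvd_mul (hd.trans (card_dvd_of_injective ψ hψ)) hN4)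
  have := Cores.le_pPrimeCore (inferInstance : C.Normal) hCodd
  rwa [hQO, le_bot_iff] at this

/-- The step of the induction. -/
def KleinStep : Prop :=
  ∀ (G : Type u) [Group G] [Finite G] [IsSimpleGroup G], ¬ IsMulCommutative G →
    ∀ P : Sylow 2 G, IsKleinFour (P : Subgroup G) → ProperL2Like G →
      ∃ (F : Type) (_ : Field F) (_ : Fintype F), Odd (Fintype.card F) ∧
        Nonempty (G ≃* Matrix.ProjectiveSpecialLinearGroup (Fin 2) F)

/-- Proper subgroups are solvable or of type `L2(q)` when smaller simple groups are known. -/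
theorem properL2Like_of_ih {G : Type u} [Group G] [Finite G] (P : Sylow 2 G)
    (hP : IsKleinFour (P : Subgroup G))
    (IH : ∀ (T : Type u) [Group T] [Finite T] [IsSimpleGroup T], Nat.card T < Nat.card G →
      ¬ IsMulCommutative T → ∀ Q : Sylow 2 T, IsKleinFour (Q : Subgroup T) →
      ∃ (F : Type) (_ : Field F) (_ : Fintype F), Odd (Fintype.card F) ∧
        Nonempty (T ≃* Matrix.ProjectiveSpecialLinearGroup (Fin 2) F)) :
    ProperL2Like G := by
  haveI := Fact.mk Nat.prime_two
  intro H hH hns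
  have h8 : ¬ 8 ∣ Nat.card G := fun h => by
    have h' := P.pow_dvd_card_of_pow_dvd_card (n := 3) (by simpa using h)
    rw [hP.card_four] at h'
    norm_num at h'
  refine isL2Like_of_klein (fun h => h8 (h.trans (card_subgroup_dvd_card H))) (fun R hR x hx => ?_)
    (fun T _ _ _ hle => IH T (lt_of_le_of_lt hle ?_)) hns
  · obtain ⟨Q, hQ⟩ := (hR.map H.subtype).exists_le_sylow
    let y : (Q : Subgroup G) := ⟨x, hQ ⟨x, hx, rfl⟩⟩
    have h := congrArg (fun z : (Q : Subgroup G) => (z : G))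
      ((Q.equiv P).injective (a₁ := y * y) (a₂ := 1) (by
        haveI := hP
        rw [map_mul, map_one, IsKleinFour.mul_self]))
    exact Subtype.ext h
  · exact lt_of_le_of_ne (card_le_card_group H) fun e => hH (eq_top_of_card_eq H e)

/-- The Klein four case from the step. -/
theorem klein_of_step (step : KleinStep.{u}) : ∀ (G : Type u) [Group G] [Finite G] [IsSimpleGroup G],
    ¬ IsMulCommutative G → ∀ P : Sylow 2 G, IsKleinFour (P : Subgroup G) →
      ∃ (F : Type) (_ : Field F) (_ : Fintype F), Odd (Fintype.card F) ∧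
        Nonempty (G ≃* Matrix.ProjectiveSpecialLinearGroup (Fin 2) F) := by
  suffices hn : ∀ (n : ℕ) (G : Type u) [Group G] [Finite G] [IsSimpleGroup G], Nat.card G = n →
      ¬ IsMulCommutative G → ∀ P : Sylow 2 G, IsKleinFour (P : Subgroup G) →
      ∃ (F : Type) (_ : Field F) (_ : Fintype F), Odd (Fintype.card F) ∧
        Nonempty (G ≃* Matrix.ProjectiveSpecialLinearGroup (Fin 2) F) from
    fun G _ _ _ => hn _ G rfl
  intro n
  induction n using Nat.strong_induction_on with
  | _ n ih =>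
    intro G _ _ _ hn hna P hP
    exact step G hna P hP (properL2Like_of_ih P hP fun T _ _ _ hlt => ih _ (hn ▸ hlt) T rfl)

theorem kleinGW_of_step (step : KleinStep.{u}) : HalfClasses.KleinGW.{u} :=
  fun G _ _ hs hna P hP => @klein_of_step step G _ _ hs hna P hP

theorem kleinGWSolvable_of_step (step : KleinStep.{u}) : AbelianSylowTwo.KleinGWSolvable.{u} := by
  intro G _ _ _ hna P hP _
  obtain ⟨F, _, _, hodd, ⟨e⟩⟩ := klein_of_step step G hna P hP
  haveI := Fact.mk Nat.prime_two
  obtain ⟨F', hF1, hF2, h8, h3, he⟩ := psl_arith hna hodd e fun h => by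
    have h' := P.pow_dvd_card_of_pow_dvd_card (n := 3) (by simpa using h)
    rw [hP.card_four] at h'
    norm_num at h'
  exact ⟨F', hF1, hF2, ⟨h8, by omega⟩, he⟩

/-- The order four case of the dihedral theorem. -/
theorem dihedral_two_of_step (step : KleinStep.{u}) (G : Type u) [Group G] [Finite G] (hs : IsSimpleGroup G)
    (hna : ¬ IsMulCommutative G) (S : Sylow 2 G) (hS : Nonempty ((S : Subgroup G) ≃* DihedralGroup 2)) :
    ∃ (F : Type) (_ : Field F) (_ : Fintype F), Odd (Fintype.card F) ∧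
      Nonempty (G ≃* Matrix.ProjectiveSpecialLinearGroup (Fin 2) F) := by
  obtain ⟨e⟩ := hS
  have hsq : ∀ d : DihedralGroup 2, d * d = 1 := by decide
  have h4 : Nat.card (S : Subgroup G) = 4 := by
    rw [Nat.card_congr e.toEquiv, DihedralGroup.nat_card]
  refine @klein_of_step step G _ _ hs hna S (HalfClasses.isKleinFour_of_sq h4 fun v hv => ?_)
  exact congrArg Subtype.val (e.injective (a₁ := (⟨v, hv⟩ : (S : Subgroup G)) * ⟨v, hv⟩) (a₂ := 1)
    (by rw [map_mul, hsq, map_one]))

end Cfsg.Agent.GWKlein
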