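import Cfsg.Agent.Lib.GWKlein.General.Step
import Cfsg.Agent.Lib.GWKlein.General.Induction

/-!
# Gorenstein-Walter: Klein four Sylow 2-subgroups

* `kleinGW`, `kleinGWSolvable`, `dihedral_two`: the theorem in the forms used by the consumers
-/

set_option autoImplicit false

namespace Cfsg.Agent.GWKlein

universe u

theorem kleinStep : KleinStep.{u} := fun G _ _ _ _ P hP hind => by
  haveI := hP
  exact psl_of_properL2Like P hind

/-- **Gorenstein-Walter, Klein four case**. -/
theorem kleinGW : HalfClasses.KleinGW.{u} := kleinGW_of_step kleinStep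

theorem kleinGWSolvable : AbelianSylowTwo.KleinGWSolvable.{u} := kleinGWSolvable_of_step kleinStep

theorem dihedral_two (G : Type u) [Group G] [Finite G] (hs : IsSimpleGroup G) (hna : ¬ IsMulCommutative G)
    (S : Sylow 2 G) (hS : Nonempty ((S : Subgroup G) ≃* DihedralGroup 2)) :
    ∃ (F : Type) (_ : Field F) (_ : Fintype F), Odd (Fintype.card F) ∧
      Nonempty (G ≃* Matrix.ProjectiveSpecialLinearGroup (Fin 2) F) :=
  dihedral_two_of_step kleinStep G hs hna S hS

end Cfsg.Agent.GWKlein
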