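import Cfsg.Agent.Lib.GWKlein.General.L2Facts
import Cfsg.Agent.Lib.PSL2.KleinCentre
import Cfsg.Agent.S0276
import Cfsg.Agent.Lib.Coprime.Basic

/-!
# Gorenstein-Walter, Klein general case: a normal `PSL(2,q)` containing the Sylow four-group (helper64)

`Embedded ι t r`: `ι : PSL(2,q) → K` is injective with normal image and `⟨t, r⟩` is a Sylow 2-subgroup of `K`.
-/

set_option autoImplicit false
set_option linter.unusedSectionVars false
set_option linter.style.haveILetI false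

namespace Cfsg.Agent.GWKlein.L2

open Subgroup Cfsg.Agent.PSL2

universe v

/-- Cardinalities inside `L ⊔ B` with `L` normal. -/
theorem card_mul_of_decomp {K : Type v} [Group K] [Finite K] (L : Subgroup K) [L.Normal]
    {B M : Subgroup K} (hB : B ≤ M) (hM : M ≤ L ⊔ B) :
    Nat.card M * Nat.card (L ⊓ B : Subgroup K) = Nat.card (L ⊓ M : Subgroup K) * Nat.card B := by
  have key : ∀ X : Subgroup K, Nat.card X = Nat.card (L ⊓ X : Subgroup K) * L.relIndex X := by
    intro X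
    rw [← inf_relIndex_right, relIndex, ← Nat.card_congr (subgroupOfEquivOfLe
      (inf_le_right : L ⊓ X ≤ X)).toEquiv]
    exact (card_mul_index _).symm
  have e : L.relIndex M = L.relIndex B := by
    rw [← relIndex_sup_left (K := L) M, ← relIndex_sup_left (K := L) B]
    congr 1
    exact le_antisymm (sup_le le_sup_left hM) (sup_le le_sup_left (hB.trans le_sup_right))
  rw [key M, key B, e]
  ring

variable {F : Type} [Field F] [Finite F] {K : Type v} [Group K] [Finite K]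

/-- `ι` embeds `PSL(2,q)` normally and `⟨t, r⟩` is a Sylow 2-subgroup. -/
structure Embedded (ι : PSL2 F →* K) (t r : K) : Prop where
  inj : Function.Injective ι
  normal : ι.range.Normal
  eight : Nat.card F % 8 = 3 ∨ Nat.card F % 8 = 5
  ne_t : t ≠ 1
  ne_r : r ≠ 1
  ne : t ≠ r
  sq_t : t * t = 1
  sq_r : r * r = 1
  comm : Commute t r
  mem : ∀ x ∈ closure ({t, r} : Set K), x = 1 ∨ x = t ∨ x = r ∨ x = t * r
  pgroup : IsPGroup 2 (closure ({t, r} : Set K))
  max : ∀ S : Subgroup K, IsPGroup 2 S → closure ({t, r} : Set K) ≤ S → S = closure ({t, r} : Set K)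

namespace Embedded

variable {ι : PSL2 F →* K} {t r : K} (E : Embedded ι t r)
include E

theorem odd_q : Odd (Nat.card F) := Nat.odd_iff.2 (by rcases E.eight with h | h <;> omega)

theorem klein (P : Sylow 2 (PSL2 F)) : IsKleinFour (P : Subgroup (PSL2 F)) :=
  haveI := Fintype.ofFinite F
  Cfsg.Agent.S0276.result Nat.card_eq_fintype_card.symm E.eight P

theorem fourData : FourData (PSL2 F) := by
  refine PSL2.fourData E.odd_q fun P => ?_
  haveI := E.klein P
  exact ⟨⟨fun a b => mul_comm_of_exponent_two IsKleinFour.exponent_two a b⟩⟩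

theorem t_mem : t ∈ closure ({t, r} : Set K) := subset_closure (Set.mem_insert _ _)

theorem r_mem : r ∈ closure ({t, r} : Set K) := subset_closure (Set.mem_insert_of_mem _ rfl)

theorem mul_ne_one : t * r ≠ 1 := fun e => E.ne <| by
  rw [eq_inv_of_mul_eq_one_left e, inv_eq_of_mul_eq_one_right E.sq_r]

theorem card_T : Nat.card (closure ({t, r} : Set K)) = 4 := by
  have e : (closure ({t, r} : Set K) : Set K) = {1, t, r, t * r} := by
    ext x
    simp only [SetLike.mem_coe, Set.mem_insert_iff, Set.mem_singleton_iff]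
    refine ⟨E.mem x, ?_⟩
    rintro (rfl | rfl | rfl | rfl)
    exacts [one_mem _, E.t_mem, E.r_mem, mul_mem E.t_mem E.r_mem]
  rw [← SetLike.coe_sort_coe, e, Nat.card_coe_set_eq]
  have h1 : t * r ≠ t := fun e => E.ne_r (mul_eq_left.1 e)
  have h2 : t * r ≠ r := fun e => E.ne_t (mul_eq_right.1 e)
  rw [Set.ncard_insert_of_notMem, Set.ncard_insert_of_notMem, Set.ncard_pair (Ne.symm h2)]
  · simp [E.ne, h1.symm]
  · simp [E.ne_t.symm, E.ne_r.symm, E.mul_ne_one.symm]

theorem le_range : closure ({t, r} : Set K) ≤ ι.range := by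
  haveI := E.normal
  obtain ⟨P⟩ : Nonempty (Sylow 2 (PSL2 F)) := inferInstance
  obtain ⟨S, hS⟩ := (P.isPGroup'.map ι).exists_le_sylow
  let T' : Sylow 2 K :=
    { toSubgroup := closure ({t, r} : Set K)
      isPGroup' := E.pgroup
      is_maximal' := fun {Q} hQ hle => E.max Q hQ hle }
  obtain ⟨g, hg⟩ := MulAction.exists_smul_eq K S T'
  have hle : ((P : Subgroup (PSL2 F)).map ι).map (MulAut.conj g).toMonoidHom ≤ closure ({t, r} : Set K) := by
    rintro _ ⟨x, hx, rfl⟩
    have h1 : MulAut.conj g • x ∈ ((g • S : Sylow 2 K) : Subgroup K) := ⟨x, hS hx, rfl⟩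
    rw [hg] at h1
    exact h1
  have heq := eq_of_le_of_card_ge hle (by
    rw [card_map_of_injective (MulAut.conj g).injective, card_map_of_injective E.inj,
      (E.klein P).card_four, E.card_T])
  rw [← heq]
  rintro _ ⟨_, ⟨x, hx, rfl⟩, rfl⟩
  exact ι.range.mul_mem_cancel_left (one_mem _) |>.1 (by
    simpa using E.normal.conj_mem _ (MonoidHom.mem_range.2 ⟨x, rfl⟩) g)

/-- The preimages of `t` and `r`. -/
theorem exists_preimages : ∃ u v : PSL2 F, ι u = t ∧ ι v = r ∧ orderOf u = 2 ∧ orderOf v = 2 := by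
  obtain ⟨u, hu⟩ := E.le_range E.t_mem
  obtain ⟨v, hv⟩ := E.le_range E.r_mem
  refine ⟨u, v, hu, hv, ?_, ?_⟩
  · rw [← orderOf_injective ι E.inj, hu]
    exact orderOf_eq_prime (by rw [pow_two, E.sq_t]) E.ne_t
  · rw [← orderOf_injective ι E.inj, hv]
    exact orderOf_eq_prime (by rw [pow_two, E.sq_r]) E.ne_r

/-- The preimage of the four-group is a Sylow 2-subgroup of `PSL(2,q)`. -/
theorem exists_sylow : ∃ P : Sylow 2 (PSL2 F), (P : Subgroup (PSL2 F)) = (closure ({t, r} : Set K)).comap ι := by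
  obtain ⟨P, hP⟩ := (E.pgroup.comap_of_injective ι E.inj).exists_le_sylow
  refine ⟨P, (eq_of_le_of_card_ge hP (le_of_eq ?_)).symm⟩
  rw [(E.klein P).card_four, ← card_map_of_injective E.inj, map_comap_eq_self E.le_range, E.card_T]

theorem eq_four {x : PSL2 F} (ht : Commute (ι x) t) (hr : Commute (ι x) r) :
    ι x ∈ closure ({t, r} : Set K) := by
  obtain ⟨P, hP⟩ := E.exists_sylow
  obtain ⟨u, v, hu, hv, -, -⟩ := E.exists_preimages
  have hx : x ∈ (P : Subgroup (PSL2 F)) := E.fourData.cent _ (E.klein P) x fun w hw => by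
    rw [hP, mem_comap] at hw
    refine E.inj ?_
    rw [map_mul, map_mul]
    rcases E.mem _ hw with e | e | e | e <;> rw [e]
    exacts [(Commute.one_right _).eq, ht.eq, hr.eq, (ht.mul_right hr).eq]
  rw [hP] at hx
  exact hx

/-- An element normalising the four-group centralises what its square centralises. -/
theorem commute_of_sq {y w : K} (hn : y ∈ normalizer (closure ({t, r} : Set K) : Set K))
    (hw : w ∈ closure ({t, r} : Set K)) (h2 : Commute (y ^ 2) w) : Commute y w := by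
  obtain ⟨k, m, hm, hkm⟩ := Nat.exists_eq_two_pow_mul_odd (orderOf_pos y).ne'
  have h2g : IsPGroup 2 (zpowers (y ^ m) ⊔ closure ({t, r} : Set K) : Subgroup K) := by
    refine IsPGroup.to_sup_of_normal_right' (IsPGroup.of_card (n := k) ?_) E.pgroup
      (zpowers_le.2 (pow_mem hn m))
    rw [Nat.card_zpowers, orderOf_pow_of_dvd hm.pos.ne' (hkm ▸ dvd_mul_left m _), hkm,
      Nat.mul_div_cancel _ hm.pos]
  have hym : y ^ m ∈ closure ({t, r} : Set K) := by
    rw [← E.max _ h2g le_sup_right]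
    exact mem_sup_left (mem_zpowers _)
  haveI : IsMulCommutative (closure ({t, r} : Set K)) := isMulCommutative_closure (by
    rintro a (rfl | rfl) b (rfl | rfl)
    exacts [rfl, E.comm.eq, E.comm.symm.eq, rfl])
  have hc : Commute (y ^ m) w :=
    congrArg Subtype.val (IsMulCommutative.is_comm.comm (⟨_, hym⟩ : closure ({t, r} : Set K)) ⟨w, hw⟩)
  obtain ⟨j, rfl⟩ := hm
  rw [show y = y ^ (2 * j + 1) * ((y ^ 2) ^ j)⁻¹ by rw [← pow_mul, pow_succ', mul_inv_cancel_right]]
  exact hc.mul_left (h2.pow_left j).inv_left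

/-- An element normalising the four-group and fixing `t` fixes `r`. -/
theorem commute_r_of_fix {y : K} (hn : y ∈ normalizer (closure ({t, r} : Set K) : Set K))
    (ht : Commute y t) : Commute y r := by
  set T := closure ({t, r} : Set K)
  have hyr : y * r * y⁻¹ ∈ T := (mem_normalizer_iff.1 hn r).1 E.r_mem
  have h1 : y * t * y⁻¹ = t := by rw [ht.eq, mul_inv_cancel_right]
  rcases E.mem _ hyr with e | e | e | e
  · exact absurd (conj_eq_one_iff.1 e) E.ne_r
  · exact absurd (mul_left_cancel (mul_right_cancel (e.trans h1.symm))).symm E.ne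
  · exact mul_inv_eq_iff_eq_mul.1 e
  · refine E.commute_of_sq hn E.r_mem (mul_inv_eq_iff_eq_mul.1 ?_)
    calc y ^ 2 * r * (y ^ 2)⁻¹ = y * (y * r * y⁻¹) * y⁻¹ := by simp [pow_two, mul_assoc]
      _ = y * t * y⁻¹ * (y * r * y⁻¹) := by nth_rewrite 1 [e]; simp [mul_assoc]
      _ = r := by rw [e, h1, ← mul_assoc, E.sq_t, one_mul]

/-- An element of `L` permuting `t, r, t r` cyclically. -/
theorem exists_cycle : ∃ m : PSL2 F, ι m * t * (ι m)⁻¹ = r ∧ ι m * r * (ι m)⁻¹ = t * r := by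
  obtain ⟨u, v, hu, hv, hu2, hv2⟩ := E.exists_preimages
  obtain ⟨g, hg⟩ := isConj_iff.1 (involution_isConj E.odd_q hu2 hv2)
  obtain ⟨P, hP⟩ := E.exists_sylow
  have hmem : ∀ w, w ∈ (P : Subgroup (PSL2 F)) ↔ ι w ∈ closure ({t, r} : Set K) := fun w => by
    rw [hP, mem_comap]
  have hPC : ∀ Q : Sylow 2 (PSL2 F), v ∈ (Q : Subgroup (PSL2 F)) →
      (Q : Subgroup (PSL2 F)) ≤ centralizer ({v} : Set (PSL2 F)) := fun Q hQ w hw =>
    mem_centralizer_singleton_iff.2 ((PSL2.klein_comm (E.klein Q) hw hQ).2 : _)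
  have hvP : v ∈ (P : Subgroup (PSL2 F)) := (hmem v).2 (hv ▸ E.r_mem)
  have hvg : v ∈ ((g • P : Sylow 2 (PSL2 F)) : Subgroup (PSL2 F)) :=
    ⟨u, (hmem u).2 (hu ▸ E.t_mem), hg⟩
  obtain ⟨c, hc⟩ := MulAction.exists_smul_eq (centralizer ({v} : Set (PSL2 F)))
    ((g • P).subtype (hPC _ hvg)) (P.subtype (hPC _ hvP))
  have hcg : ∀ w ∈ (P : Subgroup (PSL2 F)),
      (c : PSL2 F) * g * w * ((c : PSL2 F) * g)⁻¹ ∈ (P : Subgroup (PSL2 F)) := by
    intro w hw
    have hgw : g * w * g⁻¹ ∈ ((g • P : Sylow 2 (PSL2 F)) : Subgroup (PSL2 F)) := ⟨w, hw, rfl⟩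
    have h1 : (MulAut.conj c) ⟨g * w * g⁻¹, hPC _ hvg hgw⟩ ∈
        ((c • (g • P).subtype (hPC _ hvg) : Sylow 2 (centralizer ({v} : Set (PSL2 F)))) :
          Subgroup (centralizer ({v} : Set (PSL2 F)))) :=
      ⟨⟨g * w * g⁻¹, hPC _ hvg hgw⟩, hgw, rfl⟩
    rw [hc] at h1
    have h2 : (c : PSL2 F) * (g * w * g⁻¹) * (c : PSL2 F)⁻¹ ∈ (P : Subgroup (PSL2 F)) := h1
    simpa [mul_assoc] using h2
  set m := (c : PSL2 F) * g with hm
  have hmu : m * u * m⁻¹ = v := by
    have hcv : (c : PSL2 F) * v = v * c := mem_centralizer_singleton_iff.1 c.2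
    calc m * u * m⁻¹ = (c : PSL2 F) * (g * u * g⁻¹) * (c : PSL2 F)⁻¹ := by rw [hm]; group
      _ = v := by rw [hg, hcv, mul_inv_cancel_right]
  have h1 : ι m * t * (ι m)⁻¹ = r := by rw [← hu, ← map_inv, ← map_mul, ← map_mul, hmu, hv]
  refine ⟨m, h1, ?_⟩
  have hmr : ι m * r * (ι m)⁻¹ ∈ closure ({t, r} : Set K) := by
    have h3 := (hmem _).1 (hcg v hvP)
    rwa [map_mul, map_mul, map_inv, hv] at h3
  rcases E.mem _ hmr with e | e | e | e
  · exact absurd (conj_eq_one_iff.1 e) E.ne_r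
  · exfalso
    -- then `m²` fixes `t`, so `m` does
    have hfin : ι m ∈ normalizer (closure ({t, r} : Set K) : Set K) := by
      refine Coprime.mem_normalizer_of_forall fun x hx => ?_
      rcases E.mem _ hx with h' | h' | h' | h' <;> rw [h']
      · simp
      · rw [h1]; exact E.r_mem
      · rw [e]; exact E.t_mem
      · rw [← conj_mul, h1, e]; exact mul_mem E.r_mem E.t_mem
    have hmt : Commute (ι m) t := E.commute_of_sq hfin E.t_mem (mul_inv_eq_iff_eq_mul.1 (by
      calc ι m ^ 2 * t * (ι m ^ 2)⁻¹ = ι m * (ι m * t * (ι m)⁻¹) * (ι m)⁻¹ := by simp [pow_two, mul_assoc]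
        _ = t := by rw [h1, e]))
    rw [hmt.eq, mul_inv_cancel_right] at h1
    exact E.ne h1
  · refine absurd ?_ E.ne
    exact (mul_left_cancel (mul_right_cancel (e.trans h1.symm))).symm
  · exact e

/-- `K = L C(t, r)`. -/
theorem sup_eq_top : ι.range ⊔ centralizer ({t, r} : Set K) = ⊤ := by
  rw [eq_top_iff]
  intro x _
  set T := closure ({t, r} : Set K)
  haveI := E.normal
  obtain ⟨P, hP⟩ := E.exists_sylow
  have hcard : Nat.card ((T.map (MulAut.conj x).toMonoidHom).comap ι) = 4 := by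
    have hle : T.map (MulAut.conj x).toMonoidHom ≤ ι.range := by
      rintro _ ⟨w, hw, rfl⟩
      exact E.normal.conj_mem _ (E.le_range hw) x
    rw [← card_map_of_injective E.inj, map_comap_eq_self hle,
      card_map_of_injective (MulAut.conj x).injective, E.card_T]
  obtain ⟨P2, hP2⟩ := ((E.pgroup.map (MulAut.conj x).toMonoidHom).comap_of_injective ι E.inj).exists_le_sylow
  have hP2' := eq_of_le_of_card_ge hP2 (by rw [hcard, (E.klein P2).card_four])
  obtain ⟨d, hd⟩ := MulAction.exists_smul_eq (PSL2 F) P2 P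
  have hn : ι d * x ∈ normalizer (T : Set K) := by
    refine Coprime.mem_normalizer_of_forall fun w hw => ?_
    obtain ⟨w', hw'⟩ : x * w * x⁻¹ ∈ ι.range := E.normal.conj_mem _ (E.le_range hw) x
    have h1 : w' ∈ (P2 : Subgroup (PSL2 F)) := hP2' ▸ mem_comap.2 (by rw [hw']; exact ⟨w, hw, rfl⟩)
    have h2 : d * w' * d⁻¹ ∈ ((d • P2 : Sylow 2 (PSL2 F)) : Subgroup (PSL2 F)) := ⟨w', h1, rfl⟩
    rw [hd, hP, mem_comap, map_mul, map_mul, map_inv, hw'] at h2
    simpa [mul_assoc] using h2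
  obtain ⟨m, hm1, hm2⟩ := E.exists_cycle
  have hm3 : ι m * (t * r) * (ι m)⁻¹ = t := by
    rw [← conj_mul, hm1, hm2, E.comm.eq, ← mul_assoc, E.sq_r, one_mul]
  have hmn : ι m ∈ normalizer (T : Set K) := by
    refine Coprime.mem_normalizer_of_forall fun w hw => ?_
    rcases E.mem _ hw with h' | h' | h' | h' <;> rw [h']
    · simp
    · rw [hm1]; exact E.r_mem
    · rw [hm2]; exact mul_mem E.t_mem E.r_mem
    · rw [hm3]; exact E.t_mem
  obtain ⟨i, hi⟩ : ∃ i : ℕ, ι m ^ i * (ι d * x) * t * (ι m ^ i * (ι d * x))⁻¹ = t := by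
    have e : ∀ i : ℕ, ι m ^ i * (ι d * x) * t * (ι m ^ i * (ι d * x))⁻¹ =
        ι m ^ i * (ι d * x * t * (ι d * x)⁻¹) * (ι m ^ i)⁻¹ := fun i => by group
    rcases E.mem _ ((mem_normalizer_iff.1 hn t).1 E.t_mem) with h' | h' | h' | h'
    · exact absurd (conj_eq_one_iff.1 h') E.ne_t
    · exact ⟨0, by rw [e, h']; simp⟩
    · refine ⟨2, ?_⟩
      rw [e, h', show ι m ^ 2 * r * (ι m ^ 2)⁻¹ = ι m * (ι m * r * (ι m)⁻¹) * (ι m)⁻¹ by simp [pow_two, mul_assoc], hm2, hm3]
    · exact ⟨1, by rw [e, h', pow_one, hm3]⟩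
  set z := ι m ^ i * (ι d * x) with hz
  have hzt : Commute z t := mul_inv_eq_iff_eq_mul.1 hi
  have hzr := E.commute_r_of_fix (mul_mem (pow_mem hmn i) hn) hzt
  rw [show x = ι (d⁻¹ * (m ^ i)⁻¹) * z by rw [hz, map_mul, map_inv, map_inv, map_pow]; group]
  exact mul_mem_sup ⟨_, rfl⟩ (mem_centralizer_iff.2 (by
    rintro w (rfl | rfl)
    exacts [hzt.eq.symm, hzr.eq.symm]))

theorem range_inf_cent : ι.range ⊓ centralizer ({t, r} : Set K) = closure ({t, r} : Set K) := by
  refine le_antisymm ?_ (le_inf E.le_range ?_)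
  · rintro _ ⟨⟨x, rfl⟩, hx⟩
    exact E.eq_four (mem_centralizer_iff.1 hx t (Set.mem_insert _ _)).symm
      (mem_centralizer_iff.1 hx r (Set.mem_insert_of_mem _ rfl)).symm
  · rw [closure_le]
    rintro w (rfl | rfl) <;> refine mem_centralizer_iff.2 ?_ <;> rintro y (rfl | rfl)
    exacts [rfl, E.comm.symm.eq, E.comm.eq, rfl]

theorem card_eq :
    Nat.card K * 4 = Nat.card (PSL2 F) * Nat.card (centralizer ({t, r} : Set K)) := by
  haveI := E.normal
  have h := card_mul_of_decomp ι.range (B := centralizer ({t, r} : Set K)) (M := ⊤) le_top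
    E.sup_eq_top.ge
  rwa [E.range_inf_cent, E.card_T, inf_top_eq, card_top,
    ← Nat.card_congr (MonoidHom.ofInjective E.inj).toEquiv] at h

theorem card_cent {n : ℕ} (hn : TorusOrder F n) :
    Nat.card (centralizer ({t} : Set K)) = n * Nat.card (centralizer ({t, r} : Set K)) := by
  haveI := E.normal
  obtain ⟨u, v, hu, -, hu2, -⟩ := E.exists_preimages
  have hle : centralizer ({t, r} : Set K) ≤ centralizer ({t} : Set K) :=
    centralizer_le (Set.singleton_subset_iff.2 (Set.mem_insert _ _))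
  have h := card_mul_of_decomp ι.range hle (E.sup_eq_top.symm ▸ le_top)
  have e : ι.range ⊓ centralizer ({t} : Set K) = (centralizer ({u} : Set (PSL2 F))).map ι := by
    ext w
    constructor
    · rintro ⟨⟨x, rfl⟩, hx⟩
      refine ⟨x, mem_centralizer_singleton_iff.2 (E.inj ?_), rfl⟩
      rw [map_mul, map_mul, hu]
      exact mem_centralizer_singleton_iff.1 hx
    · rintro ⟨x, hx, rfl⟩
      refine ⟨⟨x, rfl⟩, mem_centralizer_singleton_iff.2 ?_⟩
      rw [← hu, ← map_mul, ← map_mul, mem_centralizer_singleton_iff.1 hx]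
  rw [E.range_inf_cent, E.card_T, e, card_map_of_injective E.inj, hn.card_centralizer hu2] at h
  linarith

/-- An element of odd order centralising `t` and inverted by `r` lies in `L`. -/
theorem exists_pre {u : PSL2 F} (hu : ι u = t) {a : K} (ha : Odd (orderOf a)) (hc : Commute a t)
    (hi : r * a * r⁻¹ = a⁻¹) : ∃ x : PSL2 F, ι x = a ∧ Odd (orderOf x) ∧ Commute x u := by
  haveI := E.normal
  have hrL : r ∈ ι.range := E.le_range E.r_mem
  have h2 : a * a ∈ ι.range := by
    rw [show a * a = a * r * a⁻¹ * r⁻¹ by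
      rw [show a * r * a⁻¹ * r⁻¹ = a * (r * a⁻¹ * r⁻¹) by group, ← conj_inv, hi, inv_inv]]
    exact mul_mem (E.normal.conj_mem _ hrL a) (inv_mem hrL)
  obtain ⟨x, hx⟩ : a ∈ ι.range := by
    obtain ⟨j, hj⟩ := ha
    have e : a = (a * a) ^ (j + 1) := by
      rw [← pow_two, ← pow_mul, show 2 * (j + 1) = orderOf a + 1 by omega, pow_succ,
        pow_orderOf_eq_one, one_mul]
    rw [e]
    exact pow_mem h2 _
  refine ⟨x, hx, ?_, E.inj ?_⟩
  · rwa [← orderOf_injective ι E.inj, hx]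
  · rw [map_mul, map_mul, hx, hu, hc.eq]

/-- Two different torus components do not generate a `p`-group. -/
theorem eq_one_of_pgroup {n : ℕ} (hn : TorusOrder F n) {p : ℕ} (hp : p.Prime) (hp2 : p ≠ 2)
    {X : Subgroup K} (hX : IsPGroup p X) {a b : K} (ha : a ∈ X) (hb : b ∈ X)
    (hat : Commute a t) (hai : r * a * r⁻¹ = a⁻¹) (hbi : t * b * t⁻¹ = b⁻¹) :
    a = 1 ∨ b = 1 := by
  by_contra hne
  push Not at hne
  obtain ⟨u, v, hu, hv, hu2, -⟩ := E.exists_preimages
  have hodd : ∀ w ∈ X, Odd (orderOf w) := fun w hw => by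
    obtain ⟨k, hk⟩ := hX ⟨w, hw⟩
    exact ((hp.odd_of_ne_two hp2).pow).of_dvd_nat (orderOf_dvd_of_pow_eq_one (congrArg Subtype.val hk))
  obtain ⟨x, hx, hxodd, hxu⟩ := E.exists_pre hu (hodd a ha) hat hai
  obtain ⟨y, hy⟩ : b ∈ ι.range := by
    haveI := E.normal
    have htL : t ∈ ι.range := E.le_range E.t_mem
    have h2 : b * b ∈ ι.range := by
      rw [show b * b = b * t * b⁻¹ * t⁻¹ by
        rw [show b * t * b⁻¹ * t⁻¹ = b * (t * b⁻¹ * t⁻¹) by group, ← conj_inv, hbi, inv_inv]]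
      exact mul_mem (E.normal.conj_mem _ htL b) (inv_mem htL)
    obtain ⟨j, hj⟩ := hodd b hb
    have e : b = (b * b) ^ (j + 1) := by
      rw [← pow_two, ← pow_mul, show 2 * (j + 1) = orderOf b + 1 by omega, pow_succ,
        pow_orderOf_eq_one, one_mul]
    rw [e]
    exact pow_mem h2 _
  set Y := closure ({x, y} : Set (PSL2 F))
  have hY : IsPGroup p Y := (hX.comap_of_injective ι E.inj).to_le (by
    rw [closure_le]
    rintro w (rfl | rfl)
    · exact mem_comap.2 (hx.symm ▸ ha)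
    · exact mem_comap.2 (hy.symm ▸ hb))
  haveI : Fact p.Prime := ⟨hp⟩
  obtain ⟨e, he⟩ := hY.exists_card_eq
  have hYodd : Odd (Nat.card Y) := he ▸ (hp.odd_of_ne_two hp2).pow
  have hxY : x ∈ Y := subset_closure (Set.mem_insert _ _)
  have hyY : y ∈ Y := subset_closure (Set.mem_insert_of_mem _ rfl)
  have hx1 : x ≠ 1 := fun h => hne.1 (by rw [← hx, h, map_one])
  have hcy : IsCyclic Y := by
    rcases odd_subgroup_cases hn.odd_card hYodd with h | ⟨P, hP⟩
    · exact h
    obtain ⟨c, hc⟩ := CharP.exists F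
    haveI : Fact c.Prime := ⟨CharP.char_is_prime F c⟩
    refine isCyclic_of_le_stabilizer (p := c) hP fun hd => ?_
    have hcp : c = p := (Nat.prime_dvd_prime_iff_eq Fact.out hp).1 (Fact.out (p := c.Prime).dvd_of_dvd_pow (he ▸ hd))
    obtain ⟨k, hk, hcard⟩ := GLOrder.exists_card_eq_pow (F := F) c
    have h1 : p ∣ orderOf x := by
      obtain ⟨i, hi⟩ := hY ⟨x, hxY⟩
      obtain ⟨i', -, hi'⟩ := (Nat.dvd_prime_pow hp).1 (orderOf_dvd_of_pow_eq_one (congrArg Subtype.val hi))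
      rw [hi']
      refine dvd_pow_self p fun h0 => hx1 ?_
      rw [← orderOf_eq_one_iff, hi', h0, pow_zero]
    have h2 : p ∣ 4 * n :=
      (h1.trans (orderOf_dvd_of_pow_eq_one (hn.pow_eq_one hu2 hxodd hxu))).mul_left 4
    have h3 : p ∣ Nat.card F := hcard ▸ hcp ▸ dvd_pow_self c hk.ne'
    rcases hn.eq with ⟨-, e'⟩ | ⟨-, e'⟩
    · exact hp.not_dvd_one ((Nat.dvd_add_right h2).1 (e' ▸ h3))
    · exact hp.not_dvd_one ((Nat.dvd_add_right h3).1 (e' ▸ h2))
  haveI := hcy
  have hxy : Commute y x := congrArg Subtype.val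
    ((IsCyclic.commGroup (α := Y)).mul_comm (⟨y, hyY⟩ : Y) ⟨x, hxY⟩)
  have h3 : 3 ≤ orderOf x := by
    have : orderOf x ≠ 1 := fun h => hx1 (orderOf_eq_one_iff.1 h)
    have := orderOf_pos x
    obtain ⟨j, hj⟩ := hxodd
    omega
  have hyu : Commute y u := PSL2.commute_of_commute_mk h3 hxy hxu.symm
  have hbt : t * b * t⁻¹ = b := by
    rw [← hu, ← hy, ← map_inv, ← map_mul, ← map_mul, hyu.symm.eq, mul_inv_cancel_right]
  rw [hbt] at hbi
  exact hne.2 (orderOf_eq_one_iff.1 (Nat.eq_one_of_dvd_coprimes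
    (Nat.coprime_two_right.2 (hodd b hb)) dvd_rfl
    (orderOf_dvd_of_pow_eq_one (by rw [pow_two]; nth_rewrite 1 [hbi]; exact inv_mul_cancel b))))

end Embedded

end Cfsg.Agent.GWKlein.L2
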