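import Cfsg.Agent.Lib.GWKlein.General.TypesBase
import Cfsg.Agent.Lib.Constrained.Basic
import Cfsg.Agent.Lib.Signalizer.Constrained

/-!
# Gorenstein-Walter, Klein general case: all locals `p`-constrained

* `Hyp.constrained_of_moved`: `H` with an invariant Sylow subgroup of its odd core moved by every involution of `V`
* `pGood_of_centralizers`: it is enough to look at centralisers of elements of order `p`
* `Hyp.centralizer_good`: and at those of elements of `W`
-/

set_option autoImplicit false

namespace Cfsg.Agent.GWKlein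

open Subgroup

universe u

variable {G : Type u} [Group G] [Finite G] {t r s : G} {p : ℕ} [Fact p.Prime]

omit [Fact p.Prime] in
/-- A normal subgroup of `H` meeting `V` trivially has odd order. -/
theorem Hyp.odd_of_disjoint (h : Hyp t r s) {H : Subgroup G} (hV : fourV t r ≤ H) (N : Subgroup H) [N.Normal]
    (hN : ∀ v : H, (v : G) ∈ fourV t r → v ∈ N → v = 1) : Odd (Nat.card N) := by
  haveI : Fact (Nat.Prime 2) := ⟨Nat.prime_two⟩
  by_contra hodd
  rw [Nat.not_odd_iff_even, even_iff_two_dvd] at hodd
  obtain ⟨x, hx⟩ := exists_prime_orderOf_dvd_card' (G := N) 2 hodd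
  obtain ⟨P, hP⟩ := h.sylow
  let T : Sylow 2 H := P.subtype (hP ▸ hV)
  have hxc : orderOf (x : H) = 2 := by rw [orderOf_coe]; exact hx
  obtain ⟨Q, hQ⟩ := (IsPGroup.of_card (n := 1) (by rw [Nat.card_zpowers, hxc, pow_one]) :
    IsPGroup 2 (zpowers (x : H))).exists_le_sylow
  obtain ⟨g, hg⟩ := MulAction.exists_smul_eq H Q T
  have hm : g * x * g⁻¹ ∈ (T : Subgroup H) := by rw [← hg]; exact ⟨x, hQ (mem_zpowers _), rfl⟩
  have hm' : ((g * x * g⁻¹ : H) : G) ∈ fourV t r := by rw [← hP]; exact hm
  have h1 := hN _ hm' ((inferInstance : N.Normal).conj_mem _ x.2 g)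
  exact Involution.ne_one hxc (conj_eq_one_iff.1 h1)

/-- `H` is `p`-constrained with solvable `O_{p'}` if every involution of `V` moves the invariant Sylow subgroup. -/
theorem Hyp.constrained_of_moved (h : Hyp t r s) (hp2 : p ≠ 2) {H X : Subgroup G} (hV : fourV t r ≤ H)
    (hX : InvSylow p t r H X) (hmove : ∀ v ∈ fourV t r, (∀ x ∈ X, Commute v x) → v = 1) :
    Cfsg.IsPConstrained p H ∧ Group.IsSolvable (Cfsg.pPrimeCore p H) := by
  haveI : Fact (Nat.Prime 2) := ⟨Nat.prime_two⟩
  haveI := Cores.pPrimeCore_normal p H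
  haveI := Cores.pPrimeCore_normal 2 H
  have hXH : X ≤ H := hX.le_self
  have hXp : IsPGroup p X := hX.isPGroup
  have hXO : ∀ x : H, (x : G) ∈ X → x ∈ Cfsg.pPrimeCore 2 H := fun x hx => by
    obtain ⟨x', hx', he⟩ := hX.le hx
    exact (Subtype.ext he : x' = x) ▸ hx'
  have key : ∀ v : H, (v : G) ∈ fourV t r →
      (∀ x : H, (x : G) ∈ X → v * x * v⁻¹ * x⁻¹ ∈ Cfsg.pPrimeCore p H) → v = 1 := by
    intro v hv hc
    refine Subtype.ext (hmove _ hv fun x hx => ?_)
    have h1 : (v : G) * x * (v : G)⁻¹ * x⁻¹ ∈ X :=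
      mul_mem ((mem_normalizer_iff.1 (hX.norm hv) x).1 hx) (inv_mem hx)
    have h2 : (v : G) * x * (v : G)⁻¹ * x⁻¹ ∈ (Cfsg.pPrimeCore p H).map H.subtype :=
      ⟨_, hc ⟨x, hXH hx⟩ hx, rfl⟩
    have hcop : (Nat.card X).Coprime (Nat.card ((Cfsg.pPrimeCore p H).map H.subtype)) := by
      rw [hX.card, Cores.card_map_subtype]
      exact ((Cores.coprime_card_pPrimeCore p).symm).pow_left _
    exact mul_inv_eq_iff_eq_mul.1 (mul_inv_eq_one.1 (Coprime.eq_one_of_mem_of_mem hcop h1 h2))
  refine ⟨?_, S0205.result (h.odd_of_disjoint hV _ fun v hv hvN => key v hv fun x _ => ?_)⟩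
  swap
  · rw [show v * x * v⁻¹ * x⁻¹ = v * (x * v⁻¹ * x⁻¹) by group]
    exact mul_mem hvN ((inferInstance : (Cfsg.pPrimeCore p H).Normal).conj_mem _ (inv_mem hvN) x)
  rw [Constrained.isPConstrained_iff]
  set O1 := Cfsg.pPrimeCore p H
  set q := QuotientGroup.mk' O1 with hq
  set O2 := Cfsg.pPrimeCore 2 H with hO2
  haveI : (O2.map q).Normal := (inferInstance : O2.Normal).map q (QuotientGroup.mk'_surjective O1)
  haveI := Cores.pCore_normal p (H ⧸ O1)
  set P := Cfsg.pCore p (H ⧸ O1) ⊓ O2.map q with hP
  have hodd2 : Odd (Nat.card O2) := Nat.not_even_iff_odd.1 fun e =>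
    Cores.not_dvd_card_pPrimeCore (p := 2) (G := H) (even_iff_two_dvd.1 e)
  haveI : Group.IsSolvable O2 := S0205.result hodd2
  haveI : Group.IsSolvable (O2.map q) := Group.isSolvable_of_surjective (q.subgroupMap_surjective O2)
  have hbot : Cfsg.pPrimeCore p (O2.map q) = ⊥ := by
    refine (map_eq_bot_iff_of_injective _ (O2.map q).subtype_injective).1 ?_
    rw [Cores.pPrimeCore_map_subtype, Cores.pPrimeCore_quotient_self, bot_inf_eq]
  have hself : ∀ z ∈ O2.map q, z ∈ centralizer (P : Set (H ⧸ O1)) → z ∈ P := by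
    intro z hz hzc
    have h1 : (⟨z, hz⟩ : O2.map q) ∈ centralizer (Cfsg.pCore p (O2.map q) : Set (O2.map q)) :=
      mem_centralizer_iff.2 fun w hw => Subtype.ext (mem_centralizer_iff.1 hzc (w : H ⧸ O1)
        (hP ▸ Cores.pCore_map_subtype (O2.map q) p ▸ mem_map_of_mem (O2.map q).subtype hw))
    rw [hP, ← Cores.pCore_map_subtype]
    exact mem_map_of_mem (O2.map q).subtype (SylowLift.centralizer_pCore_le_of_solvable hbot h1)
  have hPc : centralizer (Cfsg.pCore p (H ⧸ O1) : Set (H ⧸ O1)) ≤ centralizer (P : Set (H ⧸ O1)) :=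
    centralizer_le inf_le_left
  set M := (centralizer (Cfsg.pCore p (H ⧸ O1) : Set (H ⧸ O1))).comap q with hM
  have hMV : ∀ v : H, (v : G) ∈ fourV t r → v ∈ M → v = 1 := by
    intro v hv hvM
    by_contra hv1
    refine hv1 (key v hv fun x hx => ?_)
    have hord : (orderOf (q v)).Coprime p := by
      refine Nat.Coprime.coprime_dvd_left (orderOf_map_dvd q v) (Hyp.coprime_orderOf ?_ Fact.out hp2)
      have hne : (v : G) ≠ 1 := fun e => hv1 (Subtype.ext e)
      rw [← orderOf_coe]
      rcases h.mem_iff.1 hv with e | e | e | e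
      · exact absurd e hne
      · rw [e]; exact h.order_t
      · rw [e]; exact h.order_r
      · rw [e]; exact h.order_mul
    set X' := (X.subgroupOf H).map q with hX'
    have hX'O : X' ≤ O2.map q := map_mono fun z hz => hXO z hz
    have hPn : P.Normal := inferInstance
    have hQp : IsPGroup p (X' ⊔ P : Subgroup (H ⧸ O1)) :=
      (hXp.comap_subtype.map q).to_sup_of_normal_right ((Cores.isPGroup_pCore p _).to_le inf_le_left)
    have hvX : q v ∈ normalizer (X' : Set (H ⧸ O1)) := by
      refine le_normalizer_map q (mem_map_of_mem q (Coprime.mem_normalizer_of_forall fun z hz => ?_))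
      exact (mem_normalizer_iff.1 (hX.norm hv) (z : G)).1 hz
    have hvn : q v ∈ normalizer ((X' ⊔ P : Subgroup (H ⧸ O1)) : Set (H ⧸ O1)) := by
      refine normalizer_inf_le_sup X' P ⟨hvX, ?_⟩
      rw [normalizer_eq_top]
      exact mem_top _
    have hc := Components.mem_centralizer_of_mem_centralizer ((Cores.isPGroup_pCore p _).to_le inf_le_left) hQp
      ((le_sup_right : P ≤ X' ⊔ P).trans le_normalizer) hord hvn (hPc hvM) fun w hw hwP => by
        have hwO : w ∈ O2.map q := sup_le hX'O inf_le_right hw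
        exact (mem_centralizer_iff.1 (hPc hvM) w (hself w hwO hwP)).symm
    have h3 := mem_centralizer_iff.1 hc (q x) (mem_sup_left (mem_map_of_mem q hx))
    rw [← QuotientGroup.eq_one_iff]
    show q (v * x * v⁻¹ * x⁻¹) = 1
    rw [map_mul, map_mul, map_mul, map_inv, map_inv, ← h3]
    group
  haveI : M.Normal := inferInstance
  have hMO : M ≤ O2 := Cores.le_pPrimeCore inferInstance (Nat.coprime_two_right.2 (h.odd_of_disjoint hV M hMV))
  intro y hy
  obtain ⟨m, rfl⟩ := QuotientGroup.mk'_surjective O1 y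
  exact (hself _ (mem_map_of_mem q (hMO hy)) (hPc hy)).1

/-- It is enough that the centralisers of the elements of order `p` are constrained with solvable core. -/
theorem pGood_of_centralizers
    (hC : ∀ a : G, orderOf a = p → Cfsg.IsPConstrained p ↥(centralizer ({a} : Set G)) ∧
      Group.IsSolvable (Cfsg.pPrimeCore p ↥(centralizer ({a} : Set G)))) : PGood G p := by
  intro Q hQ hne
  obtain ⟨a, ha, ha1, hap⟩ := PLocal.exists_central_of_order_p hQ hne
  obtain ⟨hcons, hsolv⟩ := hC a (orderOf_eq_prime hap ha1)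
  set C := centralizer ({a} : Set G) with hCdef
  have hQC : Q ≤ C := fun x hx => mem_centralizer_singleton_iff.2 (mem_centralizer_iff.1 ha.2 x hx)
  have hCQ : centralizer (Q : Set G) ≤ C := fun x hx =>
    mem_centralizer_singleton_iff.2 (mem_centralizer_iff.1 hx a ha.1).symm
  have hQ' : IsPGroup p (Q.subgroupOf C) := hQ.comap_subtype
  have hcent : (centralizer (Q : Set G)).subgroupOf C = centralizer (Q.subgroupOf C : Set C) := by
    ext x
    simp only [mem_subgroupOf, mem_centralizer_iff]
    exact ⟨fun hx y hy => Subtype.ext (hx _ hy), fun hx y hy => congrArg Subtype.val (hx ⟨y, hQC hy⟩ hy)⟩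
  set N := normalizer (Q : Set G) with hN
  refine ⟨?_, Constrained.isPConstrained_of_centralizer hQ ?_⟩
  swap
  · exact Constrained.isPConstrained_congr ((MulEquiv.subgroupCongr hcent.symm).trans (subgroupOfEquivOfLe hCQ))
      (Constrained.isPConstrained_centralizer hcons hQ')
  haveI := Cores.pPrimeCore_normal p N
  set Y := (Cfsg.pPrimeCore p N).map N.subtype with hY
  have hYN : Y ≤ N := map_subtype_le _
  have hYn : N ≤ normalizer (Y : Set G) :=
    le_normalizer_map _ |>.trans' (by rw [normalizer_eq_top, ← MonoidHom.range_eq_map, range_subtype])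
  have hQY : Q ≤ centralizer (Y : Set G) := by
    rintro x hx _ ⟨y, hy, rfl⟩
    have h1 : (⟨x, le_normalizer hx⟩ : N) ∈ Cfsg.pCore p N :=
      Cores.le_pCore (Cores.subgroupOf_normal_of_le_normalizer le_rfl) (hQ.comap_subtype (K := N))
        (mem_subgroupOf.2 (show (⟨x, le_normalizer hx⟩ : N).1 ∈ Q from hx))
    exact (congrArg Subtype.val (Cores.pCore_pPrimeCore_commute h1 hy).eq).symm
  have hYC : Y ≤ C := (Subgroup.le_centralizer_iff.1 hQY).trans hCQ
  have hYcard : (Nat.card Y).Coprime p := by rw [hY, Cores.card_map_subtype]; exact Cores.coprime_card_pPrimeCore p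
  have hle : Y.subgroupOf C ≤ Cfsg.pPrimeCore p C := by
    refine Signalizer.le_pPrimeCore_of_centralizer_le_normalizer hcons hQ'
      (by rwa [Cores.card_subgroupOf hYC]) (fun x hx => mem_centralizer_iff.2 fun y hy => Subtype.ext ?_) ?_
    · exact mem_centralizer_iff.1 (hQY hx) _ hy
    · intro x hx
      have hxN : (x : G) ∈ N := centralizer_le_normalizer _ (show x ∈ (centralizer (Q : Set G)).subgroupOf C by
        rw [hcent]; exact hx)
      exact Coprime.mem_normalizer_of_forall fun z hz => (mem_normalizer_iff.1 (hYn hxN) (z : G)).1 hz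
  have hYs : Group.IsSolvable Y := by
    haveI := hsolv
    haveI : Group.IsSolvable (Y.subgroupOf C) :=
      Group.isSolvable_of_isSolvable_injective (Subgroup.inclusion_injective hle)
    exact Group.isSolvable_of_surjective (f := (subgroupOfEquivOfLe hYC).toMonoidHom)
      (subgroupOfEquivOfLe hYC).surjective
  haveI := hYs
  exact Group.isSolvable_of_isSolvable_injective
    (f := ((Cfsg.pPrimeCore p N).equivMapOfInjective _ N.subtype_injective).toMonoidHom)
    ((Cfsg.pPrimeCore p N).equivMapOfInjective _ N.subtype_injective).injective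

/-- The centraliser of an element of order `p` is good if those of the elements of `W` are. -/
theorem Hyp.centralizer_good (h : Hyp t r s) (hp2 : p ≠ 2)
    (hW : ∀ y ∈ coreW t r, orderOf y = p → Cfsg.IsPConstrained p ↥(centralizer ({y} : Set G)) ∧
      Group.IsSolvable (Cfsg.pPrimeCore p ↥(centralizer ({y} : Set G))))
    (a : G) (ha : orderOf a = p) : Cfsg.IsPConstrained p ↥(centralizer ({a} : Set G)) ∧
      Group.IsSolvable (Cfsg.pPrimeCore p ↥(centralizer ({a} : Set G))) := by
  haveI : Fact (Nat.Prime 2) := ⟨Nat.prime_two⟩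
  set C := centralizer ({a} : Set G) with hC
  obtain ⟨T⟩ : Nonempty (Sylow 2 C) := inferInstance
  by_cases h4 : 4 ∣ Nat.card C
  · set T' := (T : Subgroup C).map C.subtype with hT'
    have hT4 : 4 ≤ Nat.card T' := by
      rw [hT', Cores.card_map_subtype, T.card_eq_multiplicity]
      exact Nat.pow_le_pow_right (by norm_num : 0 < 2) (show 2 ≤ _ from
        (Nat.prime_two.pow_dvd_iff_le_factorization Nat.card_pos.ne').1 h4)
    obtain ⟨Q, hQ⟩ := (T.isPGroup'.map C.subtype : IsPGroup 2 T').exists_le_sylow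
    obtain ⟨P, hP⟩ := h.sylow
    obtain ⟨g, hg⟩ := MulAction.exists_smul_eq G Q P
    have hmap : T'.map (MulAut.conj g).toMonoidHom = fourV t r := by
      refine eq_of_le_of_card_ge ?_ ?_
      · rw [← hP, ← hg]
        exact map_mono hQ
      · rw [h.card_fourV, card_map_of_injective (MulAut.conj g).injective]
        exact hT4
    have hmapC : C.map (MulAut.conj g).toMonoidHom = centralizer ({g * a * g⁻¹} : Set G) :=
      map_conj_centralizer_singleton g a
    have hga : g * a * g⁻¹ ∈ coreW t r := by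
      refine h.mem_coreW_of_odd (mem_centralizer_iff.2 fun v hv => ?_) (by
        rw [Involution.orderOf_conj, ha]; exact (Fact.out : p.Prime).odd_of_ne_two hp2)
      rw [SetLike.mem_coe, ← hmap] at hv
      exact mem_centralizer_singleton_iff.1 (hmapC ▸ map_mono (map_subtype_le _) hv)
    obtain ⟨hc, hs⟩ := hW _ hga (by rw [Involution.orderOf_conj, ha])
    set e : C ≃* centralizer ({g * a * g⁻¹} : Set G) :=
      ((MulAut.conj g).subgroupMap C).trans (MulEquiv.subgroupCongr hmapC)
    refine ⟨Constrained.isPConstrained_congr e.symm hc, ?_⟩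
    rw [← Cores.pPrimeCore_map_mulEquiv e.symm p]
    haveI := hs
    exact Group.isSolvable_of_surjective
      (f := ((Cfsg.pPrimeCore p _).equivMapOfInjective e.symm.toMonoidHom e.symm.injective).toMonoidHom)
      ((Cfsg.pPrimeCore p _).equivMapOfInjective e.symm.toMonoidHom e.symm.injective).surjective
  · haveI : Group.IsSolvable C := by
      rcases Nat.even_or_odd (Nat.card C) with he | ho
      swap
      · exact S0205.result ho
      have hT1 : Nat.card (T : Subgroup C) = 2 := by
        have h1 : 2 ∣ Nat.card C := even_iff_two_dvd.1 he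
        rw [T.card_eq_multiplicity]
        have h2 : ¬ 2 ≤ (Nat.card C).factorization 2 := fun e =>
          h4 ((Nat.prime_two.pow_dvd_iff_le_factorization Nat.card_pos.ne').2 e)
        have h3 : 1 ≤ (Nat.card C).factorization 2 := Nat.prime_two.factorization_pos_of_dvd Nat.card_pos.ne' h1
        rw [show (Nat.card C).factorization 2 = 1 by omega, pow_one]
      haveI := Cores.pPrimeCore_normal 2 C
      have hTc : IsCyclic (T : Subgroup C) := isCyclic_of_prime_card hT1
      have hidx := KleinOrder.card_pPrimeCore_of_cyclic T hTc (even_iff_two_dvd.1 he)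
      have hodd2 : Odd (Nat.card (Cfsg.pPrimeCore 2 C)) := Nat.not_even_iff_odd.1 fun e =>
        Cores.not_dvd_card_pPrimeCore (p := 2) (G := C) (even_iff_two_dvd.1 e)
      have htop : Cfsg.pPrimeCore 2 C ⊔ (T : Subgroup C) = ⊤ := by
        refine eq_top_of_le_card _ (Nat.le_of_dvd Nat.card_pos ?_)
        rw [← (T : Subgroup C).card_mul_index, ← hidx]
        exact (Nat.Coprime.mul_dvd_of_dvd_of_dvd (by rw [hT1]; exact Nat.coprime_two_left.2 hodd2)
          (card_dvd_of_le le_sup_right) (card_dvd_of_le le_sup_left))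
      haveI := Signalizer.isSolvable_sup (S0205.result hodd2) (Coprime.isSolvable_of_isPGroup T.isPGroup')
        (show (T : Subgroup C) ≤ normalizer (Cfsg.pPrimeCore 2 C : Set C) by
          rw [normalizer_eq_top]; exact le_top)
      rw [htop] at this
      exact Group.isSolvable_of_surjective (f := (topEquiv : (⊤ : Subgroup C) ≃* C).toMonoidHom)
        topEquiv.surjective
    exact ⟨HallHigman.isPConstrained_of_isSolvable,
      Group.isSolvable_of_isSolvable_injective (Subgroup.subtype_injective (Cfsg.pPrimeCore p C))⟩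

end Cfsg.Agent.GWKlein
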