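import Cfsg.Agent.Lib.GWKlein.General.Basics
import Cfsg.Agent.Lib.GWKlein.Endgame
import Cfsg.Agent.Lib.GWKlein.Mixed
import Cfsg.Agent.Lib.Components.Centralize
import Cfsg.Agent.Lib.ZStar.KleinOrder

/-!
# Gorenstein-Walter, Klein general case: what the types need from `[O_p(U), r]` and from invariant Sylow subgroups

* `radU_le`, `isPGroup_radU`, `le_radU`, `centralizer_le_normalizer_radU`
* `Mixed.radComm_ne_bot`, `Hyp.mixed_rot`, `Hyp.exists_invElt_of_mixed` ((N) of `GENERAL.md`)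
* `Hyp.rot2`, `Hyp.invElt_swap`: the rotated settings
* `InvSylow`: invariant Sylow subgroups of the odd core of a subgroup
-/

set_option autoImplicit false

namespace Cfsg.Agent.GWKlein

open Subgroup
open scoped Pointwise

universe u

variable {G : Type u} [Group G] {t r s : G} {p : ℕ}

theorem mem_centralizer_singleton_of_commute {g x : G} (hc : Commute g x) : g ∈ centralizer ({x} : Set G) :=
  mem_centralizer_singleton_iff.2 hc.eq

theorem commute_of_mem_centralizer_singleton {g x : G} (hc : g ∈ centralizer ({x} : Set G)) : Commute g x :=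
  mem_centralizer_singleton_iff.1 hc

theorem map_conj_centralizer_singleton (c y : G) :
    (centralizer ({y} : Set G)).map (MulAut.conj c).toMonoidHom = centralizer ({c * y * c⁻¹} : Set G) := by
  ext x
  rw [mem_map_equiv, MulAut.conj_symm_apply, mem_centralizer_singleton_iff, mem_centralizer_singleton_iff]
  constructor
  · intro e
    calc x * (c * y * c⁻¹) = c * (c⁻¹ * x * c * y) * c⁻¹ := by group
      _ = c * (y * (c⁻¹ * x * c)) * c⁻¹ := by rw [e]
      _ = c * y * c⁻¹ * x := by group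
  · intro e
    calc c⁻¹ * x * c * y = c⁻¹ * (x * (c * y * c⁻¹)) * c := by group
      _ = c⁻¹ * (c * y * c⁻¹ * x) * c := by rw [e]
      _ = y * (c⁻¹ * x * c) := by group

theorem oddPart_map (H : Subgroup G) (φ : G ≃* G) :
    oddPart (H.map φ.toMonoidHom) = (oddPart H).map φ.toMonoidHom := by
  ext x
  constructor
  · rintro ⟨a, ha, rfl⟩
    have h1 := Cores.map_pPrimeCore_le (φ.subgroupMap H).symm.toMonoidHom (φ.subgroupMap H).symm.surjective 2
      ⟨a, ha, rfl⟩
    exact ⟨_, ⟨_, h1, rfl⟩, congrArg Subtype.val ((φ.subgroupMap H).apply_symm_apply a)⟩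
  · rintro ⟨_, ⟨a, ha, rfl⟩, rfl⟩
    exact ⟨_, Cores.map_pPrimeCore_le (φ.subgroupMap H).toMonoidHom (φ.subgroupMap H).surjective 2
      ⟨a, ha, rfl⟩, rfl⟩

theorem radU_le (p : ℕ) (t : G) : radU p t ≤ coreU t := map_subtype_le _

theorem isPGroup_radU (p : ℕ) (t : G) : IsPGroup p (radU p t) := (Cores.isPGroup_pCore p _).map _

theorem le_radU {Q : Subgroup G} (hQ : IsPGroup p Q) (hQU : Q ≤ coreU t)
    (hn : coreU t ≤ normalizer (Q : Set G)) : Q ≤ radU p t := fun x hx =>
  ⟨⟨x, hQU hx⟩, Cores.le_pCore (Cores.subgroupOf_normal_of_le_normalizer hn) hQ.comap_subtype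
    (mem_subgroupOf.2 hx), rfl⟩

theorem centralizer_le_normalizer_radU (p : ℕ) (t : G) :
    centralizer ({t} : Set G) ≤ normalizer (radU p t : Set G) :=
  (centralizer_le_normalizer_coreU t).trans (Cores.normalizer_le_normalizer_map _)

theorem radComm_le_radU (p : ℕ) (t r : G) : radComm p t r ≤ radU p t := (closure_le _).2 fun _ hx => hx.1

theorem Mixed.radComm_ne_bot (hm : Mixed p t r) : radComm p t r ≠ ⊥ := by
  intro e
  rcases hm with h1 | h1
  · exact h1 (by rw [e, bot_inf_eq])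
  · refine h1 (le_of_le_of_eq le_top ?_)
    rw [e, normalizer_eq_top]

theorem Mixed.radU_ne_bot (hm : Mixed p t r) : radU p t ≠ ⊥ := fun e =>
  hm.radComm_ne_bot (le_bot_iff.1 (e ▸ radComm_le_radU p t r))

theorem Mixed.coreU_ne_bot (hm : Mixed p t r) : coreU t ≠ ⊥ := fun e =>
  hm.radU_ne_bot (le_bot_iff.1 (e ▸ radU_le p t))

namespace Hyp

theorem r_mul (h : Hyp t r s) : r * (t * r) = t := by
  rw [← mul_assoc, h.comm.symm.eq, mul_assoc, h.mul_self_r, mul_one]

theorem mul_t (h : Hyp t r s) : t * r * t = r := by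
  rw [mul_assoc, h.comm.symm.eq, ← mul_assoc, h.mul_self_t, one_mul]

/-- The second rotation. -/
theorem rot2 (h : Hyp t r s) : Hyp (t * r) t s := by
  have := h.rot.rot
  rwa [h.r_mul] at this

/-- On the elements commuting with `r`, `t` and `t * r` act alike. -/
theorem invElt_swap (h : Hyp t r s) {n : G} : InvElt r (t * r) n ↔ InvElt r t n := by
  have key : Commute n r → t * r * n * (t * r)⁻¹ = t * n * t⁻¹ := fun hc => by
    calc t * r * n * (t * r)⁻¹ = t * (r * n * r⁻¹) * t⁻¹ := by group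
      _ = t * n * t⁻¹ := by rw [← hc.eq, mul_inv_cancel_right]
  exact ⟨fun hn => ⟨hn.1, by rw [← key hn.1, hn.2]⟩, fun hn => ⟨hn.1, by rw [key hn.1, hn.2]⟩⟩

/-- `r` and `t * r` invert the same elements of `C(t)`. -/
theorem invElt_mul (h : Hyp t r s) {n : G} : InvElt t (t * r) n ↔ InvElt t r n := by
  have := h.rot2.invElt_swap (n := n)
  rw [h.mul_t] at this
  exact this.symm

theorem typeT_rot_iff (h : Hyp t r s) {y : G} : TypeT r (t * r) p y ↔ TypeT t r p y := by
  rw [TypeT, TypeT, h.fourV_rot]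

variable [Finite G]

theorem mixed_rot (h : Hyp t r s) (hm : Mixed p t r) : Mixed p r (t * r) := by
  set e := (MulAut.conj s).toMonoidHom with he
  have hinj : Function.Injective e := (MulAut.conj s).injective
  have hC : (centralizer ({t} : Set G)).map e = centralizer ({r} : Set G) := by
    rw [map_conj_centralizer_singleton, h.conj_t]
  have hrad : (radU p t).map e = radU p r := by
    refine le_antisymm (le_radU ((isPGroup_radU p t).map e) (h.map_coreU ▸ map_mono (radU_le p t)) ?_) ?_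
    · rw [← h.map_coreU]
      exact (map_mono ((coreU_le_centralizer t).trans (centralizer_le_normalizer_radU p t))).trans
        (le_normalizer_map e)
    · have hle : radU p r ≤ (coreU t).map e := h.map_coreU.symm ▸ radU_le p r
      rw [← map_comap_eq_self (f := e) (H := radU p r) (hle.trans (map_le_range _ _))]
      refine map_mono (le_radU ((isPGroup_radU p r).comap_of_injective e hinj) ?_ ?_)
      · exact (comap_mono hle).trans_eq (comap_map_eq_self_of_injective hinj _)
      · intro x hx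
        have hx' : e x ∈ normalizer (radU p r : Set G) :=
          centralizer_le_normalizer_radU p r (coreU_le_centralizer r (h.map_coreU ▸ mem_map_of_mem e hx))
        refine Coprime.mem_normalizer_of_forall fun z hz => ?_
        rw [mem_comap, map_mul, map_mul, map_inv]
        exact (mem_normalizer_iff.1 hx' _).1 hz
  have hcomm : (radComm p t r).map e = radComm p r (t * r) := by
    rw [radComm, radComm, MonoidHom.map_closure]
    congr 1
    ext x
    constructor
    · rintro ⟨z, ⟨hz, hz'⟩, rfl⟩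
      refine ⟨hrad ▸ mem_map_of_mem e hz, ?_⟩
      rw [← h.conj_r]
      show s * r * s⁻¹ * (s * z * s⁻¹) * (s * r * s⁻¹)⁻¹ = (s * z * s⁻¹)⁻¹
      rw [show s * r * s⁻¹ * (s * z * s⁻¹) * (s * r * s⁻¹)⁻¹ = s * (r * z * r⁻¹) * s⁻¹ by group, hz']
      group
    · rintro ⟨hx, hx'⟩
      rw [← hrad] at hx
      obtain ⟨z, hz, rfl⟩ := hx
      refine ⟨z, ⟨hz, hinj ?_⟩, rfl⟩
      rw [← h.conj_r] at hx'
      show s * (r * z * r⁻¹) * s⁻¹ = s * z⁻¹ * s⁻¹
      rw [show s * (r * z * r⁻¹) * s⁻¹ = s * r * s⁻¹ * (s * z * s⁻¹) * (s * r * s⁻¹)⁻¹ by group]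
      exact hx'.trans (by show (s * z * s⁻¹)⁻¹ = _; group)
  rcases hm with h1 | h1
  · refine Or.inl fun e0 => h1 ?_
    obtain hW : (coreW t r).map e = coreW r (t * r) := by
      rw [h.coreW_rot]; exact Coprime.conj_eq_of_mem_normalizer h.s_mem_normalizer_coreW
    rw [← hcomm, ← hW, ← map_inf_eq _ _ e hinj, map_eq_bot_iff_of_injective _ hinj] at e0
    exact e0
  · refine Or.inr fun h2 => h1 ?_
    rw [← hC, ← hcomm, he, ← map_equiv_normalizer_eq, map_le_map_iff_of_injective hinj] at h2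
    exact h2

omit [Finite G] in
theorem coprime_orderOf {v : G} (hv : orderOf v = 2) (hp : p.Prime) (hp2 : p ≠ 2) : (orderOf v).Coprime p := by
  rw [hv]; exact (Nat.coprime_primes Nat.prime_two hp).2 (Ne.symm hp2)

omit [Finite G] in
theorem odd_orderOf_of_isPGroup {Q : Subgroup G} (hQ : IsPGroup p Q) [Fact p.Prime] (hp2 : p ≠ 2) {x : G}
    (hx : x ∈ Q) : Odd (orderOf x) := by
  obtain ⟨j, hj⟩ := IsPGroup.iff_orderOf.1 hQ ⟨x, hx⟩
  rw [orderOf_mk] at hj
  exact hj ▸ ((Fact.out : p.Prime).odd_of_ne_two hp2).pow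

omit [Finite G] in
/-- A moved element of an invariant odd subgroup gives an inverted one. -/
theorem exists_invElt_of_moved (h : Hyp t r s) {Q : Subgroup G} (hr : r ∈ normalizer (Q : Set G)) {x : G}
    (hx : x ∈ Q) (hxt : Commute x t) (hm : r * x * r⁻¹ ≠ x) :
    (r * x * r⁻¹)⁻¹ * x ∈ Q ∧ InvElt t r ((r * x * r⁻¹)⁻¹ * x) ∧ (r * x * r⁻¹)⁻¹ * x ≠ 1 := by
  have hrr : r⁻¹ = r := Involution.inv_eq h.order_r
  refine ⟨mul_mem (inv_mem ((mem_normalizer_iff.1 hr x).1 hx)) hx, ⟨?_, ?_⟩, fun e => hm (inv_mul_eq_one.1 e)⟩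
  · exact (((h.comm.symm.mul_left hxt).mul_left h.comm.symm.inv_left).inv_left).mul_left hxt
  · calc r * ((r * x * r⁻¹)⁻¹ * x) * r⁻¹ = r * r * x⁻¹ * (r * r)⁻¹ * (r * x * r⁻¹) := by group
      _ = ((r * x * r⁻¹)⁻¹ * x)⁻¹ := by rw [h.mul_self_r]; group

variable [Fact p.Prime]

/-- **(N)**: a `p`-subgroup of `W` centralises a non-trivial element of `O_p(U)` inverted by `r`. -/
theorem exists_invElt_of_mixed (h : Hyp t r s) (hp2 : p ≠ 2) (hm : Mixed p t r) {B : Subgroup G}
    (hB : IsPGroup p B) (hBW : B ≤ coreW t r) :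
    ∃ n ∈ radU p t, InvElt t r n ∧ n ≠ 1 ∧ ∀ b ∈ B, Commute n b := by
  by_contra hcon
  have hn : centralizer ({t} : Set G) ≤ normalizer (radU p t : Set G) := centralizer_le_normalizer_radU p t
  have hrn : r ∈ normalizer (radU p t : Set G) := hn (h.fourV_le_centralizer_t (right_mem_fourV t r))
  have hfix : ∀ x ∈ radU p t, x ∈ centralizer (B : Set G) → r * x = x * r := by
    intro x hx hxB
    have hrQ : r ∈ normalizer ((radU p t ⊓ centralizer (B : Set G) : Subgroup G) : Set G) := by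
      refine Coprime.mem_normalizer_of_forall fun z hz => ⟨(mem_normalizer_iff.1 hrn z).1 hz.1, ?_⟩
      have hr : r ∈ centralizer (B : Set G) := fun b hb => (h.mem_coreW.1 (hBW hb)).2.1.eq
      exact Subgroup.mul_mem _ (Subgroup.mul_mem _ hr hz.2) (Subgroup.inv_mem _ hr)
    by_contra hne
    have hm' : r * x * r⁻¹ ≠ x := fun e => hne (mul_inv_eq_iff_eq_mul.1 e)
    obtain ⟨h1, h2, h3⟩ := h.exists_invElt_of_moved hrQ ⟨hx, hxB⟩ (commute_of_mem_coreU (radU_le p t hx)) hm'
    exact hcon ⟨_, h1.1, h2, h3, fun b hb => (h1.2 b hb).symm⟩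
  have hr : r ∈ centralizer (radU p t : Set G) :=
    Components.mem_centralizer_of_mem_centralizer hB (isPGroup_radU p t)
      ((hBW.trans (coreW_le_coreU t r)).trans ((coreU_le_centralizer t).trans hn))
      (coprime_orderOf h.order_r Fact.out hp2) hrn (fun b hb => (h.mem_coreW.1 (hBW hb)).2.1.eq) hfix
  refine hm.radComm_ne_bot (le_bot_iff.1 ((closure_le _).2 fun x hx => ?_))
  exact mem_bot.2 (eq_one_of_fixed_inverted (h.odd_orderOf (radU_le p t hx.1))
    (conj_eq_of_commute (hr x hx.1)) hx.2)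

end Hyp

/-- An invariant Sylow `p`-subgroup of the odd core of `H`. -/
structure InvSylow (p : ℕ) (t r : G) (H X : Subgroup G) : Prop where
  le : X ≤ oddPart H
  norm : fourV t r ≤ normalizer (X : Set G)
  card : Nat.card X = p ^ (Nat.card (oddPart H)).factorization p

variable [Finite G]

theorem InvSylow.le_self {H X : Subgroup G} (hX : InvSylow p t r H X) : X ≤ H := hX.le.trans (oddPart_le H)

theorem InvSylow.isPGroup {H X : Subgroup G} [Fact p.Prime] (hX : InvSylow p t r H X) : IsPGroup p X :=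
  Coprime.isPGroup_of_card hX.card

omit [Finite G] in
theorem InvSylow.rot (h : Hyp t r s) {H X : Subgroup G} (hX : InvSylow p t r H X) :
    InvSylow p r (t * r) H X := ⟨hX.le, by rw [h.fourV_rot]; exact hX.norm, hX.card⟩

variable [Fact p.Prime]

theorem Hyp.exists_invSylow (h : Hyp t r s) {H : Subgroup G} (hV : fourV t r ≤ H) {Q : Subgroup G}
    (hQ : IsPGroup p Q) (hQn : fourV t r ≤ normalizer (Q : Set G)) (hQO : Q ≤ oddPart H) :
    ∃ X, InvSylow p t r H X ∧ Q ≤ X := by
  obtain ⟨X, hQX, hXO, hXn, hXc⟩ := Coprime.exists_invariant_card (hV.trans (le_normalizer_oddPart H))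
    (h.coprime_of_odd (odd_card_oddPart H)) (Or.inl h.fourV_facts.2) p hQO hQ hQn
  exact ⟨X, ⟨hXO, hXn, hXc⟩, hQX⟩

/-- Invariant Sylow subgroups of the odd core are conjugate by elements of `O(H) ∩ C(V) ⊆ W`. -/
theorem Hyp.invSylow_conj (h : Hyp t r s) {H X R : Subgroup G} (hV : fourV t r ≤ H)
    (hX : InvSylow p t r H X) (hR : InvSylow p t r H R) :
    ∃ c ∈ coreW t r, c ∈ oddPart H ∧ MulAut.conj c • R = X := by
  obtain ⟨c, hc, hcR⟩ := Coprime.exists_mem_centralizer_conj_of_card (hV.trans (le_normalizer_oddPart H))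
    (h.coprime_of_odd (odd_card_oddPart H)) (Or.inl h.fourV_facts.2) hX.le hR.le hX.norm hR.norm hX.card hR.card
  exact ⟨c, h.mem_coreW_of_odd hc.2 ((odd_card_oddPart H).of_dvd_nat (orderOf_dvd_natCard _ hc.1)), hc.1, hcR⟩

omit [Fact p.Prime] in
theorem Hyp.zpowers_invariant (h : Hyp t r s) {a : G} (ha : InvElt t r a) :
    fourV t r ≤ normalizer (zpowers a : Set G) :=
  fourV_le_iff.2
    ⟨Coprime.mem_normalizer_of_forall (conj_zpowers_le (by rw [conj_eq_of_commute ha.1]; exact mem_zpowers a)),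
      Coprime.mem_normalizer_of_forall (conj_zpowers_le (by rw [ha.2]; exact inv_mem (mem_zpowers a)))⟩

/-- A power of order `p` of an inverted element. -/
theorem InvElt.exists_orderOf_eq {X : Subgroup G} (hX : IsPGroup p X) {a : G} (ha : InvElt t r a) (haX : a ∈ X)
    (ha1 : a ≠ 1) : ∃ k : ℕ, InvElt t r (a ^ k) ∧ a ^ k ∈ X ∧ orderOf (a ^ k) = p := by
  obtain ⟨j, hj⟩ := IsPGroup.iff_orderOf.1 hX ⟨a, haX⟩
  rw [orderOf_mk] at hj
  have hj0 : j ≠ 0 := by rintro rfl; exact ha1 (orderOf_eq_one_iff.1 (by rw [hj, pow_zero]))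
  exact ⟨orderOf a / p, ha.pow _, pow_mem haX _,
    orderOf_pow_orderOf_div (orderOf_pos a).ne' (by rw [hj]; exact dvd_pow_self p hj0)⟩

end Cfsg.Agent.GWKlein
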