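import Cfsg.Agent.Lib.GWKlein.General.Defs
import Cfsg.Agent.Lib.GWKlein.Basic
import Cfsg.Agent.Lib.Solvable.Fitting
import Cfsg.Agent.Lib.Cores.Fitting
import Cfsg.Agent.Lib.Coprime.InvolutionEigen
import Cfsg.Agent.Lib.Transfer.Criteria

/-!
# Gorenstein-Walter, Klein general case: splitting the core

* `exists_inverted`: an involutory automorphism `f` of a solvable group of odd order, fixed point free on each
  `[O_q, f]`, these being normal: the elements `u⁻¹ f(u)` lie in a normal abelian inverted subgroup.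
* `Hyp.exists_split_of_rad`: `U = A ⋊ W` when every `[O_q(U), r]` is normalised by `C(t)` and meets `W` trivially.
-/

set_option autoImplicit false

namespace Cfsg.Agent.GWKlein

open Subgroup
open scoped commutatorElement

section Abstract

variable {K : Type*} [Group K] [Finite K]

theorem exists_inverted [Group.IsSolvable K] (f : K →* K) (h2 : ∀ x, f (f x) = x)
    (hfix : ∀ q : ℕ, q.Prime → ∀ x ∈ closure {x : K | x ∈ Cfsg.pCore q K ∧ f x = x⁻¹}, f x = x → x = 1)
    (hnorm : ∀ q : ℕ, q.Prime → (closure {x : K | x ∈ Cfsg.pCore q K ∧ f x = x⁻¹}).Normal) :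
    ∃ A : Subgroup K, A.Normal ∧ (∀ a, a ∈ A ↔ a ∈ Cfsg.fittingSubgroup K ∧ f a = a⁻¹) ∧
      (∀ a ∈ A, ∀ b ∈ A, a * b = b * a) ∧ ∀ u, u⁻¹ * f u ∈ A := by
  classical
  set F := Cfsg.fittingSubgroup K with hF
  let P1 : ℕ → Subgroup K := fun q => closure {x : K | x ∈ Cfsg.pCore q K ∧ f x = x⁻¹}
  -- the inverted part of each `O_q`
  have hP1inv : ∀ q : ℕ, q.Prime → ∀ x ∈ P1 q, f x = x⁻¹ := fun q hq x hx => by
    have hmap : ∀ y ∈ P1 q, f y ∈ P1 q := fun y hy => by
      induction hy using closure_induction with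
      | mem y hy => rw [hy.2]; exact inv_mem (subset_closure hy)
      | one => rw [map_one]; exact one_mem _
      | mul a b _ _ ha hb => rw [map_mul]; exact mul_mem ha hb
      | inv a _ ha => rw [map_inv]; exact inv_mem ha
    let g : P1 q →* P1 q := (f.comp (P1 q).subtype).codRestrict (P1 q) fun y => hmap y y.2
    have := InvolutionEigen.inverts_of_fpf g (fun y => Subtype.ext (h2 y))
      (fun y hy => Subtype.ext (hfix q hq y y.2 (congrArg Subtype.val hy))) ⟨x, hx⟩
    exact congrArg Subtype.val this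
  have hqF : ∀ (q : ℕ), q.Prime → ∀ x ∈ F, (∃ k, orderOf x = q ^ k) → x ∈ Cfsg.pCore q K := by
    rintro q hq x hx ⟨k, hk⟩
    haveI := Fact.mk hq
    rw [← Cores.pCore_fittingSubgroup q]
    refine ⟨⟨x, hx⟩, ?_, rfl⟩
    obtain ⟨P, hP⟩ := (IsPGroup.of_card (n := k) (by rw [Nat.card_zpowers, Subgroup.orderOf_mk, hk]) :
      IsPGroup q (zpowers (⟨x, hx⟩ : F))).exists_le_sylow
    haveI : Group.IsNilpotent F := Cores.fittingSubgroup_isNilpotent
    haveI : (P : Subgroup F).Normal :=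
      Sylow.normal_of_normalizerCondition Group.normalizerCondition_of_isNilpotent P
    rw [Cores.pCore_eq_sylow P]
    exact hP (mem_zpowers _)
  have hpow : ∀ {a b : K}, f a = a⁻¹ → b ∈ zpowers a → f b = b⁻¹ := fun {a b} ha hb => by
    obtain ⟨i, rfl⟩ := hb
    show f (a ^ i) = (a ^ i)⁻¹
    rw [map_zpow, ha, inv_zpow]
  -- inverted elements of `F` commute
  have hcomm : ∀ a ∈ F, ∀ b ∈ F, f a = a⁻¹ → f b = b⁻¹ → Commute a b := by
    intro a ha b hb hai hbi
    refine (Commute.symm (mem_centralizer_singleton_iff.1 (?_ : b ∈ centralizer ({a} : Set K)) :))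
    refine Transfer.mem_of_forall_primePow fun q hq b' hb' hbo => mem_centralizer_singleton_iff.2 ?_
    refine (Commute.symm (mem_centralizer_singleton_iff.1 (?_ : a ∈ centralizer ({b'} : Set K)) :))
    refine Transfer.mem_of_forall_primePow fun l hl a' ha' hao => mem_centralizer_singleton_iff.2 ?_
    haveI := Fact.mk hq
    haveI := Fact.mk hl
    have hb'F : b' ∈ F := zpowers_le.2 hb hb'
    have ha'F : a' ∈ F := zpowers_le.2 ha ha'
    by_cases hlq : l = q
    · subst hlq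
      have e1 : a' ∈ P1 l := subset_closure ⟨hqF l hl a' ha'F hao, hpow hai ha'⟩
      have e2 : b' ∈ P1 l := subset_closure ⟨hqF l hl b' hb'F hbo, hpow hbi hb'⟩
      have e3 := hP1inv l hl _ (mul_mem e1 e2)
      rw [map_mul, hpow hai ha', hpow hbi hb', mul_inv_rev] at e3
      calc a' * b' = (b'⁻¹ * a'⁻¹)⁻¹ := by group
        _ = (a'⁻¹ * b'⁻¹)⁻¹ := by rw [e3]
        _ = b' * a' := by group
    · exact (Cores.pCore_commute hlq (hqF l hl a' ha'F hao) (hqF q hq b' hb'F hbo)).eq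
  let A : Subgroup K :=
    { carrier := {a | a ∈ F ∧ f a = a⁻¹}
      one_mem' := ⟨one_mem _, by rw [map_one, inv_one]⟩
      mul_mem' := fun {a b} ha hb => ⟨mul_mem ha.1 hb.1, by
        rw [map_mul, ha.2, hb.2, ← mul_inv_rev, (hcomm a ha.1 b hb.1 ha.2 hb.2).eq]⟩
      inv_mem' := fun {a} ha => ⟨inv_mem ha.1, by rw [map_inv, ha.2]⟩ }
  haveI hAn : A.Normal := ⟨fun a ha g => by
    refine Transfer.mem_of_forall_primePow (H := A.comap (MulAut.conj g).toMonoidHom) fun q hq a' ha' hao => ?_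
    have hmem : a' ∈ P1 q :=
      subset_closure ⟨hqF q hq a' (zpowers_le.2 ha.1 ha') hao, hpow ha.2 ha'⟩
    have hc := (hnorm q hq).conj_mem a' hmem g
    haveI := Fact.mk hq
    refine ⟨Cores.pCore_le_fittingSubgroup q ?_, hP1inv q hq _ hc⟩
    exact (closure_le _).2 (fun y hy => hy.1) hc⟩
  -- the automorphism and `F`
  let e : K ≃* K := MulEquiv.ofBijective f
    ⟨fun x y h => by rw [← h2 x, h, h2], fun y => ⟨f y, h2 y⟩⟩
  have hfF : ∀ x ∈ F, f x ∈ F := fun x hx => by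
    rw [hF, ← Cores.fittingSubgroup_map_mulEquiv e]
    exact ⟨x, hx, rfl⟩
  have hxA : ∀ x ∈ F, x⁻¹ * f x ∈ A := fun x hx => ⟨mul_mem (inv_mem hx) (hfF x hx), by
    rw [map_mul, map_inv, h2, mul_inv_rev, inv_inv]⟩
  haveI hFn : F.Normal := Subgroup.sSup_normal _ fun _ h => h.1
  let π := QuotientGroup.mk' A
  haveI hTn : (centralizer ((F.map π : Subgroup (K ⧸ A)) : Set (K ⧸ A))).Normal := by
    haveI : (F.map π).Normal := hFn.map _ (QuotientGroup.mk'_surjective A)
    infer_instance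
  set S : Subgroup K := centralizer (A : Set K) ⊓
    (centralizer ((F.map π : Subgroup (K ⧸ A)) : Set (K ⧸ A))).comap π with hS
  haveI : S.Normal := by rw [hS]; exact normal_inf_normal _ _
  have hFS : ⁅F, S⁆ ≤ A := commutator_le.2 fun x hx k hk => by
    rw [← QuotientGroup.eq_one_iff]
    show π ⁅x, k⁆ = 1
    rw [map_commutatorElement, commutatorElement_eq_one_iff_mul_comm]
    exact mem_centralizer_iff.1 hk.2 _ ⟨x, hx, rfl⟩
  have hAS : ⁅A, S⁆ = ⊥ := commutator_eq_bot_iff_le_centralizer.2 fun a ha =>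
    mem_centralizer_iff.2 fun k hk => (mem_centralizer_iff.1 hk.1 a ha).symm
  have hSS : ⁅S, S⁆ ≤ F := by
    refine le_trans ?_ (Solvable.centralizer_fitting_le K)
    rw [← commutator_eq_bot_iff_le_centralizer]
    refine commutator_commutator_eq_bot_of_rotate ?_ ?_
    · rw [eq_bot_iff, ← hAS]
      exact commutator_mono ((commutator_comm _ _).le.trans hFS) le_rfl
    · rw [eq_bot_iff, ← hAS]
      exact commutator_mono hFS le_rfl
  have hnil : Group.IsNilpotent S := by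
    refine Subgroup.isNilpotent_of_lowerCentralSeries_eq_bot (n := 3) ?_
    rw [Subgroup.lowerCentralSeries_succ, Subgroup.lowerCentralSeries_succ, Subgroup.lowerCentralSeries_succ,
      Subgroup.lowerCentralSeries_zero, eq_bot_iff, ← hAS]
    exact commutator_mono ((commutator_mono hSS le_rfl).trans hFS) le_rfl
  refine ⟨A, hAn, fun a => Iff.rfl, fun a ha b hb => (hcomm a ha.1 b hb.1 ha.2 hb.2).eq, fun u => ?_⟩
  have hz : f (u⁻¹ * f u) = (u⁻¹ * f u)⁻¹ := by rw [map_mul, map_inv, h2, mul_inv_rev, inv_inv]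
  refine ⟨Cores.le_fittingSubgroup ‹S.Normal› hnil ⟨mem_centralizer_iff.2 fun a ha => ?_,
    mem_comap.2 (mem_centralizer_iff.2 ?_)⟩, hz⟩
  · have h1 := (hAn.conj_mem a ha u).2
    rw [map_mul, map_mul, map_inv, ha.2] at h1
    have h3 := congrArg (fun x => x⁻¹) h1
    simp only [mul_inv_rev, inv_inv] at h3
    calc a * (u⁻¹ * f u) = u⁻¹ * (u * a * u⁻¹) * f u := by group
      _ = u⁻¹ * (f u * a * (f u)⁻¹) * f u := by
        rw [show f u * a * (f u)⁻¹ = u * a * u⁻¹ by simpa [mul_assoc] using h3]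
      _ = u⁻¹ * f u * a := by group
  · rintro _ ⟨x, hx, rfl⟩
    have hmk : ∀ y ∈ F, π (f y) = π y := fun y hy =>
      (QuotientGroup.eq (s := A)).2 (hxA y hy) |>.symm
    have h1 := hmk _ (hFn.conj_mem x hx u)
    rw [map_mul, map_mul, map_inv, map_mul, map_mul, map_inv, hmk x hx, map_mul, map_mul, map_inv] at h1
    rw [map_mul, map_inv]
    calc π x * ((π u)⁻¹ * π (f u)) = (π u)⁻¹ * (π u * π x * (π u)⁻¹) * π (f u) := by group
      _ = (π u)⁻¹ * (π (f u) * π x * (π (f u))⁻¹) * π (f u) := by rw [h1]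
      _ = (π u)⁻¹ * π (f u) * π x := by group

end Abstract

variable {G : Type*} [Group G] [Finite G] {t r s : G}

/-- If each `[O_q(U), r]` is normalised by `C(t)` and meets `W` trivially, `U = A ⋊ W`. -/
theorem Hyp.exists_split_of_rad (h : Hyp t r s)
    (hd1 : ∀ q : ℕ, q.Prime → radComm q t r ⊓ coreW t r = ⊥)
    (hd2 : ∀ q : ℕ, q.Prime → centralizer ({t} : Set G) ≤ normalizer (radComm q t r : Set G)) :
    ∃ A, Split t r A := by
  classical
  set U := coreU t with hU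
  haveI : Group.IsSolvable U := h.isSolvable_coreU
  have hUn : fourV t r ≤ normalizer (U : Set G) := h.fourV_le_normalizer_coreU
  have hrU : ∀ u ∈ U, r * u * r⁻¹ ∈ U := fun u hu =>
    (mem_normalizer_iff.1 (hUn (right_mem_fourV t r)) u).1 hu
  let f : U →* U := ((MulAut.conj r).toMonoidHom.comp U.subtype).codRestrict U fun u => hrU u u.2
  have hfv : ∀ u : U, ((f u : U) : G) = r * u * r⁻¹ := fun _ => rfl
  have h2 : ∀ u : U, f (f u) = u := fun u => Subtype.ext (by
    rw [hfv, hfv, Involution.inv_eq h.order_r,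
      show r * (r * (u : G) * r) * r = (r * r) * u * (r * r) by group, h.mul_self_r, one_mul, mul_one])
  have hmap : ∀ q, (closure {x : U | x ∈ Cfsg.pCore q U ∧ f x = x⁻¹}).map U.subtype = radComm q t r := by
    intro q
    rw [MonoidHom.map_closure]
    congr 1
    ext y
    constructor
    · rintro ⟨x, ⟨hx, hxi⟩, rfl⟩
      exact ⟨⟨x, hx, rfl⟩, (hfv x).symm.trans (congrArg Subtype.val hxi)⟩
    · rintro ⟨⟨x, hx, rfl⟩, hy⟩
      exact ⟨x, ⟨hx, Subtype.ext hy⟩, rfl⟩
  obtain ⟨A₀, hA₀n, hA₀, hA₀c, hA₀z⟩ := exists_inverted f h2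
    (fun q hq x hx hfix => by
      have h1 : (x : G) ∈ radComm q t r ⊓ coreW t r := by
        refine ⟨(hmap q).le ⟨x, hx, rfl⟩, h.mem_coreW.2 ⟨(h.mem_coreU.1 x.2).1, ?_, (h.mem_coreU.1 x.2).2⟩⟩
        have := congrArg Subtype.val hfix
        rw [hfv] at this
        exact (mul_inv_eq_iff_eq_mul.1 this).symm
      rw [hd1 q hq, mem_bot] at h1
      exact Subtype.ext h1)
    (fun q hq => by
      refine ⟨fun x hx u => ?_⟩
      obtain ⟨y, hy, hyx⟩ := (hmap q).ge ((mem_normalizer_iff.1 (hd2 q hq (coreU_le_centralizer t u.2)) x).1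
        ((hmap q).le ⟨x, hx, rfl⟩))
      rwa [show u * x * u⁻¹ = y from Subtype.ext hyx.symm])
  set A := A₀.map U.subtype with hA
  have hAU : A ≤ U := map_subtype_le _
  have hinv : ∀ a ∈ A, r * a * r⁻¹ = a⁻¹ := by
    rintro _ ⟨a, ha, rfl⟩
    exact congrArg Subtype.val ((hA₀ a).1 ha).2
  have hdisj : A ⊓ coreW t r = ⊥ := by
    rw [eq_bot_iff]
    rintro a ⟨ha, hw⟩
    have e : a⁻¹ = a := (hinv a ha).symm.trans (mul_inv_eq_iff_eq_mul.2 (h.mem_coreW.1 hw).2.1.symm.eq)
    exact orderOf_eq_one_iff.1 (Nat.eq_one_of_dvd_coprimes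
      (Nat.coprime_two_right.2 (h.odd_orderOf (hAU ha))) dvd_rfl
      (orderOf_dvd_of_pow_eq_one (by rw [pow_two]; nth_rewrite 1 [← e]; exact inv_mul_cancel a)))
  have hsup : A ⊔ coreW t r = U := by
    refine le_antisymm (sup_le hAU inf_le_left) fun u hu => ?_
    set z := u⁻¹ * (r * u * r⁻¹) with hzdef
    have hzA : z ∈ A := ⟨_, hA₀z ⟨u, hu⟩, rfl⟩
    obtain ⟨k, hk⟩ := h.odd_orderOf (hAU hzA)
    have haA : z ^ (k + 1) ∈ A := A.pow_mem hzA _
    have haz : z ^ (k + 1) * z ^ (k + 1) = z := by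
      rw [← pow_add, show k + 1 + (k + 1) = 2 * k + 1 + 1 by ring, pow_succ, ← hk, pow_orderOf_eq_one,
        one_mul]
    have hw : u * z ^ (k + 1) ∈ coreW t r := by
      refine ⟨mul_mem hu (hAU haA), mem_centralizer_singleton_iff.2 (mul_inv_eq_iff_eq_mul.1 ?_).symm⟩
      calc r * (u * z ^ (k + 1)) * r⁻¹ = (r * u * r⁻¹) * (r * z ^ (k + 1) * r⁻¹) := by group
        _ = (u * z) * (z ^ (k + 1))⁻¹ := by rw [hinv _ haA, hzdef, mul_inv_cancel_left]
        _ = u * z ^ (k + 1) := by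
          nth_rewrite 1 [← haz]
          group
    rw [show u = u * z ^ (k + 1) * (z ^ (k + 1))⁻¹ by group]
    exact mul_mem (mem_sup_right hw) (mem_sup_left (inv_mem haA))
  refine ⟨A, hAU, ?_, fun a ha b hb => ?_, hinv, hsup, hdisj⟩
  · -- normality
    rw [← h.sup_fourV]
    have hUA : coreU t ≤ normalizer (A : Set G) := le_normalizer_iff.2 fun u hu a ha => by
      obtain ⟨a, ha', rfl⟩ := ha
      exact ⟨⟨u, hu⟩ * a * ⟨u, hu⟩⁻¹, hA₀n.conj_mem a ha' _, rfl⟩
    refine sup_le hUA (le_normalizer_iff.2 fun v hv a ha => ?_)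
    obtain ⟨a, ha', rfl⟩ := ha
    have hc : Commute v r := by
      rcases h.mem_iff.1 hv with e | e | e | e <;> subst v
      exacts [Commute.one_left r, h.comm, Commute.refl r, h.comm.mul_left (Commute.refl r)]
    have hFn : normalizer (U : Set G) ≤ normalizer ((Cfsg.fittingSubgroup U).map U.subtype : Set G) :=
      Cores.normalizer_le_normalizer_map _
    obtain ⟨b, hb, hbe⟩ := (mem_normalizer_iff.1 (hFn (hUn hv)) _).1 ⟨a, ((hA₀ a).1 ha').1, rfl⟩
    refine ⟨b, (hA₀ b).2 ⟨hb, Subtype.ext ?_⟩, hbe⟩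
    rw [hfv, Subgroup.coe_inv, show (b : G) = v * (a : G) * v⁻¹ from hbe]
    calc r * (v * (a : G) * v⁻¹) * r⁻¹ = (r * v) * a * (r * v)⁻¹ := by group
      _ = v * (r * a * r⁻¹) * v⁻¹ := by rw [← hc.eq]; group
      _ = (v * (a : G) * v⁻¹)⁻¹ := by rw [show r * (a : G) * r⁻¹ = (a : G)⁻¹ from hinv _ ⟨a, ha', rfl⟩]; group
  · obtain ⟨a, ha', rfl⟩ := ha
    obtain ⟨b, hb', rfl⟩ := hb
    exact congrArg Subtype.val (hA₀c a ha' b hb')

end Cfsg.Agent.GWKlein
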