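import Cfsg.Agent.Lib.GWKlein.General.Defs
import Cfsg.Agent.Lib.GWKlein.General.L2Embedded
import Cfsg.Agent.Lib.Constrained.Basic
import Cfsg.Agent.Lib.DegThreeP.Four

/-!
# Gorenstein-Walter, Klein general case: `L2Local` for subgroups of type `L2(q)` (helper64)

`Hyp.exists_l2Local`: a subgroup `H ≥ ⟨t, r⟩` with `H/O(H)` of type `L2(q)` satisfies `L2Local`.
-/

set_option autoImplicit false
set_option linter.unusedSectionVars false
set_option linter.style.haveILetI false

namespace Cfsg.Agent.GWKlein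

open Subgroup Cfsg.Agent.PSL2

universe u

variable {G : Type u} [Group G] [Finite G] {t r s : G} {H : Subgroup G}

namespace LocalL2

/-- The quotient map by the odd core. -/
def bar (H : Subgroup G) : H →* H ⧸ Cfsg.oddCore H := QuotientGroup.mk' _

theorem bar_eq_one {x : H} : bar H x = 1 ↔ (x : G) ∈ oddPart H := by
  rw [bar, QuotientGroup.mk'_apply, QuotientGroup.eq_one_iff, oddPart]
  exact ⟨fun h => ⟨x, h, rfl⟩, fun ⟨y, hy, e⟩ => Subtype.ext e ▸ hy⟩

theorem not_two_dvd_core (H : Subgroup G) : ¬ 2 ∣ Nat.card (Cfsg.oddCore H) := by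
  haveI : Fact (Nat.Prime 2) := ⟨Nat.prime_two⟩
  exact Cores.not_dvd_card_pPrimeCore

theorem odd_bar {x : H} (hx : Odd (orderOf (x : G))) : Odd (orderOf (bar H x)) :=
  hx.of_dvd_nat ((orderOf_map_dvd (bar H) x).trans (by rw [← orderOf_coe]))

/-- The odd core meets the four-group trivially. -/
theorem eq_one_of_mem_fourV (h : Hyp t r s) {x : H} (hx : (x : G) ∈ fourV t r) (h1 : bar H x = 1) :
    x = 1 := by
  refine Subtype.ext (orderOf_eq_one_iff.1 (Nat.eq_one_of_dvd_coprimes (?_ : Nat.Coprime 4 _)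
    (h.card_fourV ▸ orderOf_dvd_natCard _ hx) (orderOf_dvd_natCard _ (bar_eq_one.1 h1))))
  rw [show (4 : ℕ) = 2 ^ 2 from rfl]
  exact Nat.Coprime.pow_left 2 (Nat.coprime_two_left.2 (odd_card_oddPart H))

/-- The centraliser of a 2-subgroup covers the centraliser of its image. -/
theorem card_centralizer_lift (S : Set H) (hS : IsPGroup 2 (closure S)) :
    Nat.card (centralizer S) = Nat.card (Cfsg.oddCore H ⊓ centralizer S : Subgroup H) *
      Nat.card (centralizer (bar H '' S)) := by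
  haveI : Fact (Nat.Prime 2) := ⟨Nat.prime_two⟩
  have e : (centralizer S).map (bar H) = centralizer (bar H '' S) := by
    ext y
    constructor
    · rintro ⟨x, hx, rfl⟩
      rw [mem_centralizer_iff]
      rintro _ ⟨z, hz, rfl⟩
      rw [← map_mul, ← map_mul, mem_centralizer_iff.1 hx z hz]
    · intro hy
      obtain ⟨x, rfl⟩ := QuotientGroup.mk'_surjective (Cfsg.oddCore H) y
      obtain ⟨o, ho, hox⟩ := Constrained.exists_mul_mem_centralizer (O := Cfsg.oddCore H)
        (not_two_dvd_core H) hS (x := x) fun z hz => by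
          have hc : bar H x ∈ centralizer ((closure (bar H '' S) : Subgroup _) : Set (H ⧸ Cfsg.oddCore H)) :=
            by rw [centralizer_closure]; exact hy
          have hz' : bar H z ∈ closure (bar H '' S) := by
            rw [← MonoidHom.map_closure]; exact mem_map_of_mem _ hz
          refine (QuotientGroup.eq_one_iff _).1 (show bar H (x * z * x⁻¹ * z⁻¹) = 1 from ?_)
          rw [map_mul, map_mul, map_mul, map_inv, map_inv, ← mem_centralizer_iff.1 hc _ hz',
            mul_inv_cancel_right, mul_inv_cancel]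
      refine ⟨o * x, (centralizer_closure S) ▸ hox, ?_⟩
      rw [map_mul, show bar H o = 1 from (QuotientGroup.eq_one_iff o).2 ho, one_mul]
      rfl
  rw [← e, ← relIndex_ker, show (bar H).ker = Cfsg.oddCore H from QuotientGroup.ker_mk' _,
    ← inf_relIndex_right, relIndex, ← Nat.card_congr (subgroupOfEquivOfLe
      (inf_le_right : Cfsg.oddCore H ⊓ centralizer S ≤ centralizer S)).toEquiv, card_mul_index]

/-- Subgroups of `C(t)` over the four-group. -/
theorem card_mul_four (h : Hyp t r s) {M : Subgroup G} (hV : fourV t r ≤ M)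
    (hM : M ≤ centralizer ({t} : Set G)) :
    Nat.card M = 4 * Nat.card (coreU t ⊓ M : Subgroup G) := by
  have hn : fourV t r ≤ normalizer ((coreU t ⊓ M : Subgroup G) : Set G) := fun v hv =>
    Coprime.mem_normalizer_of_forall fun x hx =>
      ⟨(mem_normalizer_iff.1 (h.fourV_le_normalizer_coreU hv) x).1 hx.1,
        M.mul_mem (M.mul_mem (hV hv) hx.2) (M.inv_mem (hV hv))⟩
  have e : M = (coreU t ⊓ M) ⊔ fourV t r := by
    refine le_antisymm (fun x hx => ?_) (sup_le inf_le_right hV)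
    have h1 : x ∈ ((fourV t r ⊔ coreU t : Subgroup G) : Set G) := by
      rw [SetLike.mem_coe, sup_comm, h.sup_fourV]; exact hM hx
    rw [coe_mul_of_left_le_normalizer_right _ _ h.fourV_le_normalizer_coreU] at h1
    obtain ⟨v, hv, w, hw, rfl⟩ := h1
    exact mul_mem (mem_sup_right hv)
      (mem_sup_left ⟨hw, (mul_mem_cancel_left (hV hv)).1 hx⟩)
  conv_lhs => rw [e]
  rw [Coprime.card_sup_of_coprime hn, h.card_fourV, mul_comm]
  rw [h.card_fourV, show (4 : ℕ) = 2 ^ 2 from rfl]
  exact Nat.Coprime.pow_right 2 (Nat.coprime_two_right.2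
    (h.odd_coreU.of_dvd_nat (card_dvd_of_le inf_le_left)))

theorem card_centralizer_t (h : Hyp t r s) (hV : fourV t r ≤ H) :
    Nat.card (centralizer ({⟨t, hV (left_mem_fourV t r)⟩} : Set H)) =
      4 * Nat.card (coreU t ⊓ H : Subgroup G) := by
  have e : (centralizer ({⟨t, hV (left_mem_fourV t r)⟩} : Set H)).map H.subtype =
      centralizer ({t} : Set G) ⊓ H := by
    ext x
    constructor
    · rintro ⟨y, hy, rfl⟩
      exact ⟨mem_centralizer_singleton_iff.2 (congrArg Subtype.val (mem_centralizer_singleton_iff.1 hy)), y.2⟩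
    · rintro ⟨hx, hxH⟩
      exact ⟨⟨x, hxH⟩, mem_centralizer_singleton_iff.2 (Subtype.ext (mem_centralizer_singleton_iff.1 hx)), rfl⟩
  rw [← Cores.card_map_subtype, e, card_mul_four h (le_inf h.fourV_le_centralizer_t hV) inf_le_left,
    ← inf_assoc, inf_eq_left.2 (coreU_le_centralizer t)]

theorem card_centralizer_four (h : Hyp t r s) (hV : fourV t r ≤ H) :
    Nat.card (centralizer ({⟨t, hV (left_mem_fourV t r)⟩, ⟨r, hV (right_mem_fourV t r)⟩} : Set H)) =
      4 * Nat.card (coreW t r ⊓ H : Subgroup G) := by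
  have e : (centralizer ({⟨t, hV (left_mem_fourV t r)⟩, ⟨r, hV (right_mem_fourV t r)⟩} : Set H)).map
      H.subtype = centralizer ({t, r} : Set G) ⊓ H := by
    ext x
    constructor
    · rintro ⟨y, hy, rfl⟩
      refine ⟨mem_centralizer_iff.2 ?_, y.2⟩
      rintro z (rfl | rfl)
      exacts [congrArg Subtype.val (mem_centralizer_iff.1 hy _ (Set.mem_insert _ _)),
        congrArg Subtype.val (mem_centralizer_iff.1 hy _ (Set.mem_insert_of_mem _ rfl))]
    · rintro ⟨hx, hxH⟩
      refine ⟨⟨x, hxH⟩, mem_centralizer_iff.2 ?_, rfl⟩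
      rintro z (rfl | rfl)
      exacts [Subtype.ext (mem_centralizer_iff.1 hx t (Set.mem_insert _ _)),
        Subtype.ext (mem_centralizer_iff.1 hx r (Set.mem_insert_of_mem _ rfl))]
  have hVc : fourV t r ≤ centralizer ({t, r} : Set G) := by
    rw [fourV_le_centralizer_iff]
    constructor <;> refine mem_centralizer_iff.2 ?_ <;> rintro z (rfl | rfl)
    exacts [rfl, h.comm.symm.eq, h.comm.eq, rfl]
  have e' : coreU t ⊓ (centralizer ({t, r} : Set G) ⊓ H) = coreW t r ⊓ H := by
    ext x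
    simp only [mem_inf, coreW, mem_centralizer_iff, Set.mem_insert_iff, Set.mem_singleton_iff,
      forall_eq_or_imp, forall_eq]
    constructor
    · rintro ⟨h1, ⟨-, h3⟩, h4⟩; exact ⟨⟨h1, h3⟩, h4⟩
    · rintro ⟨⟨h1, h3⟩, h4⟩; exact ⟨h1, ⟨(commute_of_mem_coreU h1).eq.symm, h3⟩, h4⟩
  rw [← Cores.card_map_subtype, e, card_mul_four h (le_inf hVc hV)
    (inf_le_left.trans (centralizer_le (Set.singleton_subset_iff.2 (Set.mem_insert _ _)))), e']

/-- Conjugation moves the fixed points in the core. -/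
theorem card_fix_conj (m x : H) :
    Nat.card (Cfsg.oddCore H ⊓ centralizer ({m * x * m⁻¹} : Set H) : Subgroup H) =
      Nat.card (Cfsg.oddCore H ⊓ centralizer ({x} : Set H) : Subgroup H) := by
  rw [← card_map_of_injective (f := (MulAut.conj m).toMonoidHom) (MulAut.conj m).injective
    (K := (Cfsg.oddCore H ⊓ centralizer ({x} : Set H) : Subgroup H))]
  congr 2
  ext y
  rw [mem_map_equiv, mem_inf, mem_inf, MulAut.conj_symm_apply, mem_centralizer_singleton_iff,
    mem_centralizer_singleton_iff]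
  refine and_congr ⟨fun hy => ?_, fun hy => ?_⟩ ⟨fun hy => ?_, fun hy => ?_⟩
  · simpa [mul_assoc] using (Cfsg.pPrimeCore_normal 2 H).conj_mem _ hy m⁻¹
  · simpa [mul_assoc] using (Cfsg.pPrimeCore_normal 2 H).conj_mem _ hy m
  · calc m⁻¹ * y * m * x = m⁻¹ * (y * (m * x * m⁻¹)) * m := by group
      _ = x * (m⁻¹ * y * m) := by rw [hy]; group
  · calc y * (m * x * m⁻¹) = m * (m⁻¹ * y * m * x) * m⁻¹ := by group
      _ = m * x * m⁻¹ * y := by rw [hy]; group

/-- Wielandt's formula on the core. -/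
theorem card_core_mul (h : Hyp t r s) (hV : fourV t r ≤ H) :
    Nat.card (Cfsg.oddCore H) * Nat.card (Cfsg.oddCore H ⊓
      centralizer ({⟨t, hV (left_mem_fourV t r)⟩, ⟨r, hV (right_mem_fourV t r)⟩} : Set H) : Subgroup H) ^ 2 =
    Nat.card (Cfsg.oddCore H ⊓ centralizer ({⟨t, hV (left_mem_fourV t r)⟩} : Set H) : Subgroup H) *
      Nat.card (Cfsg.oddCore H ⊓ centralizer ({⟨r, hV (right_mem_fourV t r)⟩} : Set H) : Subgroup H) *
      Nat.card (Cfsg.oddCore H ⊓ centralizer
        ({⟨t, hV (left_mem_fourV t r)⟩ * ⟨r, hV (right_mem_fourV t r)⟩} : Set H) : Subgroup H) := by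
  set tH : H := ⟨t, hV (left_mem_fourV t r)⟩
  set rH : H := ⟨r, hV (right_mem_fourV t r)⟩
  set O := Cfsg.oddCore H
  let α : H →* MulAut O := MulAut.conjNormal
  have hfix : ∀ x : H, (DegThreeP.fixAut (α x)).map O.subtype = O ⊓ centralizer ({x} : Set H) := by
    intro x
    ext y
    constructor
    · rintro ⟨z, hz, rfl⟩
      refine ⟨z.2, mem_centralizer_singleton_iff.2 ?_⟩
      have e := congrArg Subtype.val (DegThreeP.mem_fixAut.1 hz)
      rw [MulAut.conjNormal_apply] at e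
      exact (mul_inv_eq_iff_eq_mul.1 e).symm
    · rintro ⟨hy, hc⟩
      refine ⟨⟨y, hy⟩, DegThreeP.mem_fixAut.2 (Subtype.ext ?_), rfl⟩
      rw [MulAut.conjNormal_apply]
      exact mul_inv_eq_iff_eq_mul.2 (mem_centralizer_singleton_iff.1 hc).symm
  have hboth : (DegThreeP.fixAut (α tH) ⊓ DegThreeP.fixAut (α rH)).map O.subtype =
      O ⊓ centralizer ({tH, rH} : Set H) := by
    rw [Subgroup.map_inf _ _ _ (subtype_injective _), hfix, hfix]
    ext y
    simp only [mem_inf, mem_centralizer_iff, Set.mem_insert_iff, Set.mem_singleton_iff,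
      forall_eq_or_imp, forall_eq]
    tauto
  have hO : Odd (Nat.card O) :=
    Nat.not_even_iff_odd.1 fun e => not_two_dvd_core H (even_iff_two_dvd.1 e)
  have key := DegThreeP.wielandt_four hO (α tH) (α rH)
    (by rw [← map_mul, show tH * tH = 1 from Subtype.ext h.mul_self_t, map_one])
    (by rw [← map_mul, show rH * rH = 1 from Subtype.ext h.mul_self_r, map_one])
    ((show Commute tH rH from Subtype.ext h.comm.eq).map α)
  rw [← map_mul, ← card_map_of_injective (f := O.subtype) (subtype_injective _) (K := DegThreeP.fixAut (α tH) ⊓ DegThreeP.fixAut (α rH)), hboth,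
    ← card_map_of_injective (f := O.subtype) (subtype_injective _) (K := DegThreeP.fixAut (α tH)), hfix,
    ← card_map_of_injective (f := O.subtype) (subtype_injective _) (K := DegThreeP.fixAut (α rH)), hfix,
    ← card_map_of_injective (f := O.subtype) (subtype_injective _)
      (K := DegThreeP.fixAut (α (tH * rH))), hfix] at key
  exact key

end LocalL2

open LocalL2 in
/-- A subgroup over the four-group of type `L2(q)` satisfies `L2Local`. -/
theorem Hyp.exists_l2Local (h : Hyp t r s) (hV : fourV t r ≤ H) (hL : IsL2Like H) :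
    ∃ n Q, L2Local t r H n Q := by
  classical
  haveI : Fact (Nat.Prime 2) := ⟨Nat.prime_two⟩
  obtain ⟨F, _, _, hq, hq3, L, hLn, -, ⟨e⟩⟩ := hL
  let ι : PSL2 F →* H ⧸ Cfsg.oddCore H := L.subtype.comp e.symm.toMonoidHom
  set tH : H := ⟨t, hV (left_mem_fourV t r)⟩ with htH
  set rH : H := ⟨r, hV (right_mem_fourV t r)⟩ with hrH
  set t' := bar H tH with ht'
  set r' := bar H rH with hr'
  obtain ⟨P, hP⟩ := h.sylow
  let T : Sylow 2 H := P.subtype (hP ▸ hV)
  let T' : Sylow 2 (H ⧸ Cfsg.oddCore H) := T.mapSurjective (QuotientGroup.mk'_surjective _)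
  have hTV : ∀ x : H, x ∈ (T : Subgroup H) ↔ (x : G) ∈ fourV t r := fun x => by rw [← hP]; rfl
  have hT' : (T' : Subgroup (H ⧸ Cfsg.oddCore H)) = closure ({t', r'} : Set (H ⧸ Cfsg.oddCore H)) := by
    refine le_antisymm ?_ ?_
    · rintro _ ⟨x, hx, rfl⟩
      rcases h.mem_iff.1 ((hTV x).1 hx) with e' | e' | e' | e'
      · rw [show x = 1 from Subtype.ext e', map_one]; exact one_mem _
      · rw [show x = tH from Subtype.ext e']; exact subset_closure (Set.mem_insert _ _)
      · rw [show x = rH from Subtype.ext e']; exact subset_closure (Set.mem_insert_of_mem _ rfl)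
      · rw [show x = tH * rH from Subtype.ext e', map_mul]
        exact mul_mem (subset_closure (Set.mem_insert _ _)) (subset_closure (Set.mem_insert_of_mem _ rfl))
    · rw [closure_le]
      rintro w (rfl | rfl)
      exacts [⟨tH, (hTV tH).2 (left_mem_fourV t r), rfl⟩, ⟨rH, (hTV rH).2 (right_mem_fourV t r), rfl⟩]
  have hcomm : Commute tH rH := Subtype.ext h.comm.eq
  have E : L2.Embedded ι t' r' :=
    { inj := L.subtype_injective.comp e.symm.injective
      normal := by
        have hr : ι.range = L := by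
          rw [MonoidHom.range_comp, MonoidHom.range_eq_top.2 e.symm.surjective, ← MonoidHom.range_eq_map,
            range_subtype]
        rw [hr]; exact hLn
      eight := by rwa [Nat.card_eq_fintype_card]
      ne_t := fun e' => h.ne_one_t (congrArg Subtype.val (eq_one_of_mem_fourV h (left_mem_fourV t r) e'))
      ne_r := fun e' => h.ne_one_r (congrArg Subtype.val (eq_one_of_mem_fourV h (right_mem_fourV t r) e'))
      ne := fun e' => h.ne <| inv_mul_eq_one.1 <| congrArg Subtype.val (eq_one_of_mem_fourV h (x := tH⁻¹ * rH)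
        (mul_mem (inv_mem (left_mem_fourV t r)) (right_mem_fourV t r))
        (by rw [map_mul, map_inv]; exact inv_mul_eq_one.2 e'))
      sq_t := by rw [← map_mul, show tH * tH = 1 from Subtype.ext h.mul_self_t, map_one]
      sq_r := by rw [← map_mul, show rH * rH = 1 from Subtype.ext h.mul_self_r, map_one]
      comm := hcomm.map (bar H)
      mem := by
        rw [← hT']
        rintro _ ⟨x, hx, rfl⟩
        rcases h.mem_iff.1 ((hTV x).1 hx) with e' | e' | e' | e'
        · exact Or.inl (by rw [show x = 1 from Subtype.ext e', map_one])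
        · exact Or.inr (Or.inl (by rw [show x = tH from Subtype.ext e']; rfl))
        · exact Or.inr (Or.inr (Or.inl (by rw [show x = rH from Subtype.ext e']; rfl)))
        · exact Or.inr (Or.inr (Or.inr (by rw [show x = tH * rH from Subtype.ext e', map_mul]; rfl)))
      pgroup := hT' ▸ T'.isPGroup'
      max := fun S hS hle => by
        rw [← hT'] at hle ⊢
        exact T'.is_maximal' hS hle }
  obtain ⟨n, hn⟩ := L2.exists_torusOrder F E.eight (by rwa [Nat.card_eq_fintype_card])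
  obtain ⟨u, v, hu, hv, hu2, hv2⟩ := E.exists_preimages
  have hn0 := hn.pos
  set C := centralizer ({u} : Set (PSL2 F)) with hC
  have hidx : Nat.card (PSL2 F) = 2 * n * (2 * Nat.card (PSL2 F ⧸ C)) := by
    rw [card_eq_card_quotient_mul_card_subgroup C, hn.card_centralizer hu2]; ring
  refine ⟨n, 2 * Nat.card (PSL2 F ⧸ C), ?_⟩
  -- lifts
  let σ : PSL2 F → G := fun l => (((ι l).out : H) : G)
  have hσ : ∀ l, σ l ∈ H := fun l => Subtype.prop _
  have hσb : ∀ l, bar H ⟨σ l, hσ l⟩ = ι l := fun l => QuotientGroup.out_eq' _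
  have hσi : Function.Injective σ := fun a b hab => E.inj (by
    rw [← hσb a, ← hσb b]; exact congrArg _ (Subtype.ext hab))
  -- the inverted elements
  have hinv : ∀ a (ha : a ∈ H), InvElt t r a →
      Commute (bar H ⟨a, ha⟩) t' ∧ r' * bar H ⟨a, ha⟩ * r'⁻¹ = (bar H ⟨a, ha⟩)⁻¹ := fun a ha hi =>
    ⟨(show Commute (⟨a, ha⟩ : H) tH from Subtype.ext hi.1.eq).map (bar H), by
      rw [hr', ← map_inv, ← map_mul, ← map_mul, ← map_inv]
      exact congrArg _ (Subtype.ext hi.2)⟩
  have hpre : ∀ a (ha : a ∈ H), Odd (orderOf a) → InvElt t r a →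
      ∃ x, ι x = bar H ⟨a, ha⟩ ∧ Odd (orderOf x) ∧ Commute x u := fun a ha ho hi =>
    E.exists_pre hu (odd_bar (x := ⟨a, ha⟩) ho) (hinv a ha hi).1 (hinv a ha hi).2
  have hsep : ∀ (w : PSL2 F) (z : G) (hz : z ∈ H), bar H ⟨z, hz⟩ = ι w → ∀ l l' : PSL2 F, ∀ a b : ℕ,
      (σ l * z ^ a * (σ l)⁻¹)⁻¹ * (σ l' * z ^ b * (σ l')⁻¹) ∈ oddPart H →
      l * w ^ a * l⁻¹ = l' * w ^ b * l'⁻¹ := by
    intro w z hz hw l l' a b hm
    refine inv_mul_eq_one.1 (E.inj ?_)
    have h1 := bar_eq_one.2 (show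
      (((⟨σ l, hσ l⟩ : H) * (⟨z, hz⟩ : H) ^ a * (⟨σ l, hσ l⟩ : H)⁻¹)⁻¹ *
        ((⟨σ l', hσ l'⟩ : H) * (⟨z, hz⟩ : H) ^ b * (⟨σ l', hσ l'⟩ : H)⁻¹) : H).1 ∈ oddPart H from hm)
    simp only [map_mul, map_inv, map_pow, hσb, hw] at h1 ⊢
    rw [h1, map_one]
  have hzw : ∀ p : ℕ, p.Prime → ∀ z (hz : z ∈ H), z ^ p = 1 → InvElt t r z → z ∉ oddPart H →
      ∃ w u' : PSL2 F, ι w = bar H ⟨z, hz⟩ ∧ orderOf w = p ∧ orderOf u' = 2 ∧
        (p ≠ 2 → Commute w u') ∧
        ∀ c : PSL2 F, ∀ a b : ℕ, ¬ p ∣ a → c * w ^ a * c⁻¹ = w ^ b → Commute c u' := by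
    intro p hp z hz hzp hi hzO
    haveI : Fact p.Prime := ⟨hp⟩
    have hb1 : bar H ⟨z, hz⟩ ≠ 1 := fun e' => hzO (bar_eq_one.1 e')
    have hbp : bar H ⟨z, hz⟩ ^ p = 1 := by
      rw [← map_pow, show (⟨z, hz⟩ : H) ^ p = 1 from Subtype.ext hzp, map_one]
    have hord : ∀ w : PSL2 F, ι w = bar H ⟨z, hz⟩ → orderOf w = p := fun w hw => by
      rw [← orderOf_injective ι E.inj, hw]
      exact orderOf_eq_prime hbp hb1
    by_cases hp2 : p = 2
    · subst hp2
      set Z := bar H ⟨z, hz⟩ with hZ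
      obtain ⟨hZt, hZr⟩ := hinv z hz hi
      have hZi : Z⁻¹ = Z := inv_eq_of_mul_eq_one_right (by rw [← pow_two, hbp])
      rw [hZi] at hZr
      have hZn : Z ∈ normalizer (closure ({t', r'} : Set (H ⧸ Cfsg.oddCore H)) : Set (H ⧸ Cfsg.oddCore H)) := by
        refine Coprime.mem_normalizer_of_forall fun x hx => ?_
        have hc : Z ∈ centralizer ({t', r'} : Set (H ⧸ Cfsg.oddCore H)) := mem_centralizer_iff.2 (by
          rintro y (rfl | rfl)
          exacts [hZt.eq.symm, mul_inv_eq_iff_eq_mul.1 hZr])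
        rw [← centralizer_closure] at hc
        rwa [← mem_centralizer_iff.1 hc x hx, mul_inv_cancel_right]
      have hZT : Z ∈ closure ({t', r'} : Set (H ⧸ Cfsg.oddCore H)) := by
        rw [← E.max _ (IsPGroup.to_sup_of_normal_right' (IsPGroup.of_card (n := 1)
          (by rw [Nat.card_zpowers, orderOf_eq_prime hbp hb1, pow_one])) E.pgroup
          (zpowers_le.2 hZn)) le_sup_right]
        exact mem_sup_left (mem_zpowers _)
      obtain ⟨w, hw⟩ := E.le_range hZT
      have hwo := hord w hw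
      refine ⟨w, w, hw, hwo, hwo, fun h2 => (h2 rfl).elim, fun c a b ha hab => ?_⟩
      have hwp : w ^ 2 = 1 := orderOf_dvd_iff_pow_eq_one.1 hwo.dvd
      have hpow : ∀ k : ℕ, w ^ k = w ^ (k % 2) := fun k => pow_eq_pow_mod k hwp
      rw [hpow a, hpow b, show a % 2 = 1 by omega, pow_one] at hab
      rcases Nat.mod_two_eq_zero_or_one b with hb | hb <;> rw [hb] at hab
      · rw [pow_zero, conj_eq_one_iff] at hab
        rw [hab, orderOf_one] at hwo
        omega
      · rw [pow_one] at hab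
        exact mul_inv_eq_iff_eq_mul.1 hab
    · have hzo : Odd (orderOf z) :=
        (hp.odd_of_ne_two hp2).of_dvd_nat (orderOf_dvd_of_pow_eq_one hzp)
      obtain ⟨w, hw, -, hwu⟩ := hpre z hz hzo hi
      exact ⟨w, u, hw, hord w hw, hu2, fun _ => hwu,
        fun c a b ha hab => hn.mem_centralizer_of_conj_pow hu2 hp hp2 (hord w hw) hwu ha hab⟩
  have hsame : ∀ {u' w : PSL2 F} {p : ℕ},
      (∀ c : PSL2 F, ∀ a b : ℕ, ¬ p ∣ a → c * w ^ a * c⁻¹ = w ^ b → Commute c u') →
      ∀ l l' : PSL2 F, ∀ a b : ℕ, ¬ p ∣ a → l * w ^ a * l⁻¹ = l' * w ^ b * l'⁻¹ →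
        Commute (l'⁻¹ * l) u' := fun {u' w p} hu' l l' a b ha hab => hu' _ a b ha (by
      calc l'⁻¹ * l * w ^ a * (l'⁻¹ * l)⁻¹ = l'⁻¹ * (l * w ^ a * l⁻¹) * l' := by group
        _ = w ^ b := by rw [hab]; group)
  -- cosets of the centraliser of any involution
  have hcosets : ∀ u' : PSL2 F, orderOf u' = 2 → ∃ S : Finset (PSL2 F),
      S.card = Nat.card (PSL2 F ⧸ C) ∧ ∀ l ∈ S, ∀ l' ∈ S, Commute (l'⁻¹ * l) u' → l = l' := by
    intro u' hu'
    haveI : Fintype (PSL2 F ⧸ centralizer ({u'} : Set (PSL2 F))) := Fintype.ofFinite _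
    refine ⟨Finset.univ.image (Quotient.out : PSL2 F ⧸ centralizer ({u'} : Set (PSL2 F)) → PSL2 F), ?_, ?_⟩
    · rw [Finset.card_image_of_injective _ (fun a b hab => by
        rw [← QuotientGroup.out_eq' a, hab, QuotientGroup.out_eq']), Finset.card_univ, ← Nat.card_eq_fintype_card]
      refine Nat.eq_of_mul_eq_mul_right (show 0 < 4 * n by omega) ?_
      have e1 := card_eq_card_quotient_mul_card_subgroup (centralizer ({u'} : Set (PSL2 F)))
      have e2 := card_eq_card_quotient_mul_card_subgroup C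
      rw [hn.card_centralizer hu'] at e1
      rw [hn.card_centralizer hu2] at e2
      exact e1.symm.trans e2
    · intro l hl l' hl' hc
      obtain ⟨c, -, rfl⟩ := Finset.mem_image.1 hl
      obtain ⟨c', -, rfl⟩ := Finset.mem_image.1 hl'
      have e' : (QuotientGroup.mk c'.out : PSL2 F ⧸ centralizer ({u'} : Set (PSL2 F))) =
          QuotientGroup.mk c.out := QuotientGroup.eq.2 (mem_centralizer_singleton_iff.2 hc.eq)
      rw [QuotientGroup.out_eq', QuotientGroup.out_eq'] at e'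
      rw [e']
  have hbig : 12 * n ^ 2 ≤ 2 * Nat.card (PSL2 F ⧸ C) := by
    refine Nat.le_of_mul_le_mul_left ?_ (show 0 < 2 * n by omega)
    rw [← hidx, show 2 * n * (12 * n ^ 2) = 24 * n ^ 3 by ring]
    exact hn.card_big
  -- an element moving the involutions
  obtain ⟨mH, hm1, hm2⟩ : ∃ mH : H, mH * tH * mH⁻¹ = rH ∧ mH * rH * mH⁻¹ = tH * rH := by
    obtain ⟨m, hm1, hm2⟩ := E.exists_cycle
    obtain ⟨x, hx⟩ := QuotientGroup.mk'_surjective (Cfsg.oddCore H) (ι m)
    have hxm : bar H x = ι m := hx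
    have hconj : ∀ w : H, (w : G) ∈ fourV t r → bar H (x * w * x⁻¹) ∈ (T' : Subgroup (H ⧸ Cfsg.oddCore H)) := by
      intro w hw
      rw [map_mul, map_mul, map_inv, hxm, hT']
      rcases E.mem _ (hT' ▸ ⟨w, (hTV w).2 hw, rfl⟩ : bar H w ∈ _) with e' | e' | e' | e' <;> rw [e']
      · simp
      · rw [hm1]; exact E.r_mem
      · rw [hm2]; exact mul_mem E.t_mem E.r_mem
      · rw [show ι m * (t' * r') * (ι m)⁻¹ = (ι m * t' * (ι m)⁻¹) * (ι m * r' * (ι m)⁻¹) by group, hm1,
          hm2]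
        exact mul_mem E.r_mem (mul_mem E.t_mem E.r_mem)
    obtain ⟨o, ho, hn'⟩ := Constrained.exists_mul_mem_normalizer (O := Cfsg.oddCore H) (not_two_dvd_core H)
      T.isPGroup' (x := x) fun w hw => by
        obtain ⟨w', hw', e'⟩ := hconj w ((hTV w).1 hw)
        refine (mem_sup_of_normal_left).2 ⟨x * w * x⁻¹ * w'⁻¹, (QuotientGroup.eq_one_iff _).1 ?_, w', hw',
          inv_mul_cancel_right _ _⟩
        show bar H (x * w * x⁻¹ * w'⁻¹) = 1
        rw [map_mul, map_inv]
        exact mul_inv_eq_one.2 e'.symm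
    have hbox : bar H (o * x) = ι m := by
      rw [map_mul, show bar H o = 1 from (QuotientGroup.eq_one_iff o).2 ho, one_mul, hxm]
    have key : ∀ a b : H, (a : G) ∈ fourV t r → (b : G) ∈ fourV t r →
        ι m * bar H a * (ι m)⁻¹ = bar H b → o * x * a * (o * x)⁻¹ = b := fun a b ha hb he => by
      refine mul_inv_eq_one.1 (eq_one_of_mem_fourV h (mul_mem ((hTV _).1 ((mem_normalizer_iff.1 hn' a).1
        ((hTV a).2 ha))) (inv_mem hb)) ?_)
      rw [map_mul, map_mul, map_mul, map_inv, map_inv, hbox, he, mul_inv_cancel]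
    exact ⟨o * x, key tH rH (left_mem_fourV t r) (right_mem_fourV t r) hm1,
      key rH (tH * rH) (right_mem_fourV t r) (mul_mem (left_mem_fourV t r) (right_mem_fourV t r))
        (by rw [map_mul]; exact hm2)⟩
  refine
    { pos := hn0
      big := hbig
      order := ?_
      pow_mem := fun a ha ho hi => ?_
      comm_mem := fun a ha b hb hao hbo hai hbi => ?_
      cyclic := fun a ha b hb p hp hp2 hai hbi hia hib => ?_
      two := fun p hp hp2 P' hP' hP'H _ a haP b hbP hia hib => ?_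
      moving := ⟨mH, mH.2, congrArg Subtype.val hm1, congrArg Subtype.val hm2⟩
      tori := fun z hz p hp hzp hi hzO => ?_
      good := fun z hz p hp hzp hi hzO => ?_ }
  · -- order formula
    have hSt : IsPGroup 2 (closure ({tH} : Set H)) := T.isPGroup'.to_le (by
      rw [closure_le, Set.singleton_subset_iff]; exact (hTV tH).2 (left_mem_fourV t r))
    have hSV : IsPGroup 2 (closure ({tH, rH} : Set H)) := T.isPGroup'.to_le (by
      rw [closure_le, Set.insert_subset_iff, Set.singleton_subset_iff]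
      exact ⟨(hTV tH).2 (left_mem_fourV t r), (hTV rH).2 (right_mem_fourV t r)⟩)
    have h1 : 4 * Nat.card (coreU t ⊓ H : Subgroup G) = Nat.card (Cfsg.oddCore H ⊓ centralizer ({tH} : Set H) : Subgroup H) *
        (n * Nat.card (centralizer ({t', r'} : Set (H ⧸ Cfsg.oddCore H)))) := by
      rw [← card_centralizer_t h hV, card_centralizer_lift _ hSt, Set.image_singleton, ← E.card_cent hn]
    have h2 : 4 * Nat.card (coreW t r ⊓ H : Subgroup G) = Nat.card (Cfsg.oddCore H ⊓ centralizer ({tH, rH} : Set H) : Subgroup H) *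
        Nat.card (centralizer ({t', r'} : Set (H ⧸ Cfsg.oddCore H))) := by
      rw [← card_centralizer_four h hV, card_centralizer_lift _ hSV, Set.image_pair]
    have h3 : Nat.card (Cfsg.oddCore H) * Nat.card (Cfsg.oddCore H ⊓ centralizer ({tH, rH} : Set H) : Subgroup H) ^ 2 =
        Nat.card (Cfsg.oddCore H ⊓ centralizer ({tH} : Set H) : Subgroup H) ^ 3 := by
      have e1 := card_fix_conj mH tH
      have e2 := card_fix_conj mH rH
      rw [hm1] at e1
      rw [hm2, e1] at e2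
      rw [card_core_mul h hV, e1, e2]
      ring
    have h4 : Nat.card H = Nat.card (H ⧸ Cfsg.oddCore H) * Nat.card (Cfsg.oddCore H) :=
      card_eq_card_quotient_mul_card_subgroup _
    have h5 := E.card_eq
    generalize Nat.card (coreU t ⊓ H : Subgroup G) = cu at h1 ⊢
    generalize Nat.card (coreW t r ⊓ H : Subgroup G) = cw at h2 ⊢
    generalize Nat.card (centralizer ({t', r'} : Set (H ⧸ Cfsg.oddCore H))) = cc at h1 h2 h5
    generalize Nat.card (Cfsg.oddCore H ⊓ centralizer ({tH, rH} : Set H) : Subgroup H) = ov at h2 h3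
    generalize Nat.card (Cfsg.oddCore H ⊓ centralizer ({tH} : Set H) : Subgroup H) = ot at h1 h3
    rw [h4]
    generalize Nat.card (Cfsg.oddCore H) = co at h3 ⊢
    generalize Nat.card (H ⧸ Cfsg.oddCore H) = ck at h5 ⊢
    generalize Nat.card (PSL2 F ⧸ C) = k at hidx ⊢
    generalize Nat.card (PSL2 F) = cl at hidx h5
    refine Nat.eq_of_mul_eq_mul_left (show 0 < 4 * 16 by norm_num) ?_
    calc 4 * 16 * (ck * co * cw ^ 2 * (16 * n ^ 2))
        = (ck * 4) * co * (4 * cw) ^ 2 * (16 * n ^ 2) := by ring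
      _ = cl * cc ^ 3 * (co * ov ^ 2) * (16 * n ^ 2) := by rw [h5, h2]; ring
      _ = 32 * (ot * (n * cc)) ^ 3 * (2 * k) := by rw [h3, hidx]; ring
      _ = 4 * 16 * (32 * cu ^ 3 * (2 * k)) := by rw [← h1]; ring
  · -- pow_mem
    obtain ⟨x, hx, hxo, hxu⟩ := hpre a ha ho hi
    have h1 : bar H (⟨a, ha⟩ ^ n) = 1 := by
      rw [map_pow, ← hx, ← map_pow, hn.pow_eq_one hu2 hxo hxu, map_one]
    exact bar_eq_one.1 h1
  · -- comm_mem
    obtain ⟨x, hx, hxo, hxu⟩ := hpre a ha hao hai
    obtain ⟨y, hy, hyo, hyu⟩ := hpre b hb hbo hbi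
    refine (bar_eq_one (x := ⟨a, ha⟩ * ⟨b, hb⟩ * ⟨a, ha⟩⁻¹ * ⟨b, hb⟩⁻¹)).1 ?_
    simp only [map_mul, map_inv, ← hx, ← hy]
    rw [← map_inv, ← map_inv, ← map_mul, ← map_mul, ← map_mul,
      (hn.commute_of_odd hu2 hxo hxu hyo hyu).eq, mul_inv_cancel_right, mul_inv_cancel, map_one]
  · -- cyclic
    obtain ⟨i, hi⟩ := hai
    obtain ⟨j, hj⟩ := hbi
    have ho : ∀ {c : G} {k : ℕ}, c ^ p ^ k = 1 → Odd (orderOf c) := fun hk =>
      ((hp.odd_of_ne_two hp2).pow).of_dvd_nat (orderOf_dvd_of_pow_eq_one hk)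
    obtain ⟨x, hx, -, hxu⟩ := hpre a ha (ho hi) hia
    obtain ⟨y, hy, -, hyu⟩ := hpre b hb (ho hj) hib
    have hxi : x ^ p ^ i = 1 := E.inj (by
      rw [map_pow, hx, ← map_pow, map_one, show (⟨a, ha⟩ : H) ^ p ^ i = 1 from Subtype.ext hi, map_one])
    have hyj : y ^ p ^ j = 1 := E.inj (by
      rw [map_pow, hy, ← map_pow, map_one, show (⟨b, hb⟩ : H) ^ p ^ j = 1 from Subtype.ext hj, map_one])
    rcases hn.cyclic_of_pgroup hu2 hp hp2 hxi hyj hxu hyu with hc | hc
    · obtain ⟨k, hk⟩ := (mem_powers_iff_mem_zpowers (x := y) (y := x)).2 hc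
      refine Or.inl ⟨k, (bar_eq_one (x := (⟨b, hb⟩ ^ k)⁻¹ * ⟨a, ha⟩)).1 ?_⟩
      rw [map_mul, map_inv, map_pow, ← hx, ← hy, ← map_pow]
      exact inv_mul_eq_one.2 (congrArg ι hk)
    · obtain ⟨k, hk⟩ := (mem_powers_iff_mem_zpowers (x := x) (y := y)).2 hc
      refine Or.inr ⟨k, (bar_eq_one (x := (⟨a, ha⟩ ^ k)⁻¹ * ⟨b, hb⟩)).1 ?_⟩
      rw [map_mul, map_inv, map_pow, ← hx, ← hy, ← map_pow]
      exact inv_mul_eq_one.2 (congrArg ι hk)
  · -- two
    have ha : a ∈ H := hP'H haP
    have hb : b ∈ H := hP'H hbP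
    have hX : IsPGroup p ((P'.subgroupOf H).map (bar H)) :=
      (hP'.of_equiv (subgroupOfEquivOfLe hP'H).symm).map _
    rcases E.eq_one_of_pgroup hn hp hp2 hX (a := bar H ⟨a, ha⟩) (b := bar H ⟨b, hb⟩)
      ⟨_, mem_subgroupOf.2 haP, rfl⟩ ⟨_, mem_subgroupOf.2 hbP, rfl⟩ (hinv a ha hia).1 (hinv a ha hia).2
      (by rw [ht', ← map_inv, ← map_mul, ← map_mul, ← map_inv]; exact congrArg _ (Subtype.ext hib.2))
      with h1 | h1
    · exact Or.inl (bar_eq_one.1 h1)
    · exact Or.inr (bar_eq_one.1 h1)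
  · -- tori
    obtain ⟨w, u', hw, hwo, hu', -, hsepw⟩ := hzw p hp z hz hzp hi hzO
    obtain ⟨S, hScard, hS⟩ := hcosets u' hu'
    refine ⟨S.image σ, fun g hg => ?_, ?_, ?_⟩
    · obtain ⟨l, -, rfl⟩ := Finset.mem_image.1 hg; exact hσ l
    · rw [Finset.card_image_of_injective _ hσi, hScard]
    · intro g hg g' hg' a b hab hm
      obtain ⟨l, hl, rfl⟩ := Finset.mem_image.1 hg
      obtain ⟨l', hl', rfl⟩ := Finset.mem_image.1 hg'
      rw [hS l hl l' hl' (hsame hsepw l l' a b hab (hsep w z hz hw.symm l l' a b hm))]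
  · -- good
    obtain ⟨w, u', hw, hwo, hu', hwu, hsepw⟩ := hzw p hp z hz hzp hi hzO
    by_cases hp2 : p = 2
    · subst hp2
      obtain ⟨S, hScard, hS⟩ := hcosets u' hu'
      refine ⟨S.image σ, fun g hg => ?_, ?_, fun g _ => ?_, ?_⟩
      · obtain ⟨l, -, rfl⟩ := Finset.mem_image.1 hg; exact hσ l
      · rw [Finset.card_image_of_injective _ hσi, hScard]
        have : 1 ≤ n ^ 2 := Nat.one_le_pow _ _ hn0
        omega
      · refine even_iff_two_dvd.2 ?_
        have h2 : orderOf z = 2 := orderOf_eq_prime hzp fun e' => hzO (e' ▸ one_mem _)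
        rw [← h2]
        exact orderOf_dvd_natCard _ (subset_closure (Set.mem_insert _ _))
      · intro g hg g' hg' a b hab hm
        obtain ⟨l, hl, rfl⟩ := Finset.mem_image.1 hg
        obtain ⟨l', hl', rfl⟩ := Finset.mem_image.1 hg'
        rw [hS l hl l' hl' (hsame hsepw l l' a b hab (hsep w z hz hw.symm l l' a b hm))]
    · have hzo : Odd (orderOf z) :=
        (hp.odd_of_ne_two hp2).of_dvd_nat (orderOf_dvd_of_pow_eq_one hzp)
      obtain ⟨S, hScard, hSev, hS⟩ := hn.exists_good hu' hp hp2 hwo (hwu hp2)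
      refine ⟨S.image σ, fun g hg => ?_, ?_, fun g hg => ?_, ?_⟩
      · obtain ⟨l, -, rfl⟩ := Finset.mem_image.1 hg; exact hσ l
      · rwa [Finset.card_image_of_injective _ hσi]
      · obtain ⟨l, hl, rfl⟩ := Finset.mem_image.1 hg
        obtain ⟨c, hc⟩ : Nat.card (closure ({w, l * w * l⁻¹} : Set (PSL2 F))) ∣
            Nat.card (closure ({z, σ l * z * (σ l)⁻¹} : Set G)) := by
          have h1 : (closure ({w, l * w * l⁻¹} : Set (PSL2 F))).map ι =
              (closure ({⟨z, hz⟩, ⟨σ l, hσ l⟩ * ⟨z, hz⟩ * ⟨σ l, hσ l⟩⁻¹} : Set H)).map (bar H) := by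
            rw [MonoidHom.map_closure, MonoidHom.map_closure, Set.image_pair, Set.image_pair]
            simp only [map_mul, map_inv, hσb, hw]
          have h2 : (closure ({⟨z, hz⟩, ⟨σ l, hσ l⟩ * ⟨z, hz⟩ * ⟨σ l, hσ l⟩⁻¹} : Set H)).map H.subtype =
              closure ({z, σ l * z * (σ l)⁻¹} : Set G) := by
            rw [MonoidHom.map_closure, Set.image_pair]; rfl
          rw [← h2, Cores.card_map_subtype, ← card_map_of_injective E.inj, h1]
          exact card_map_dvd _ _
        rw [hc]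
        exact (hSev l hl).mul_right c
      · intro g hg g' hg' a b hab hm
        obtain ⟨l, hl, rfl⟩ := Finset.mem_image.1 hg
        obtain ⟨l', hl', rfl⟩ := Finset.mem_image.1 hg'
        rw [hS l hl l' hl' (hsame hsepw l l' a b hab (hsep w z hz hw.symm l l' a b hm))]

end Cfsg.Agent.GWKlein
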