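import Cfsg.Agent.Lib.GWKlein.General.CountDefs
import Mathlib.Tactic.Linarith

/-!
# Gorenstein-Walter, Klein general case: the counting inequality

* `OrderFormula`: Brauer's order formula with `8/15 ≤ S₀`
* `card_conjSet_mul`: orbit and stabiliser
* `Hyp.index_bound`, `Hyp.two_mul_card_le`: at most `5 c³ / (2 l²)` conjugates of `y`
-/

set_option autoImplicit false

namespace Cfsg.Agent.GWKlein

open Subgroup

universe u

variable {G : Type u} [Group G]

/-- `|G| |W|² S₀ = 32 |U|³` with `8/15 ≤ S₀`. -/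
def OrderFormula (t r : G) : Prop :=
  ∃ S₀ : ℚ, 8 / 15 ≤ S₀ ∧
    (Nat.card G : ℚ) * (Nat.card (coreW t r) : ℚ) ^ 2 * S₀ = 32 * (Nat.card (coreU t) : ℚ) ^ 3

variable [Finite G] {t r s : G}

omit [Finite G] in
theorem card_conjSet_eq_relIndex (K : Subgroup G) (y : G) :
    Nat.card (conjSet K y) = (centralizer ({y} : Set G)).relIndex K := by
  rw [relIndex, index_eq_card]
  refine (Nat.card_congr (Equiv.ofBijective (fun q : K ⧸ (centralizer ({y} : Set G)).subgroupOf K =>
    Quotient.liftOn' q (fun u : K => (⟨(u : G) * y * (u : G)⁻¹, (u : G), u.2, rfl⟩ : conjSet K y))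
      fun a b hab => ?_) ⟨?_, ?_⟩)).symm
  · rw [QuotientGroup.leftRel_apply, mem_subgroupOf, mem_centralizer_singleton_iff] at hab
    push_cast at hab
    refine Subtype.ext ?_
    calc (a : G) * y * (a : G)⁻¹ = (a : G) * (y * ((a : G)⁻¹ * b)) * (b : G)⁻¹ := by group
      _ = (a : G) * ((a : G)⁻¹ * b * y) * (b : G)⁻¹ := by rw [hab]
      _ = (b : G) * y * (b : G)⁻¹ := by group
  · rintro ⟨a⟩ ⟨b⟩ hab
    refine Quotient.sound' ?_
    rw [QuotientGroup.leftRel_apply, mem_subgroupOf, mem_centralizer_singleton_iff]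
    push_cast
    have e : (a : G) * y * (a : G)⁻¹ = (b : G) * y * (b : G)⁻¹ := congrArg Subtype.val hab
    calc (a : G)⁻¹ * b * y = (a : G)⁻¹ * ((b : G) * y * (b : G)⁻¹) * b := by group
      _ = (a : G)⁻¹ * ((a : G) * y * (a : G)⁻¹) * b := by rw [e]
      _ = y * ((a : G)⁻¹ * b) := by group
  · rintro ⟨x, u, hu, rfl⟩
    exact ⟨QuotientGroup.mk ⟨u, hu⟩, rfl⟩

omit [Finite G] in
theorem card_conjSet_mul (K : Subgroup G) (y : G) :
    Nat.card (conjSet K y) * Nat.card (K ⊓ centralizer ({y} : Set G) : Subgroup G) = Nat.card K := by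
  rw [card_conjSet_eq_relIndex, ← inf_relIndex_right, inf_comm, ← relIndex_bot_left, ← relIndex_bot_left,
    mul_comm, relIndex_mul_relIndex _ _ _ bot_le inf_le_left]

theorem card_le_index {y : G} (X : Finset G) (hX : ∀ x ∈ X, IsConj y x) :
    X.card ≤ (centralizer ({y} : Set G)).index := by
  have h1 := card_conjSet_eq_relIndex (⊤ : Subgroup G) y
  rw [relIndex_top_right] at h1
  rw [← h1, ← Set.ncard_coe_finset, Nat.card_coe_set_eq]
  refine Set.ncard_le_ncard (fun x hx => ?_) (Set.toFinite _)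
  obtain ⟨c, hc⟩ := isConj_iff.1 (hX x (Finset.mem_coe.1 hx))
  exact ⟨c, mem_top c, hc⟩

/-- The order formulas of `G` and of `C(y)` bound the number of conjugates of `y`. -/
theorem index_bound (hF : OrderFormula t r) {y : G} {n Q : ℕ}
    (hL : L2Local t r (centralizer ({y} : Set G)) n Q) :
    (centralizer ({y} : Set G)).index * Nat.card (conjSet (coreW t r) y) ^ 2 * Q ≤
      30 * n ^ 2 * Nat.card (conjSet (coreU t) y) ^ 3 := by
  obtain ⟨S₀, hS, hF⟩ := hF
  have hG := (centralizer ({y} : Set G)).card_mul_index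
  have hU := card_conjSet_mul (coreU t) y
  have hW := card_conjSet_mul (coreW t r) y
  have hC := hL.order
  have huy : 0 < Nat.card (coreU t ⊓ centralizer ({y} : Set G) : Subgroup G) := Nat.card_pos
  set i := (centralizer ({y} : Set G)).index
  set C := Nat.card (centralizer ({y} : Set G))
  set uy := Nat.card (coreU t ⊓ centralizer ({y} : Set G) : Subgroup G)
  set wy := Nat.card (coreW t r ⊓ centralizer ({y} : Set G) : Subgroup G)
  set c := Nat.card (conjSet (coreU t) y)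
  set l := Nat.card (conjSet (coreW t r) y)
  have h60 : Nat.card G * Nat.card (coreW t r) ^ 2 ≤ 60 * Nat.card (coreU t) ^ 3 := by
    have h1 : (0 : ℚ) ≤ (Nat.card G : ℚ) * (Nat.card (coreW t r) : ℚ) ^ 2 := by positivity
    have h2 : (Nat.card G : ℚ) * (Nat.card (coreW t r) : ℚ) ^ 2 ≤ 60 * (Nat.card (coreU t) : ℚ) ^ 3 := by
      nlinarith [mul_le_mul_of_nonneg_left hS h1]
    exact_mod_cast h2
  rw [← hG, ← hU, ← hW] at h60
  refine Nat.le_of_mul_le_mul_left (?_ : 32 * uy ^ 3 * _ ≤ 32 * uy ^ 3 * _)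
    (Nat.mul_pos (by norm_num) (pow_pos huy 3))
  calc 32 * uy ^ 3 * (i * l ^ 2 * Q) = 32 * uy ^ 3 * Q * (i * l ^ 2) := by ring
    _ = C * wy ^ 2 * (16 * n ^ 2) * (i * l ^ 2) := by rw [hC]
    _ = C * i * (l * wy) ^ 2 * (16 * n ^ 2) := by ring
    _ ≤ 60 * (c * uy) ^ 3 * (16 * n ^ 2) := Nat.mul_le_mul_right _ h60
    _ = 32 * uy ^ 3 * (30 * n ^ 2 * c ^ 3) := by ring

theorem two_mul_index_le (hF : OrderFormula t r) {y : G} {n Q : ℕ}
    (hL : L2Local t r (centralizer ({y} : Set G)) n Q) :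
    2 * (centralizer ({y} : Set G)).index * Nat.card (conjSet (coreW t r) y) ^ 2 ≤
      5 * Nat.card (conjSet (coreU t) y) ^ 3 := by
  have h1 := index_bound hF hL
  have hn : 0 < n ^ 2 := pow_pos hL.pos 2
  refine Nat.le_of_mul_le_mul_left (?_ : 6 * n ^ 2 * _ ≤ 6 * n ^ 2 * _) (Nat.mul_pos (by norm_num) hn)
  calc 6 * n ^ 2 * (2 * (centralizer ({y} : Set G)).index * Nat.card (conjSet (coreW t r) y) ^ 2)
      = (centralizer ({y} : Set G)).index * Nat.card (conjSet (coreW t r) y) ^ 2 * (12 * n ^ 2) := by ring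
    _ ≤ (centralizer ({y} : Set G)).index * Nat.card (conjSet (coreW t r) y) ^ 2 * Q :=
        Nat.mul_le_mul_left _ hL.big
    _ ≤ 30 * n ^ 2 * Nat.card (conjSet (coreU t) y) ^ 3 := h1
    _ = 6 * n ^ 2 * (5 * Nat.card (conjSet (coreU t) y) ^ 3) := by ring

/-- Few conjugates of `y`. -/
theorem two_mul_card_le (hF : OrderFormula t r) {y : G} {n Q : ℕ}
    (hL : L2Local t r (centralizer ({y} : Set G)) n Q) (X : Finset G) (hX : ∀ x ∈ X, IsConj y x) :
    2 * X.card * Nat.card (conjSet (coreW t r) y) ^ 2 ≤ 5 * Nat.card (conjSet (coreU t) y) ^ 3 :=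
  le_trans (Nat.mul_le_mul_right _ (Nat.mul_le_mul_left 2 (card_le_index X hX))) (two_mul_index_le hF hL)

end Cfsg.Agent.GWKlein
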