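import Cfsg.Agent.Lib.GWKlein.General.Basics
import Cfsg.Agent.Lib.GWKlein.General.Count
import Cfsg.Prelude.Def_Transfer

/-!
# Gorenstein-Walter, Klein general case: elementary subgroups normalised by `C(t)` (setting)

* `TypeData`, `NoNormalInW`: what is used of the local analysis
* `mem_oddPart_centralizer`: `y` is in the core of its centraliser
* `ElemSetting`: an elementary `E ≤ U` normalised by `C(t)` with parts in `W` and outside, and its first properties
-/

set_option autoImplicit false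

namespace Cfsg.Agent.GWKlein

open Subgroup

universe u

variable {G : Type u} [Group G]

/-- The centralisers of the elements of order `p` of `W` have a torus of order divisible by `p`, and their
inverted `p`-elements are outside the core. -/
def TypeData (t r : G) (p : ℕ) : Prop :=
  ∀ y ∈ coreW t r, orderOf y = p → ∃ n Q, L2Local t r (centralizer ({y} : Set G)) n Q ∧ p ∣ n ∧
    ∀ z ∈ centralizer ({y} : Set G), InvElt t r z → z ≠ 1 → (∃ i, z ^ p ^ i = 1) →
      z ∉ oddPart (centralizer ({y} : Set G))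

/-- No non-trivial `p`-subgroup of `W` is normalised by `C(t)`. -/
def NoNormalInW (t r : G) (p : ℕ) : Prop :=
  ∀ E : Subgroup G, IsPGroup p E → E ≤ coreW t r → E ≠ ⊥ →
    centralizer ({t} : Set G) ≤ normalizer (E : Set G) → False

variable [Finite G]

/-- An element of odd order is in the odd core of its centraliser. -/
theorem mem_oddPart_centralizer {y : G} (hy : Odd (orderOf y)) :
    y ∈ oddPart (centralizer ({y} : Set G)) := by
  haveI : Fact (Nat.Prime 2) := ⟨Nat.prime_two⟩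
  set C := centralizer ({y} : Set G)
  have hyC : y ∈ C := mem_centralizer_singleton_iff.2 rfl
  have hcen : zpowers (⟨y, hyC⟩ : C) ≤ center C := by
    rw [zpowers_le, mem_center_iff]
    exact fun g => Subtype.ext (mem_centralizer_singleton_iff.1 g.2)
  haveI : (zpowers (⟨y, hyC⟩ : C)).Normal :=
    ⟨fun x hx g => by rw [mem_center_iff.1 (hcen hx) g, mul_inv_cancel_right]; exact hx⟩
  have hle : zpowers (⟨y, hyC⟩ : C) ≤ Cfsg.pPrimeCore 2 C := Cores.le_pPrimeCore inferInstance (by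
    rw [Nat.card_zpowers, orderOf_mk]
    exact (Nat.coprime_two_right.2 hy))
  exact ⟨_, hle (mem_zpowers _), rfl⟩

variable {t r s : G} {p : ℕ}

/-- Commuting inverted elements of order `p` centralising `y` generate the same subgroup. -/
theorem TypeData.mem_zpowers (hT : TypeData t r p) (hp : p.Prime) (hp2 : p ≠ 2) {y : G}
    (hy : y ∈ coreW t r) (hyp : orderOf y = p) {a b : G} (ha : InvElt t r a) (hb : InvElt t r b)
    (hap : a ^ p = 1) (hbp : b ^ p = 1) (hb1 : b ≠ 1) (hab : Commute a b) (hay : Commute a y)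
    (hby : Commute b y) : a ∈ zpowers b := by
  haveI : Fact p.Prime := ⟨hp⟩
  obtain ⟨n, Q, hL, -, hout⟩ := hT y hy hyp
  have hC : ∀ x, Commute x y → x ∈ centralizer ({y} : Set G) := fun x hx =>
    mem_centralizer_singleton_iff.2 hx.eq
  have key : ∀ (c d : G) (j : ℕ), InvElt t r c → InvElt t r d → c ^ p = 1 → d ^ p = 1 → Commute c d →
      Commute c y → Commute d y → (d ^ j)⁻¹ * c ∈ oddPart (centralizer ({y} : Set G)) → c = d ^ j := by
    intro c d j hc hd hcp hdp hcd hcy hdy hj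
    have hcomm : Commute (d ^ j)⁻¹ c := (hcd.symm.pow_left j).inv_left
    by_contra hne
    refine hout _ (mul_mem (inv_mem (pow_mem (hC d hdy) j)) (hC c hcy))
      (((hd.pow j).inv).mul hc hcomm) (fun e => hne ?_) ⟨1, ?_⟩ hj
    · rw [inv_mul_eq_one] at e; exact e.symm
    · rw [pow_one, hcomm.mul_pow, hcp, inv_pow, ← pow_mul, mul_comm j p, pow_mul, hdp, one_pow, inv_one,
        one_mul]
  rcases hL.cyclic a (hC a hay) b (hC b hby) p hp hp2 ⟨1, by rw [pow_one, hap]⟩ ⟨1, by rw [pow_one, hbp]⟩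
    ha hb with ⟨j, hj⟩ | ⟨j, hj⟩
  · rw [key a b j ha hb hap hbp hab hay hby hj]
    exact pow_mem (Subgroup.mem_zpowers b) j
  · have e := key b a j hb ha hbp hap hab.symm hby hay hj
    by_cases ha1 : a = 1
    · exact ha1 ▸ one_mem _
    · have hord : orderOf a = p := orderOf_eq_prime hap ha1
      have hle : zpowers b ≤ zpowers a := zpowers_le.2 (e ▸ pow_mem (Subgroup.mem_zpowers a) j)
      rw [eq_of_le_of_card_ge hle (by rw [Nat.card_zpowers, Nat.card_zpowers, hord, orderOf_eq_prime hbp hb1])]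
      exact Subgroup.mem_zpowers a

/-- An elementary subgroup of `U` normalised by `C(t)`, not in `W` and meeting it. -/
structure ElemSetting (t r : G) (p : ℕ) (E : Subgroup G) (z : G) : Prop where
  elem : Cfsg.IsElementaryAbelian p E
  le : E ≤ coreU t
  normal : centralizer ({t} : Set G) ≤ normalizer (E : Set G)
  z_mem : z ∈ E
  z_inv : InvElt t r z
  z_ne : z ≠ 1
  meets : E ⊓ coreW t r ≠ ⊥
  split : ∀ x ∈ E, ∃ e ∈ E ⊓ coreW t r, ∃ j : ℕ, x = e * z ^ j
  moved : ∃ n ∈ coreU t, InvElt t r n ∧ ∃ e ∈ E ⊓ coreW t r, n * e * n⁻¹ ∉ E ⊓ coreW t r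

namespace ElemSetting

set_option linter.unusedSectionVars false

variable {E : Subgroup G} {z : G}

theorem commute (hE : ElemSetting t r p E z) {a b : G} (ha : a ∈ E) (hb : b ∈ E) : Commute a b :=
  congrArg Subtype.val (hE.elem.1.is_comm.comm ⟨a, ha⟩ ⟨b, hb⟩)

theorem orderOf_eq (hE : ElemSetting t r p E z) (hp : p.Prime) {a : G} (ha : a ∈ E) (ha1 : a ≠ 1) :
    orderOf a = p := by
  haveI : Fact p.Prime := ⟨hp⟩
  exact orderOf_eq_prime (hE.elem.2 a ha) ha1

theorem z_pow (hE : ElemSetting t r p E z) : z ^ p = 1 := hE.elem.2 z hE.z_mem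

theorem conj_mem (hE : ElemSetting t r p E z) {g e : G} (hg : g ∈ centralizer ({t} : Set G)) (he : e ∈ E) :
    g * e * g⁻¹ ∈ E := (mem_normalizer_iff.1 (hE.normal hg) e).1 he

theorem zpow_eq_one (h : Hyp t r s) (hE : ElemSetting t r p E z) {j : ℕ} (hj : z ^ j ∈ coreW t r) :
    z ^ j = 1 :=
  eq_one_of_fixed_inverted (h.odd_orderOf hj.1) (conj_eq_of_commute (h.mem_coreW.1 hj).2.1)
    (hE.z_inv.pow j).2

theorem zpow_eq_one_iff (hE : ElemSetting t r p E z) (hp : p.Prime) {j : ℕ} : z ^ j = 1 ↔ p ∣ j := by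
  rw [← orderOf_dvd_iff_pow_eq_one, hE.orderOf_eq hp hE.z_mem hE.z_ne]

/-- The two coordinates of an element of `E` are unique. -/
theorem split_unique (h : Hyp t r s) (hE : ElemSetting t r p E z) {e e' : G} {j j' : ℕ}
    (he : e ∈ E ⊓ coreW t r) (he' : e' ∈ E ⊓ coreW t r) (heq : e * z ^ j = e' * z ^ j') :
    e = e' ∧ z ^ j = z ^ j' := by
  have hm : z ^ j * (z ^ j')⁻¹ = e⁻¹ * e' := by
    rw [eq_inv_mul_iff_mul_eq, ← mul_assoc, heq, mul_inv_cancel_right]
  have hw : z ^ j * (z ^ j')⁻¹ ∈ coreW t r := hm ▸ mul_mem (inv_mem he.2) he'.2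
  have h1 : z ^ j * (z ^ j')⁻¹ = 1 := eq_one_of_fixed_inverted (h.odd_orderOf hw.1)
    (conj_eq_of_commute (h.mem_coreW.1 hw).2.1)
    ((hE.z_inv.pow j).mul (hE.z_inv.pow j').inv ((Commute.refl z).pow_pow j j').inv_right).2
  rw [mul_inv_eq_one] at h1
  exact ⟨mul_right_cancel (h1 ▸ heq), h1⟩

theorem conj_zpow (hE : ElemSetting t r p E z) {e : G} (he : e ∈ E) (j : ℕ) : Commute e (z ^ j) :=
  (hE.commute he hE.z_mem).pow_right j

end ElemSetting

/-- A minimal bad elementary subgroup gives the setting. -/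
theorem Hyp.exists_elemSetting (h : Hyp t r s) (hp : p.Prime) (hp2 : p ≠ 2) (hT : TypeData t r p)
    (hno : NoNormalInW t r p) {E : Subgroup G} (hE : Cfsg.IsElementaryAbelian p E) (hEU : E ≤ coreU t)
    (hEn : centralizer ({t} : Set G) ≤ normalizer (E : Set G)) (hEW : E ⊓ coreW t r ≠ ⊥) :
    ∃ z, ElemSetting t r p E z := by
  haveI : Fact p.Prime := ⟨hp⟩
  have hEp : ∀ K : Subgroup G, K ≤ E → IsPGroup p K := fun K hK x =>
    ⟨1, Subtype.ext (by simpa using hE.2 x (hK x.2))⟩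
  obtain ⟨⟨y, hyE, hyW⟩, hy1⟩ := Subgroup.ne_bot_iff_exists_ne_one.1 hEW
  have hy1' : y ≠ 1 := fun e => hy1 (Subtype.ext e)
  have hyp : orderOf y = p := orderOf_eq_prime (hE.2 y hyE) hy1'
  have hr : ∀ x ∈ E, r * x * r⁻¹ ∈ E := fun x hx =>
    (mem_normalizer_iff.1 (hEn (h.fourV_le_centralizer_t (right_mem_fourV t r))) x).1 hx
  obtain ⟨x, hxE, hxW⟩ : ∃ x ∈ E, x ∉ coreW t r := by
    by_contra! hc
    exact hno E (hEp E le_rfl) hc (fun e => hEW (by rw [e, bot_inf_eq])) hEn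
  obtain ⟨w, -, hw, z, hzE, hz, rfl⟩ := h.exists_mul_invElt hEU hr hxE
  have hz1 : z ≠ 1 := fun e => hxW (by rw [e, mul_one]; exact hw)
  have hcE : ∀ a ∈ E, ∀ b ∈ E, Commute a b := fun a ha b hb =>
    congrArg Subtype.val (hE.1.is_comm.comm ⟨a, ha⟩ ⟨b, hb⟩)
  have hsplit : ∀ x ∈ E, ∃ e ∈ E ⊓ coreW t r, ∃ j : ℕ, x = e * z ^ j := by
    intro x hx
    obtain ⟨e, heE, he, a, haE, ha, rfl⟩ := h.exists_mul_invElt hEU hr hx
    obtain ⟨k, hk⟩ := mem_zpowers_iff.1 (hT.mem_zpowers hp hp2 hyW hyp ha hz (hE.2 a haE) (hE.2 z hzE)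
      hz1 (hcE a haE z hzE) (hcE a haE y hyE) (hcE z hzE y hyE))
    obtain ⟨j, hj⟩ := (Submonoid.mem_powers_iff _ _).1
      ((isOfFinOrder_of_finite z).mem_powers_iff_mem_zpowers.2 ⟨k, rfl⟩)
    refine ⟨e, ⟨heE, he⟩, j, ?_⟩
    simp only at hj
    rw [hj, hk]
  refine ⟨z, hE, hEU, hEn, hzE, hz, hz1, hEW, hsplit, ?_⟩
  by_contra hc
  push_neg at hc
  refine hno (E ⊓ coreW t r) (hEp _ inf_le_left) inf_le_right hEW ?_
  have hU : coreU t ≤ normalizer ((E ⊓ coreW t r : Subgroup G) : Set G) := by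
    intro u hu
    obtain ⟨w, -, hw, n, hnU, hn, rfl⟩ := h.exists_mul_invElt le_rfl h.coreU_r_invariant hu
    have hwn : w ∈ normalizer ((E ⊓ coreW t r : Subgroup G) : Set G) :=
      Coprime.mem_normalizer_of_forall fun e he => Subgroup.mem_inf.2 ⟨(mem_normalizer_iff.1
        (hEn (coreU_le_centralizer t hw.1)) e).1 (Subgroup.mem_inf.1 he).1,
        Subgroup.mul_mem _ (Subgroup.mul_mem _ hw (Subgroup.mem_inf.1 he).2) (Subgroup.inv_mem _ hw)⟩
    refine mul_mem hwn ?_
    exact Coprime.mem_normalizer_of_forall fun e he => hc n hnU hn e he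
  rw [← h.sup_fourV]
  refine sup_le hU fun v hv => Coprime.mem_normalizer_of_forall fun e he => ?_
  rw [show v * e * v⁻¹ = e by
    rw [mem_centralizer_iff.1 (h.coreW_le_centralizer he.2) v hv, mul_inv_cancel_right]]
  exact he

end Cfsg.Agent.GWKlein
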