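import Cfsg.Agent.Lib.GWKlein.General.CountDefs

/-!
# Gorenstein-Walter, Klein general case: fixed and inverted elements

* `commute_of_sq`, `eq_one_of_fixed_inverted`: squares and odd order
* `Hyp.exists_mul_invElt`: in an `r`-invariant subgroup of `U` every element is (fixed) * (inverted)
* `commute_of_invElt_conj`, `Hyp.conj_mem_coreW`: `U`-fusion in `W` is `W`-fusion
-/

set_option autoImplicit false

namespace Cfsg.Agent.GWKlein

open Subgroup

universe u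

variable {G : Type u} [Group G] {t r s : G}

theorem exists_sq_pow_eq {x : G} (hx : Odd (orderOf x)) : ∃ k : ℕ, (x ^ 2) ^ k = x := by
  obtain ⟨k, hk⟩ := hx
  refine ⟨k + 1, ?_⟩
  rw [← pow_mul, show 2 * (k + 1) = orderOf x + 1 by omega, pow_succ, pow_orderOf_eq_one, one_mul]

theorem commute_of_sq {x y : G} (hx : Odd (orderOf x)) (hc : Commute (x ^ 2) y) : Commute x y := by
  obtain ⟨k, hk⟩ := exists_sq_pow_eq hx
  exact hk ▸ hc.pow_left k

theorem eq_one_of_sq {x : G} (hx : Odd (orderOf x)) (h2 : x ^ 2 = 1) : x = 1 := by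
  obtain ⟨k, hk⟩ := exists_sq_pow_eq hx
  rw [← hk, h2, one_pow]

theorem eq_one_of_fixed_inverted {x : G} (hx : Odd (orderOf x)) (hf : r * x * r⁻¹ = x)
    (hi : r * x * r⁻¹ = x⁻¹) : x = 1 :=
  eq_one_of_sq hx (by rw [pow_two]; nth_rewrite 1 [hf.symm.trans hi]; exact inv_mul_cancel x)

theorem conj_eq_of_commute {x : G} (hc : Commute x r) : r * x * r⁻¹ = x := by
  rw [← hc.eq, mul_inv_cancel_right]

theorem InvElt.pow {a : G} (ha : InvElt t r a) (k : ℕ) : InvElt t r (a ^ k) :=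
  ⟨ha.1.pow_left k, by rw [← conj_pow, ha.2, inv_pow]⟩

theorem InvElt.inv {a : G} (ha : InvElt t r a) : InvElt t r a⁻¹ :=
  ⟨ha.1.inv_left, by rw [← conj_inv, ha.2]⟩

theorem InvElt.mul {a b : G} (ha : InvElt t r a) (hb : InvElt t r b) (hab : Commute a b) :
    InvElt t r (a * b) :=
  ⟨ha.1.mul_left hb.1, by rw [← conj_mul, ha.2, hb.2, ← mul_inv_rev, hab.eq]⟩

theorem InvElt.conj_of_coreW [Finite G] {a w : G} (ha : InvElt t r a) (hw : w ∈ coreW t r) :
    InvElt t r (w * a * w⁻¹) := by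
  have h1 : Commute w t := commute_of_mem_coreU hw.1
  have h2 : Commute w r := mem_centralizer_singleton_iff.1 hw.2
  refine ⟨(h1.mul_left ha.1).mul_left h1.inv_left, ?_⟩
  calc r * (w * a * w⁻¹) * r⁻¹ = (r * w) * a * (r * w)⁻¹ := by group
    _ = w * (r * a * r⁻¹) * w⁻¹ := by rw [← h2.eq]; group
    _ = (w * a * w⁻¹)⁻¹ := by rw [ha.2]; group

variable [Finite G]

theorem Hyp.mem_coreU_of_invElt (h : Hyp t r s) {a : G} (ha : InvElt t r a) (ho : Odd (orderOf a)) :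
    a ∈ coreU t := h.mem_coreU.2 ⟨ha.1, ho⟩

/-- An element of an `r`-invariant subgroup of `U` is a fixed times an inverted one. -/
theorem Hyp.exists_mul_invElt (h : Hyp t r s) {K : Subgroup G} (hK : K ≤ coreU t)
    (hr : ∀ x ∈ K, r * x * r⁻¹ ∈ K) {u : G} (hu : u ∈ K) :
    ∃ w ∈ K, w ∈ coreW t r ∧ ∃ n ∈ K, InvElt t r n ∧ u = w * n := by
  set x := (r * u * r⁻¹)⁻¹ * u with hxdef
  have hxK : x ∈ K := mul_mem (inv_mem (hr u hu)) hu
  have hrr : r⁻¹ = r := Involution.inv_eq h.order_r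
  have hxi : r * x * r⁻¹ = x⁻¹ := by
    rw [hxdef]
    calc r * ((r * u * r⁻¹)⁻¹ * u) * r⁻¹ = (r * r) * u⁻¹ * (r * r)⁻¹ * (r * u * r⁻¹) := by group
      _ = ((r * u * r⁻¹)⁻¹ * u)⁻¹ := by rw [h.mul_self_r]; group
  obtain ⟨k, hk⟩ := exists_sq_pow_eq (h.odd_orderOf (hK hxK))
  have hnK : x ^ k ∈ K := pow_mem hxK k
  have hn : InvElt t r (x ^ k) := InvElt.pow ⟨commute_of_mem_coreU (hK hxK), hxi⟩ k
  have hn2 : x ^ k * x ^ k = x := by rw [← pow_two, ← pow_mul, mul_comm k 2, pow_mul, hk]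
  have hwK : u * (x ^ k)⁻¹ ∈ K := mul_mem hu (inv_mem hnK)
  refine ⟨u * (x ^ k)⁻¹, hwK, ⟨hK hwK, mem_centralizer_singleton_iff.2 ?_⟩, x ^ k, hnK, hn,
    (inv_mul_cancel_right _ _).symm⟩
  refine (mul_inv_eq_iff_eq_mul.1 ?_).symm
  calc r * (u * (x ^ k)⁻¹) * r⁻¹ = (r * u * r⁻¹) * (r * x ^ k * r⁻¹)⁻¹ := by group
    _ = u * ((r * u * r⁻¹)⁻¹ * u)⁻¹ * x ^ k := by rw [hn.2, inv_inv]; group
    _ = u * (x ^ k * x ^ k)⁻¹ * x ^ k := by rw [hn2, hxdef]
    _ = u * (x ^ k)⁻¹ := by group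

theorem Hyp.coreU_r_invariant (h : Hyp t r s) : ∀ x ∈ coreU t, r * x * r⁻¹ ∈ coreU t := fun x hx =>
  (mem_normalizer_iff.1 (h.fourV_le_normalizer_coreU (right_mem_fourV t r)) x).1 hx

omit [Finite G] in
/-- If the conjugate of a fixed element by an inverted one is fixed, they commute. -/
theorem commute_of_invElt_conj {n x : G} (hn : InvElt t r n) (ho : Odd (orderOf n)) (hx : Commute x r)
    (hy : Commute (n * x * n⁻¹) r) : Commute n x := by
  have h1 : n⁻¹ * x * n = n * x * n⁻¹ := by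
    calc n⁻¹ * x * n = (r * n * r⁻¹) * (r * x * r⁻¹) * (r * n * r⁻¹)⁻¹ := by
          rw [hn.2, conj_eq_of_commute hx, inv_inv]
      _ = r * (n * x * n⁻¹) * r⁻¹ := by group
      _ = n * x * n⁻¹ := conj_eq_of_commute hy
  refine commute_of_sq ho ?_
  rw [pow_two]
  calc n * n * x = n * (n * x * n⁻¹) * n := by group
    _ = n * (n⁻¹ * x * n) * n := by rw [h1]
    _ = x * (n * n) := by group

/-- Elements of `W` conjugate in `U` are conjugate in `W`. -/
theorem Hyp.conj_mem_coreW (h : Hyp t r s) {x x' u : G} (hx : x ∈ coreW t r) (hx' : x' ∈ coreW t r)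
    (hu : u ∈ coreU t) (he : u * x * u⁻¹ = x') : ∃ w ∈ coreW t r, w * x * w⁻¹ = x' := by
  obtain ⟨w, -, hw, n, hnU, hn, rfl⟩ := h.exists_mul_invElt le_rfl h.coreU_r_invariant hu
  refine ⟨w, hw, ?_⟩
  have hy : n * x * n⁻¹ = w⁻¹ * x' * w := by rw [← he]; group
  have hc : Commute n x := commute_of_invElt_conj hn (h.odd_orderOf hnU) (h.mem_coreW.1 hx).2.1 (by
    rw [hy]
    exact (((h.mem_coreW.1 hw).2.1.inv_left).mul_left (h.mem_coreW.1 hx').2.1).mul_left (h.mem_coreW.1 hw).2.1)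
  rw [← he]
  calc w * x * w⁻¹ = w * (x * n * n⁻¹) * w⁻¹ := by group
    _ = w * (n * x * n⁻¹) * w⁻¹ := by rw [hc.eq]
    _ = w * n * x * (w * n)⁻¹ := by group

end Cfsg.Agent.GWKlein
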