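import Cfsg.Agent.Lib.GWKlein.General.AbelianSetup
import Cfsg.Agent.Lib.Solvable.Fitting
import Cfsg.Agent.Lib.Cores.Fitting

/-!
# Gorenstein-Walter, Klein general case: the action of `U` on a large elementary subgroup

* `ElemSetting.exists_fixed`: an inverted element fixes a non-trivial element of `E ∩ W`
* `ElemSetting.eq_of_coprime`: inverted elements of order prime to `p` centralise `E`
* `ElemSetting.zpowers_normal`: `U` normalises `⟨z⟩` when `E` is minimal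
-/

set_option autoImplicit false

namespace Cfsg.Agent.GWKlein

open Subgroup

universe u

variable {G : Type u} [Group G] [Finite G] {t r s : G} {p : ℕ} {E : Subgroup G} {z : G}

namespace ElemSetting

theorem exists_shift (hp : p.Prime) {a : ℕ} (ha : ¬ p ∣ a) (b : ℕ) : ∃ k : ℕ, p ∣ b + k * a := by
  haveI : Fact p.Prime := ⟨hp⟩
  refine ⟨((-(b : ZMod p)) / (a : ZMod p)).val, ?_⟩
  have ha' : (a : ZMod p) ≠ 0 := fun e => ha ((ZMod.natCast_eq_zero_iff a p).1 e)
  rw [← ZMod.natCast_eq_zero_iff]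
  push_cast
  rw [ZMod.natCast_zmod_val, div_mul_cancel₀ _ ha', add_neg_cancel]

/-- Conjugation by an element of `C(t)` in coordinates. -/
theorem coord (hE : ElemSetting t r p E z) {g x : G} (hg : g ∈ centralizer ({t} : Set G)) (hx : x ∈ E) :
    ∃ e ∈ E ⊓ coreW t r, ∃ j : ℕ, g * x * g⁻¹ = e * z ^ j :=
  hE.split _ (hE.conj_mem hg hx)

theorem inv_mem_cent {n : G} (hn : InvElt t r n) : n ∈ centralizer ({t} : Set G) :=
  mem_centralizer_singleton_iff.2 hn.1.eq

/-- The conjugate by `r`. -/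
theorem inv_conj (hE : ElemSetting t r p E z) {n e e' : G} {j : ℕ} (hn : InvElt t r n)
    (he : e ∈ E ⊓ coreW t r) (he' : e' ∈ E ⊓ coreW t r) (h : Hyp t r s) (hj : n * e * n⁻¹ = e' * z ^ j) :
    n⁻¹ * e * n = e' * (z ^ j)⁻¹ := by
  have h1 := congrArg (fun x => r * x * r⁻¹) hj
  calc n⁻¹ * e * n = (r * n * r⁻¹) * (r * e * r⁻¹) * (r * n * r⁻¹)⁻¹ := by
        rw [hn.2, conj_eq_of_commute (h.mem_coreW.1 (mem_inf.1 he).2).2.1, inv_inv]
    _ = r * (n * e * n⁻¹) * r⁻¹ := by group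
    _ = (r * e' * r⁻¹) * (r * z ^ j * r⁻¹) := by rw [hj]; group
    _ = e' * (z ^ j)⁻¹ := by
      rw [conj_eq_of_commute (h.mem_coreW.1 (mem_inf.1 he').2).2.1, (hE.z_inv.pow j).2]

/-- An inverted element centralising `z` translates `E ∩ W` along `z`. -/
theorem translate (hE : ElemSetting t r p E z) (h : Hyp t r s) {n : G} (hnU : n ∈ coreU t)
    (hn : InvElt t r n) (hnz : Commute n z) {e : G} (he : e ∈ E ⊓ coreW t r) :
    ∃ j : ℕ, ∀ i : ℕ, n ^ i * e * (n ^ i)⁻¹ = e * z ^ (i * j) := by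
  obtain ⟨e', he', a, ha⟩ := hE.coord (inv_mem_cent hn) (mem_inf.1 he).1
  have h1 := hE.inv_conj hn he he' h ha
  have h2 : n * n * e * (n * n)⁻¹ = e * z ^ (2 * a) := by
    have e1 : n * e' * n⁻¹ = e * z ^ a := by
      have e2 : e' = n⁻¹ * e * n * z ^ a := by rw [h1, inv_mul_cancel_right]
      rw [e2]
      calc n * (n⁻¹ * e * n * z ^ a) * n⁻¹ = e * (n * z ^ a * n⁻¹) := by group
        _ = e * z ^ a := by rw [(hnz.pow_right a).eq, mul_inv_cancel_right]
    calc n * n * e * (n * n)⁻¹ = n * (n * e * n⁻¹) * n⁻¹ := by group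
      _ = (n * e' * n⁻¹) * (n * z ^ a * n⁻¹) := by rw [ha]; group
      _ = e * z ^ (2 * a) := by
        rw [e1, (hnz.pow_right a).eq, mul_inv_cancel_right, mul_assoc, ← pow_add, two_mul]
  have key : ∀ i : ℕ, (n * n) ^ i * e * ((n * n) ^ i)⁻¹ = e * z ^ (i * (2 * a)) := by
    have hnnz : Commute (n * n) z := hnz.mul_left hnz
    generalize n * n = m at h2 hnnz
    intro i
    induction i with
    | zero => simp
    | succ i ih =>
      calc m ^ (i + 1) * e * (m ^ (i + 1))⁻¹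
          = m * (m ^ i * e * (m ^ i)⁻¹) * m⁻¹ := by
            rw [pow_succ', mul_inv_rev]; simp only [mul_assoc]
        _ = (m * e * m⁻¹) * (m * z ^ (i * (2 * a)) * m⁻¹) := by rw [ih]; group
        _ = e * z ^ ((i + 1) * (2 * a)) := by
          rw [h2, (hnnz.pow_right _).eq, mul_inv_cancel_right, mul_assoc, ← pow_add]
          congr 2; ring
  obtain ⟨k, hk⟩ := exists_sq_pow_eq (h.odd_orderOf hnU)
  refine ⟨k * (2 * a), fun i => ?_⟩
  have e3 : n ^ i = (n * n) ^ (i * k) := by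
    nth_rewrite 1 [← hk]
    rw [← pow_mul, ← pow_two, mul_comm k i]
  rw [e3, key, mul_assoc]

/-- An inverted element fixes some element of a large `E ∩ W`. -/
theorem exists_fixed (hE : ElemSetting t r p E z) (h : Hyp t r s) (hp : p.Prime)
    (hlarge : ∀ y ∈ E ⊓ coreW t r, ∃ e ∈ E ⊓ coreW t r, e ∉ zpowers y) {n : G} (hnU : n ∈ coreU t)
    (hn : InvElt t r n) : ∃ e ∈ E ⊓ coreW t r, e ≠ 1 ∧ Commute n e := by
  have fix : ∀ e ∈ E ⊓ coreW t r, ∀ e' ∈ E ⊓ coreW t r, n * e * n⁻¹ = e' → Commute n e :=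
    fun e he e' he' heq => commute_of_invElt_conj hn (h.odd_orderOf hnU)
      (h.mem_coreW.1 (mem_inf.1 he).2).2.1 (by rw [heq]; exact (h.mem_coreW.1 (mem_inf.1 he').2).2.1)
  obtain ⟨⟨y, hy⟩, hy1⟩ := Subgroup.ne_bot_iff_exists_ne_one.1 hE.meets
  have hy1' : y ≠ 1 := fun e => hy1 (Subtype.ext e)
  obtain ⟨e, he, hey⟩ := hlarge y hy
  obtain ⟨y', hy', a, ha⟩ := hE.coord (inv_mem_cent hn) (mem_inf.1 hy).1
  by_cases hpa : p ∣ a
  · rw [(hE.zpow_eq_one_iff hp).2 hpa, mul_one] at ha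
    exact ⟨y, hy, hy1', fix y hy y' hy' ha⟩
  obtain ⟨e', he', b, hb⟩ := hE.coord (inv_mem_cent hn) (mem_inf.1 he).1
  obtain ⟨k, hk⟩ := exists_shift hp hpa b
  refine ⟨e * y ^ k, mul_mem he (pow_mem hy k), fun e0 => hey ?_,
    fix _ (mul_mem he (pow_mem hy k)) (e' * y' ^ k) (mul_mem he' (pow_mem hy' k)) ?_⟩
  · rw [eq_inv_of_mul_eq_one_left e0]
    exact inv_mem (pow_mem (mem_zpowers y) k)
  · have hc : Commute (y' ^ k) (z ^ b) :=
      (hE.conj_zpow (mem_inf.1 (pow_mem hy' k)).1 b)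
    calc n * (e * y ^ k) * n⁻¹ = (n * e * n⁻¹) * (n * y * n⁻¹) ^ k := by rw [conj_pow]; group
      _ = e' * z ^ b * (y' ^ k * z ^ (a * k)) := by
        rw [hb, ha, (hE.conj_zpow (mem_inf.1 hy').1 a).mul_pow, ← pow_mul]
      _ = e' * y' ^ k * z ^ (b + k * a) := by
        rw [mul_assoc e', ← mul_assoc (z ^ b), ← hc.eq, pow_add, mul_comm a k]; group
      _ = e' * y' ^ k := by rw [(hE.zpow_eq_one_iff hp).2 hk, mul_one]

/-- Inverted elements of order prime to `p` centralise a large `E`. -/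
theorem eq_of_coprime (hE : ElemSetting t r p E z) (h : Hyp t r s) (hp : p.Prime) (hT : TypeData t r p)
    (hlarge : ∀ y ∈ E ⊓ coreW t r, ∃ e ∈ E ⊓ coreW t r, e ∉ zpowers y) {n : G} (hnU : n ∈ coreU t)
    (hn : InvElt t r n) (hco : ¬ p ∣ orderOf n) : ∀ x ∈ E, Commute n x := by
  have htriv : ∀ (x : G) (j : ℕ), x ^ p = 1 → x ^ (orderOf n * j) = 1 → x ^ j = 1 := fun x j h1 h2 => by
    rcases Nat.Prime.eq_one_or_self_of_dvd hp _ (orderOf_dvd_of_pow_eq_one h1) with e | e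
    · rw [orderOf_eq_one_iff.1 e, one_pow]
    · rw [← orderOf_dvd_iff_pow_eq_one, e]
      exact (Nat.Coprime.dvd_of_dvd_mul_left (hp.coprime_iff_not_dvd.2 hco)
        (e ▸ orderOf_dvd_of_pow_eq_one h2))
  obtain ⟨e, he, he1, hne⟩ := hE.exists_fixed h hp hlarge hnU hn
  obtain ⟨m, Q, hL, -, hout⟩ := hT e (mem_inf.1 he).2 (hE.orderOf_eq hp (mem_inf.1 he).1 he1)
  set C := centralizer ({e} : Set G)
  have hnC : n ∈ C := mem_centralizer_singleton_iff.2 hne.eq
  have hzC : z ∈ C := mem_centralizer_singleton_iff.2 (hE.commute hE.z_mem (mem_inf.1 he).1).eq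
  obtain ⟨w, hw, a, ha⟩ := hE.coord (inv_mem_cent hn) hE.z_mem
  have hcm : n * z * n⁻¹ * z⁻¹ ∈ oddPart C := hL.comm_mem n hnC z hzC (h.odd_orderOf hnU)
    (h.odd_orderOf (hE.le hE.z_mem)) hn hE.z_inv
  -- the `z`-coordinate of the commutator is trivial
  have hza : z ^ a = z := by
    have hrC : r ∈ C := mem_centralizer_singleton_iff.2 (h.mem_coreW.1 (mem_inf.1 he).2).2.1.eq.symm
    have hd : InvElt t r (z ^ a * z⁻¹) :=
      (hE.z_inv.pow a).mul hE.z_inv.inv ((Commute.refl z).pow_left a).inv_right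
    have hr2 : r * (n * z * n⁻¹ * z⁻¹) * r⁻¹ ∈ oddPart C :=
      (mem_normalizer_iff.1 (le_normalizer_oddPart C hrC) _).1 hcm
    have hsq : (z ^ a * z⁻¹) * (z ^ a * z⁻¹) ∈ oddPart C := by
      have e1 : (r * (n * z * n⁻¹ * z⁻¹) * r⁻¹)⁻¹ * (n * z * n⁻¹ * z⁻¹) =
          (z ^ a * z⁻¹) * (z ^ a * z⁻¹) := by
        have e2 : r * (n * z * n⁻¹ * z⁻¹) * r⁻¹ = w * (z ^ a * z⁻¹)⁻¹ := by
          calc r * (n * z * n⁻¹ * z⁻¹) * r⁻¹ = (r * w * r⁻¹) * (r * (z ^ a * z⁻¹) * r⁻¹) := by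
                rw [ha]; group
            _ = w * (z ^ a * z⁻¹)⁻¹ := by
              rw [conj_eq_of_commute (h.mem_coreW.1 (mem_inf.1 hw).2).2.1, hd.2]
        rw [e2, ha]
        group
      exact e1 ▸ mul_mem (inv_mem hr2) hcm
    have hdE : z ^ a * z⁻¹ ∈ E := mul_mem (pow_mem hE.z_mem a) (inv_mem hE.z_mem)
    obtain ⟨k, hk⟩ := exists_sq_pow_eq (h.odd_orderOf (hE.le hdE))
    have hdO : z ^ a * z⁻¹ ∈ oddPart C := by
      rw [← hk, pow_two]; exact pow_mem hsq k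
    by_contra hne'
    exact hout _ (mul_mem (pow_mem hzC a) (inv_mem hzC)) hd (fun e0 => hne' (mul_inv_eq_one.1 e0))
      ⟨1, by rw [pow_one]; exact hE.elem.2 _ hdE⟩ hdO
  rw [hza] at ha
  -- `n` centralises `w`
  have h1 : n⁻¹ * z * n = w⁻¹ * z := by
    have e1 : n⁻¹ * z⁻¹ * n = w * z⁻¹ := by
      calc n⁻¹ * z⁻¹ * n = (r * n * r⁻¹) * (r * z * r⁻¹) * (r * n * r⁻¹)⁻¹ := by
            rw [hn.2, hE.z_inv.2, inv_inv]
        _ = r * (n * z * n⁻¹) * r⁻¹ := by group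
        _ = (r * w * r⁻¹) * (r * z * r⁻¹) := by rw [ha]; group
        _ = w * z⁻¹ := by rw [conj_eq_of_commute (h.mem_coreW.1 (mem_inf.1 hw).2).2.1, hE.z_inv.2]
    calc n⁻¹ * z * n = (n⁻¹ * z⁻¹ * n)⁻¹ := by group
      _ = z * w⁻¹ := by rw [e1, mul_inv_rev, inv_inv]
      _ = w⁻¹ * z := (hE.commute hE.z_mem (inv_mem (mem_inf.1 hw).1)).eq
  have hnw : n * w * n⁻¹ = w := by
    have e1 : z = (n * w * n⁻¹)⁻¹ * (w * z) := by
      rw [← ha, show (n * w * n⁻¹)⁻¹ * (n * z * n⁻¹) = n * (w⁻¹ * z) * n⁻¹ by group, ← h1]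
      group
    have e2 := congrArg (fun x => n * w * n⁻¹ * x) e1
    simp only [← mul_assoc, mul_inv_cancel, one_mul] at e2
    exact mul_right_cancel e2
  have hnz : Commute n z := by
    have hpow : ∀ i : ℕ, n ^ i * z * (n ^ i)⁻¹ = w ^ i * z := by
      intro i
      induction i with
      | zero => simp
      | succ i ih =>
        calc n ^ (i + 1) * z * (n ^ (i + 1))⁻¹ = n * (n ^ i * z * (n ^ i)⁻¹) * n⁻¹ := by
              rw [pow_succ']; group
          _ = (n * w * n⁻¹) ^ i * (n * z * n⁻¹) := by rw [ih, conj_pow]; group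
          _ = w ^ (i + 1) * z := by rw [hnw, ha, pow_succ, mul_assoc]
    have h2 := hpow (orderOf n)
    rw [pow_orderOf_eq_one, one_mul, inv_one, mul_one, right_eq_mul] at h2
    have h3 : w ^ 1 = 1 := htriv w 1 (hE.elem.2 w (mem_inf.1 hw).1) (by rw [mul_one]; exact h2)
    rw [pow_one] at h3
    rw [h3, one_mul] at ha
    exact mul_inv_eq_iff_eq_mul.1 ha
  intro x hx
  obtain ⟨e', he', j, rfl⟩ := hE.split x hx
  refine Commute.mul_right ?_ (hnz.pow_right j)
  obtain ⟨i, hi⟩ := hE.translate h hnU hn hnz he'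
  have h2 := hi (orderOf n)
  rw [pow_orderOf_eq_one, one_mul, inv_one, mul_one, left_eq_mul] at h2
  have h4 := hi 1
  rw [pow_one, one_mul, htriv z i hE.z_pow h2, mul_one] at h4
  exact mul_inv_eq_iff_eq_mul.1 h4

/-- If `E` is minimal, `C(t)` normalises `⟨z⟩`. -/
theorem zpowers_normal (hE : ElemSetting t r p E z) (h : Hyp t r s) (hp : p.Prime) (hT : TypeData t r p)
    (hlarge : ∀ y ∈ E ⊓ coreW t r, ∃ e ∈ E ⊓ coreW t r, e ∉ zpowers y)
    (hmin : ∀ E' : Subgroup G, E' < E → Cfsg.IsElementaryAbelian p E' →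
      centralizer ({t} : Set G) ≤ normalizer (E' : Set G) → E' ⊓ coreW t r = ⊥) :
    ∀ g ∈ centralizer ({t} : Set G), g * z * g⁻¹ ∈ zpowers z := by
  classical
  haveI : Fact p.Prime := ⟨hp⟩
  set C := centralizer ({t} : Set G)
  let φ : C →* MulAut E := (normalizerMonoidHom E).comp (inclusion hE.normal)
  have hφ : ∀ (g : C) (x : E), ((φ g x : E) : G) = (g : G) * x * (g : G)⁻¹ := fun g x => rfl
  set U' : Subgroup C := (coreU t).subgroupOf C
  haveI : U'.Normal := normal_subgroupOf_iff_le_normalizer (coreU_le_centralizer t) |>.2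
    (centralizer_le_normalizer_coreU t)
  set Ub : Subgroup (MulAut E) := U'.map φ
  have hnorm : φ.range ≤ normalizer (Ub : Set (MulAut E)) := by
    rw [MonoidHom.range_eq_map]
    refine le_trans ?_ (le_normalizer_map φ)
    rw [normalizer_eq_top U']
  haveI : Group.IsSolvable Ub := by
    haveI := h.isSolvable_coreU
    haveI : Group.IsSolvable U' := Group.isSolvable_of_surjective
      (f := (subgroupOfEquivOfLe (coreU_le_centralizer t)).symm.toMonoidHom)
      (subgroupOfEquivOfLe (coreU_le_centralizer t)).symm.surjective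
    exact Group.isSolvable_of_surjective (φ.subgroupMap_surjective U')
  have hinvp : ∀ n : C, (n : G) ∈ coreU t → InvElt t r n → ∀ q : ℕ, q.Prime → q ≠ p →
      (∃ i, φ n ^ q ^ i = 1) → φ n = 1 := by
    intro n hnU hn q hq hqp ⟨i, hi⟩
    obtain ⟨k, m, hm, hkm⟩ := Nat.exists_eq_pow_mul_and_not_dvd (orderOf_pos n).ne' p hp.ne_one
    have h1 : φ (n ^ p ^ k) = 1 := by
      refine MulEquiv.ext fun x => Subtype.ext ?_
      rw [hφ]
      have hord : orderOf ((n : G) ^ p ^ k) ∣ m := orderOf_dvd_of_pow_eq_one (by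
        rw [← pow_mul, ← hkm, ← Subgroup.orderOf_coe, pow_orderOf_eq_one])
      push_cast
      rw [(hE.eq_of_coprime h hp hT hlarge (pow_mem hnU _) (hn.pow _) (fun hd => hm (hd.trans hord))
        x x.2).eq, mul_inv_cancel_right]
      rfl
    rw [map_pow] at h1
    have h2 : orderOf (φ n) ∣ Nat.gcd (p ^ k) (q ^ i) :=
      Nat.dvd_gcd (orderOf_dvd_of_pow_eq_one h1) (orderOf_dvd_of_pow_eq_one hi)
    rw [(Nat.Coprime.pow k i ((Nat.coprime_primes hp hq).2 (Ne.symm hqp))).gcd_eq_one, Nat.dvd_one,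
      orderOf_eq_one_iff] at h2
    exact h2
  set P := (Cfsg.pCore p Ub).map Ub.subtype
  have hPn : φ.range ≤ normalizer (P : Set (MulAut E)) := hnorm.trans (Cores.normalizer_le_normalizer_map _)
  have hPbot : P ≠ ⊥ := by
    intro hP
    -- otherwise `r` centralises the Fitting subgroup and so all inverted elements act trivially
    have hrr : φ ⟨r, h.fourV_le_centralizer_t (right_mem_fourV t r)⟩ ∈ φ.range := ⟨_, rfl⟩
    set R := φ ⟨r, h.fourV_le_centralizer_t (right_mem_fourV t r)⟩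
    have hfix : Cfsg.fittingSubgroup Ub ≤ (centralizer ({R} : Set (MulAut E))).comap Ub.subtype := by
      rw [Cores.fittingSubgroup_eq_iSup_pCore, iSup_le_iff]
      intro q x hx
      refine mem_comap.2 (mem_centralizer_singleton_iff.2 ?_)
      by_cases hqp : (q : ℕ) = p
      · have hxP : (x : MulAut E) ∈ P := ⟨x, hqp ▸ hx, rfl⟩
        rw [hP, mem_bot] at hxP
        rw [show Ub.subtype x = (x : MulAut E) from rfl, hxP, one_mul, mul_one]
      set K : Subgroup G := ((((Cfsg.pCore (q : ℕ) Ub).map Ub.subtype).comap φ ⊓ U').map C.subtype)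
      have hKU : K ≤ coreU t := by
        rintro _ ⟨u, hu, rfl⟩; exact hu.2
      have hQn : φ.range ≤ normalizer (((Cfsg.pCore (q : ℕ) Ub).map Ub.subtype : Subgroup (MulAut E)) : Set (MulAut E)) :=
        hnorm.trans (Cores.normalizer_le_normalizer_map _)
      have hKr : ∀ u ∈ K, r * u * r⁻¹ ∈ K := by
        rintro _ ⟨u, ⟨hu1, hu2⟩, rfl⟩
        refine ⟨⟨r, h.fourV_le_centralizer_t (right_mem_fourV t r)⟩ * u *
          ⟨r, h.fourV_le_centralizer_t (right_mem_fourV t r)⟩⁻¹, ⟨mem_comap.2 ?_, ?_⟩, rfl⟩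
        · rw [map_mul, map_mul, map_inv]
          exact (mem_normalizer_iff.1 (hQn hrr) _).1 hu1
        · exact h.coreU_r_invariant _ hu2
      obtain ⟨u, hu, hux⟩ := x.2
      have huK : (u : G) ∈ K := ⟨u, ⟨mem_comap.2 ⟨x, hx, hux.symm⟩, hu⟩, rfl⟩
      obtain ⟨w, hwK, hw, n, hnK, hn, hwn⟩ := h.exists_mul_invElt hKU hKr huK
      obtain ⟨n', ⟨hn'1, hn'2⟩, rfl⟩ := hnK
      obtain ⟨w', hw'1, rfl⟩ := hwK
      have hq := q.2
      obtain ⟨y', hy', hy''⟩ := mem_comap.1 hn'1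
      obtain ⟨i, hi⟩ := Cores.isPGroup_pCore (q : ℕ) Ub ⟨y', hy'⟩
      have hφn : φ n' = 1 := hinvp n' hn'2 hn q hq hqp ⟨i, by
        rw [← hy'', ← map_pow]
        have := congrArg Subtype.val hi
        push_cast at this
        rw [this, map_one]⟩
      have hxe : (x : MulAut E) = φ w' := by
        rw [← hux, show u = w' * n' from Subtype.ext hwn, map_mul, hφn, mul_one]
      rw [show Ub.subtype x = (x : MulAut E) from rfl, hxe, ← map_mul, ← map_mul]
      exact congrArg φ (Subtype.ext (h.mem_coreW.1 hw).2.1.eq)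
    obtain ⟨n, hnU, hn, e, he, hmv⟩ := hE.moved
    set N := φ ⟨n, coreU_le_centralizer t hnU⟩
    have hNU : N ∈ Ub := ⟨_, hnU, rfl⟩
    have hRN : R * N * R⁻¹ = N⁻¹ := by
      rw [← map_inv, ← map_inv, ← map_mul, ← map_mul]
      exact congrArg φ (Subtype.ext hn.2)
    -- `N ^ 2` centralises the Fitting subgroup
    have hN2 : (⟨N, hNU⟩ : Ub) * ⟨N, hNU⟩ ∈ centralizer (Cfsg.fittingSubgroup Ub : Set Ub) := by
      refine mem_centralizer_iff.2 fun x hx => ?_
      haveI : (Cfsg.fittingSubgroup Ub).Normal := inferInstance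
      have h1 : Commute (x : MulAut E) R := mem_centralizer_singleton_iff.1 (hfix hx)
      have h2 : Commute (N * x * N⁻¹) R :=
        mem_centralizer_singleton_iff.1 (hfix (Normal.conj_mem inferInstance x hx ⟨N, hNU⟩))
      have h3 : N⁻¹ * (x : MulAut E) * N = N * x * N⁻¹ := by
        calc N⁻¹ * (x : MulAut E) * N = (R * N * R⁻¹) * (R * x * R⁻¹) * (R * N * R⁻¹)⁻¹ := by
              rw [hRN, conj_eq_of_commute h1, inv_inv]
          _ = R * (N * x * N⁻¹) * R⁻¹ := by group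
          _ = N * x * N⁻¹ := conj_eq_of_commute h2
      refine Subtype.ext ?_
      push_cast
      calc (x : MulAut E) * (N * N) = N * (N⁻¹ * x * N) * N := by group
        _ = N * (N * x * N⁻¹) * N := by rw [h3]
        _ = N * N * x := by group
    have hc := mem_centralizer_singleton_iff.1 (hfix (Solvable.centralizer_fitting_le Ub hN2))
    have h4 : (N * N) * (N * N) = 1 := by
      have e1 : R * (N * N) * R⁻¹ = N * N := conj_eq_of_commute (show Commute (N * N) R from hc)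
      rw [← conj_mul, hRN] at e1
      nth_rewrite 1 [← e1]
      group
    have hNodd : Odd (orderOf N) := (h.odd_orderOf hnU).of_dvd_nat
      ((orderOf_map_dvd φ ⟨n, coreU_le_centralizer t hnU⟩).trans (by rw [← Subgroup.orderOf_coe]))
    have h5 : N ^ 2 = 1 := eq_one_of_sq (hNodd.of_dvd_nat (orderOf_pow_dvd 2)) (by
      rw [pow_two, pow_two]; exact h4)
    have hN1 : N = 1 := eq_one_of_sq hNodd h5
    refine hmv ?_
    have := congrArg Subtype.val (DFunLike.congr_fun hN1 ⟨e, (mem_inf.1 he).1⟩)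
    rw [hφ] at this
    rw [show n * e * n⁻¹ = e from this]
    exact he
  -- fixed points of `P`
  let E' : Subgroup G :=
    { carrier := {x | ∃ hx : x ∈ E, ∀ a ∈ P, a ⟨x, hx⟩ = ⟨x, hx⟩}
      one_mem' := ⟨one_mem E, fun a _ => map_one a⟩
      mul_mem' := fun {a b} ⟨ha, ha'⟩ ⟨hb, hb'⟩ => ⟨mul_mem ha hb, fun f hf => by
        rw [show (⟨a * b, mul_mem ha hb⟩ : E) = ⟨a, ha⟩ * ⟨b, hb⟩ from rfl, map_mul, ha' f hf, hb' f hf]⟩
      inv_mem' := fun {a} ⟨ha, ha'⟩ => ⟨inv_mem ha, fun f hf => by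
        rw [show (⟨a⁻¹, inv_mem ha⟩ : E) = ⟨a, ha⟩⁻¹ from rfl, map_inv, ha' f hf]⟩ }
  have hE'E : E' ≤ E := fun x hx => hx.1
  have hlt : E' < E := lt_of_le_of_ne hE'E fun e => hPbot <| eq_bot_iff.2 fun a ha => mem_bot.2 <| by
    refine MulEquiv.ext fun x => ?_
    obtain ⟨hx, hfx⟩ := show (x : G) ∈ E' from e.symm ▸ x.2
    exact hfx a ha
  have hn' : centralizer ({t} : Set G) ≤ normalizer (E' : Set G) := fun g hg =>
    Coprime.mem_normalizer_of_forall fun x ⟨hx, hfx⟩ => ⟨hE.conj_mem hg hx, fun a ha => by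
      have hb : (φ ⟨g, hg⟩)⁻¹ * a * φ ⟨g, hg⟩ ∈ P :=
        (mem_normalizer_iff''.1 (hPn ⟨_, rfl⟩) a).1 ha
      have h1 := congrArg (φ ⟨g, hg⟩) (hfx _ hb)
      rw [MulAut.mul_apply, MulAut.mul_apply, MulAut.apply_inv_self] at h1
      exact h1⟩
  have hE'e : Cfsg.IsElementaryAbelian p E' :=
    ⟨⟨⟨fun a b => Subtype.ext (hE.commute (hE'E a.2) (hE'E b.2)).eq⟩⟩, fun a ha => hE.elem.2 a (hE'E ha)⟩
  have hW := hmin E' hlt hE'e hn'
  have hsub : ∀ x ∈ E', x ∈ zpowers z := by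
    intro x hx
    obtain ⟨e, he, j, rfl⟩ := hE.split x (hE'E hx)
    have hrx := (mem_normalizer_iff.1 (hn' (h.fourV_le_centralizer_t (right_mem_fourV t r))) _).1 hx
    rw [← conj_mul, conj_eq_of_commute (h.mem_coreW.1 (mem_inf.1 he).2).2.1, (hE.z_inv.pow j).2] at hrx
    have hee : e * e ∈ E' := by
      have hc : Commute e (z ^ j) := hE.conj_zpow (mem_inf.1 he).1 j
      have e1 : e * z ^ j * (e * (z ^ j)⁻¹) = e * e := by
        rw [mul_assoc, ← mul_assoc (z ^ j), ← hc.eq]; group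
      exact e1 ▸ mul_mem hx hrx
    have : e * e = 1 := mem_bot.1 (hW ▸ mem_inf.2 ⟨hee, mul_mem (mem_inf.1 he).2 (mem_inf.1 he).2⟩)
    rw [eq_one_of_sq (h.odd_orderOf (mem_inf.1 he).2.1) (by rw [pow_two]; exact this), one_mul]
    exact pow_mem (Subgroup.mem_zpowers z) j
  obtain ⟨x, hx, hx1⟩ : ∃ x ∈ E', x ≠ 1 := by
    have hPp : IsPGroup p P := (Cores.isPGroup_pCore p Ub).map _
    have hdvd : p ∣ Nat.card E := by
      rw [← hE.orderOf_eq hp hE.z_mem hE.z_ne]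
      exact orderOf_dvd_natCard _ hE.z_mem
    obtain ⟨b, hb, hb1⟩ := hPp.exists_fixed_point_of_prime_dvd_card_of_fixed_point E hdvd
      (a := (1 : E)) (fun a => map_one (a : MulAut E))
    exact ⟨b, ⟨b.2, fun a ha => hb ⟨a, ha⟩⟩, fun e => hb1 (Subtype.ext e.symm)⟩
  have heq : zpowers x = zpowers z := eq_of_le_of_card_ge (zpowers_le.2 (hsub x hx)) (by
    rw [Nat.card_zpowers, Nat.card_zpowers, hE.orderOf_eq hp hE.z_mem hE.z_ne,
      hE.orderOf_eq hp (hE'E hx) hx1])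
  intro g hg
  have hzE' : z ∈ E' := (zpowers_le.2 hx : zpowers x ≤ E') (heq ▸ Subgroup.mem_zpowers z)
  exact hsub _ ((mem_normalizer_iff.1 (hn' hg) z).1 hzE')

end ElemSetting

end Cfsg.Agent.GWKlein
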