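import Cfsg.Agent.Lib.GWKlein.General.AbelianSetup
import Mathlib.Data.Finset.Card
import Mathlib.Tactic.Linarith
import Mathlib.Tactic.Push

/-!
# Gorenstein-Walter, Klein general case: elementary of order `p²` (section 2.1, first case)

The line of `y` is moved, so `y` has between `2l` and `(p+1)l` conjugates in `E`; the tori then give too many
conjugates of `y`.
-/

set_option autoImplicit false

namespace Cfsg.Agent.GWKlein

open Subgroup

universe u

variable {G : Type u} [Group G]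

theorem arith_line (p l c : ℕ) (hp : 3 ≤ p) (hl : 0 < l) (h1 : 2 * l ≤ c) (h2 : c ≤ (p + 1) * l) :
    5 * c ^ 3 < 12 * p ^ 2 * (c - l) * l ^ 2 := by
  obtain ⟨d, rfl⟩ : ∃ d, c = l + d := ⟨c - l, by omega⟩
  rw [Nat.add_sub_cancel_left]
  zify at *
  have hP : (3 : ℤ) ≤ p := hp
  have hL : (1 : ℤ) ≤ l := hl
  have hA : (0 : ℤ) ≤ ((p : ℤ) + 1) * l - (l + d) := by linarith
  have hB : (0 : ℤ) ≤ ((l : ℤ) + d) - 2 * l := by linarith
  have hS : (0 : ℤ) ≤ ((l : ℤ) + d) + (p + 3) * l := by nlinarith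
  have h2' : (0 : ℤ) < 12 * (p : ℤ) ^ 2 - 40 := by nlinarith
  have h3' : (0 : ℤ) < 12 * (p : ℤ) ^ 3 - 5 * ((p : ℤ) + 1) ^ 3 := by
    nlinarith [mul_le_mul_of_nonneg_left hP (mul_nonneg (show (0 : ℤ) ≤ p by linarith) (show (0 : ℤ) ≤ p by linarith)),
      mul_nonneg (sub_nonneg.2 hP) (sub_nonneg.2 hP)]
  have hprod := mul_nonneg (mul_nonneg hA hB) hS
  have hp1 : (0 : ℤ) < (p : ℤ) - 1 := by linarith
  refine lt_of_mul_lt_mul_left (a := (p : ℤ) - 1) ?_ hp1.le
  have hl3 : (0 : ℤ) < (l : ℤ) ^ 2 := by positivity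
  by_cases hlast : (l : ℤ) + d = 2 * l
  · have : (d : ℤ) = l := by linarith
    rw [this]
    nlinarith [mul_pos hp1 (mul_pos h2' (mul_pos hl3 (show (0 : ℤ) < l by linarith)))]
  · have hB' : (0 : ℤ) < ((l : ℤ) + d) - 2 * l := lt_of_le_of_ne hB fun e => hlast (by linarith)
    nlinarith [mul_pos (mul_pos hl3 hB') h3', mul_nonneg (mul_nonneg hl3.le hA) h2'.le, hprod]

theorem eq_of_pow_eq {p k : ℕ} (hp : p.Prime) {x x' : G} (hx : x ^ p = 1) (hx' : x' ^ p = 1)
    (hc : Commute x x') (hk : ¬ p ∣ k) (he : x ^ k = x' ^ k) : x = x' := by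
  have h1 : (x⁻¹ * x') ^ p = 1 := by rw [hc.inv_left.mul_pow, inv_pow, hx, hx', inv_one, one_mul]
  have h2 : (x⁻¹ * x') ^ k = 1 := by rw [hc.inv_left.mul_pow, inv_pow, he, inv_mul_cancel]
  have h3 : orderOf (x⁻¹ * x') ∣ Nat.gcd p k :=
    Nat.dvd_gcd (orderOf_dvd_of_pow_eq_one h1) (orderOf_dvd_of_pow_eq_one h2)
  rw [(hp.coprime_iff_not_dvd.2 hk).gcd_eq_one, Nat.dvd_one, orderOf_eq_one_iff, inv_mul_eq_one] at h3
  exact h3

variable [Finite G] {t r s : G} {p : ℕ} {E : Subgroup G} {z : G}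

/-- The first case of 2.1. -/
theorem ElemSetting.false_of_line (h : Hyp t r s) (hE : ElemSetting t r p E z) (hp : p.Prime) (hp2 : p ≠ 2)
    (hF : OrderFormula t r) (hT : TypeData t r p) {y : G} (hy : y ∈ E ⊓ coreW t r) (hy1 : y ≠ 1)
    (hgen : E ⊓ coreW t r ≤ zpowers y) : False := by
  classical
  haveI : Fact p.Prime := ⟨hp⟩
  haveI := Fintype.ofFinite G
  have hp3 : 3 ≤ p := by have := hp.two_le; omega
  have hyE := (mem_inf.1 hy).1
  have hyp : orderOf y = p := hE.orderOf_eq hp hyE hy1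
  obtain ⟨n, Q, hL, hpn, hout⟩ := hT y (mem_inf.1 hy).2 hyp
  set O : Finset G := Finset.univ.filter (· ∈ conjSet (coreU t) y)
  set L : Finset G := Finset.univ.filter (· ∈ conjSet (coreW t r) y)
  have hOmem : ∀ x, x ∈ O ↔ ∃ u ∈ coreU t, u * y * u⁻¹ = x := fun x => by simp [O, mem_conjSet]
  have hLmem : ∀ x, x ∈ L ↔ ∃ w ∈ coreW t r, w * y * w⁻¹ = x := fun x => by simp [L, mem_conjSet]
  have hcardO : Nat.card (conjSet (coreU t) y) = O.card := by
    rw [← Nat.card_eq_finsetCard, Nat.card_congr]; exact Equiv.subtypeEquivRight fun x => by simp [O]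
  have hcardL : Nat.card (conjSet (coreW t r) y) = L.card := by
    rw [← Nat.card_eq_finsetCard, Nat.card_congr]; exact Equiv.subtypeEquivRight fun x => by simp [L]
  have hLW : ∀ x ∈ L, x ∈ E ⊓ coreW t r := by
    intro x hx
    obtain ⟨w, hw, rfl⟩ := (hLmem x).1 hx
    exact mem_inf.2 ⟨hE.conj_mem (coreU_le_centralizer t hw.1) hyE,
      mul_mem (mul_mem hw (mem_inf.1 hy).2) (inv_mem hw)⟩
  have hOE : ∀ x ∈ O, x ∈ E := fun x hx => by
    obtain ⟨u, hu, rfl⟩ := (hOmem x).1 hx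
    exact hE.conj_mem (coreU_le_centralizer t hu) hyE
  have hne : ∀ x ∈ O, x ≠ 1 := fun x hx e => by
    obtain ⟨u, -, rfl⟩ := (hOmem x).1 hx
    exact hy1 (by simpa using e)
  -- lower bound
  obtain ⟨u0, hu0, -, e0, he0, hmv⟩ := hE.moved
  have hmove : ∀ x ∈ L, u0 * x * u0⁻¹ ∉ E ⊓ coreW t r := by
    intro x hx hc
    have hxne : x ≠ 1 := fun e => by
      obtain ⟨w, -, rfl⟩ := (hLmem x).1 hx
      exact hy1 (by simpa using e)
    have hle : zpowers x ≤ zpowers y := zpowers_le.2 (hgen (hLW x hx))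
    have heq : zpowers x = zpowers y := eq_of_le_of_card_ge hle (by
      rw [Nat.card_zpowers, Nat.card_zpowers, hyp, hE.orderOf_eq hp (mem_inf.1 (hLW x hx)).1 hxne])
    obtain ⟨k, hk⟩ := mem_zpowers_iff.1 (show e0 ∈ zpowers x from heq ▸ hgen he0)
    refine hmv ?_
    rw [← hk, show u0 * x ^ k * u0⁻¹ = (u0 * x * u0⁻¹) ^ k from _root_.conj_zpow.symm]
    exact zpow_mem hc k
  have hlow : 2 * L.card ≤ O.card := by
    have hsub : L ∪ L.image (fun x => u0 * x * u0⁻¹) ⊆ O := by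
      intro x hx
      rcases Finset.mem_union.1 hx with hx | hx
      · obtain ⟨w, hw, e⟩ := (hLmem x).1 hx
        exact (hOmem x).2 ⟨w, hw.1, e⟩
      · obtain ⟨x', hx', rfl⟩ := Finset.mem_image.1 hx
        obtain ⟨w, hw, rfl⟩ := (hLmem x').1 hx'
        exact (hOmem _).2 ⟨u0 * w, mul_mem hu0 hw.1, by group⟩
    have hdis : Disjoint L (L.image fun x => u0 * x * u0⁻¹) := by
      rw [Finset.disjoint_left]
      intro x hx hx'
      obtain ⟨x', hx'', rfl⟩ := Finset.mem_image.1 hx'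
      exact hmove x' hx'' (hLW _ hx)
    have hi : (L.image fun x => u0 * x * u0⁻¹).card = L.card :=
      Finset.card_image_of_injective _ (fun a b e => by simpa using e)
    have := Finset.card_le_card hsub
    rw [Finset.card_union_of_disjoint hdis, hi] at this
    omega
  -- upper bound
  set E' : Finset G := (Finset.univ.filter (· ∈ E)).erase 1
  have hEcard : E'.card ≤ p * p - 1 := by
    rw [Finset.card_erase_of_mem (by simp)]
    refine Nat.sub_le_sub_right ?_ 1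
    have hsub : (Finset.univ.filter (· ∈ E)) ⊆
        ((Finset.range p) ×ˢ (Finset.range p)).image (fun ij : ℕ × ℕ => y ^ ij.1 * z ^ ij.2) := by
      intro x hx
      obtain ⟨e, he, j, rfl⟩ := hE.split x (by simpa using hx)
      obtain ⟨k, hk⟩ := mem_zpowers_iff.1 (hgen he)
      obtain ⟨i, hi⟩ := (Submonoid.mem_powers_iff _ _).1
        ((isOfFinOrder_of_finite y).mem_powers_iff_mem_zpowers.2 ⟨k, rfl⟩)
      refine Finset.mem_image.2 ⟨(i % p, j % p), Finset.mem_product.2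
        ⟨Finset.mem_range.2 (Nat.mod_lt _ hp.pos), Finset.mem_range.2 (Nat.mod_lt _ hp.pos)⟩, ?_⟩
      simp only at hi ⊢
      rw [← pow_eq_pow_mod i (hE.elem.2 y hyE), ← pow_eq_pow_mod j hE.z_pow, hi, hk]
    refine (Finset.card_le_card hsub).trans (Finset.card_image_le.trans ?_)
    rw [Finset.card_product, Finset.card_range]
  have hup : O.card ≤ (p + 1) * L.card := by
    set P := O ×ˢ Finset.range (p - 1)
    have hkp : ∀ k ∈ Finset.range (p - 1), ¬ p ∣ k + 1 := fun k hk h0 => by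
      have h1 := Nat.le_of_dvd (Nat.succ_pos k) h0
      have h2 := Finset.mem_range.1 hk
      omega
    have himg : P.image (fun xk : G × ℕ => xk.1 ^ (xk.2 + 1)) ⊆ E' := by
      intro e he
      obtain ⟨⟨x, k⟩, hxk, rfl⟩ := Finset.mem_image.1 he
      obtain ⟨hx, hk⟩ := Finset.mem_product.1 hxk
      refine Finset.mem_erase.2 ⟨fun h0 => hne x hx (eq_of_pow_eq hp (hE.elem.2 x (hOE x hx)) (one_pow p)
        (Commute.one_right x) (hkp k hk) (by rw [one_pow]; exact h0)), ?_⟩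
      simpa using pow_mem (hOE x hx) (k + 1)
    have hfib := Finset.card_le_mul_card_image (f := fun xk : G × ℕ => xk.1 ^ (xk.2 + 1)) P L.card
      fun e he => ?_
    · have h1 := hfib.trans (Nat.mul_le_mul_left _ ((Finset.card_le_card himg).trans hEcard))
      rw [Finset.card_product, Finset.card_range] at h1
      refine Nat.le_of_mul_le_mul_right (h1.trans (le_of_eq ?_)) (show 0 < p - 1 by omega)
      obtain ⟨q, rfl⟩ : ∃ q, p = q + 1 := ⟨p - 1, by omega⟩
      rw [show (q + 1) * (q + 1) - 1 = q * q + 2 * q by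
        have : (q + 1) * (q + 1) = q * q + 2 * q + 1 := by ring
        omega, Nat.add_sub_cancel]
      ring
    · obtain ⟨⟨x0, k0⟩, hxk0, he0'⟩ := Finset.mem_image.1 he
      obtain ⟨hx0, -⟩ := Finset.mem_product.1 hxk0
      refine le_trans (Finset.card_le_card_of_injOn (fun xk : G × ℕ => y ^ (xk.2 + 1))
        (t := L.image (fun w => w ^ (k0 + 1))) ?_ ?_) Finset.card_image_le
      · rintro ⟨x, k⟩ hxk
        obtain ⟨hxk, hke⟩ := Finset.mem_filter.1 (Finset.mem_coe.1 hxk)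
        obtain ⟨hx, -⟩ := Finset.mem_product.1 hxk
        obtain ⟨u, hu, rfl⟩ := (hOmem x).1 hx
        obtain ⟨v, hv, rfl⟩ := (hOmem x0).1 hx0
        simp only at hke he0'
        obtain ⟨w, hw, hwe⟩ := h.conj_mem_coreW (pow_mem (mem_inf.1 hy).2 (k0 + 1))
          (pow_mem (mem_inf.1 hy).2 (k + 1)) (mul_mem (inv_mem hu) hv) (by
            calc u⁻¹ * v * y ^ (k0 + 1) * (u⁻¹ * v)⁻¹ = u⁻¹ * (v * y * v⁻¹) ^ (k0 + 1) * u := by
                  rw [conj_pow]; group
              _ = u⁻¹ * (u * y * u⁻¹) ^ (k + 1) * u := by rw [he0', hke]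
              _ = y ^ (k + 1) := by rw [conj_pow]; group)
        exact Finset.mem_coe.2 (Finset.mem_image.2
          ⟨w * y * w⁻¹, (hLmem _).2 ⟨w, hw, rfl⟩, by rw [conj_pow, hwe]⟩)
      · rintro ⟨x, k⟩ hxk ⟨x', k'⟩ hxk' hkk
        obtain ⟨hxk, hke⟩ := Finset.mem_filter.1 (Finset.mem_coe.1 hxk)
        obtain ⟨hxk', hke'⟩ := Finset.mem_filter.1 (Finset.mem_coe.1 hxk')
        obtain ⟨hx, hk⟩ := Finset.mem_product.1 hxk
        obtain ⟨hx', hk'⟩ := Finset.mem_product.1 hxk'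
        simp only at hkk hke hke'
        have h1 := (pow_eq_pow_iff_modEq.1 hkk)
        rw [hyp] at h1
        have h2 := Finset.mem_range.1 hk
        have h3 := Finset.mem_range.1 hk'
        have hkeq : k = k' := by
          have := h1.eq_of_lt_of_lt (by omega) (by omega)
          omega
        subst hkeq
        exact Prod.ext (eq_of_pow_eq hp (hE.elem.2 x (hOE x hx)) (hE.elem.2 x' (hOE x' hx'))
          (hE.commute (hOE x hx) (hOE x' hx')) (hkp k hk) (hke.trans hke'.symm)) rfl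
  -- vertices
  have hzC : z ∈ centralizer ({y} : Set G) := mem_centralizer_singleton_iff.2 (hE.commute hE.z_mem hyE).eq
  have hzO := hout z hzC hE.z_inv hE.z_ne ⟨1, by rw [pow_one]; exact hE.z_pow⟩
  obtain ⟨S, hSC, hSQ, hS⟩ := hL.tori z hzC p hp hE.z_pow hE.z_inv hzO
  have hcentral : ∀ g ∈ centralizer ({y} : Set G), ∀ e ∈ zpowers y, g * e * g⁻¹ = e := by
    intro g hg e he
    obtain ⟨k, rfl⟩ := mem_zpowers_iff.1 he
    have hgy : Commute g y := mem_centralizer_singleton_iff.1 hg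
    rw [(hgy.zpow_right k).eq, mul_inv_cancel_right]
  have hkey : ∀ g ∈ centralizer ({y} : Set G), ∀ e ∈ E ⊓ coreW t r, ∀ j : ℕ,
      g * (e * z ^ j) * g⁻¹ = e * (g * z ^ j * g⁻¹) := fun g hg e he j => by
    rw [← conj_mul, hcentral g hg e (hgen he)]
  set O' := O.filter (· ∉ coreW t r)
  have hO' : O.card ≤ O'.card + L.card := by
    have hsub : O ⊆ O' ∪ L := by
      intro x hx
      by_cases hxW : x ∈ coreW t r
      · obtain ⟨u, hu, e⟩ := (hOmem x).1 hx
        exact Finset.mem_union_right _ ((hLmem x).2 (h.conj_mem_coreW (mem_inf.1 hy).2 hxW hu e))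
      · exact Finset.mem_union_left _ (Finset.mem_filter.2 ⟨hx, hxW⟩)
    exact (Finset.card_le_card hsub).trans (Finset.card_union_le _ _)
  have hOy : ∀ e ∈ zpowers y, e ∈ oddPart (centralizer ({y} : Set G)) := fun e he =>
    zpowers_le.2 (mem_oddPart_centralizer (hyp ▸ hp.odd_of_ne_two hp2)) he
  have hinj : Set.InjOn (fun hx : G × G => hx.1 * hx.2 * hx.1⁻¹) (S ×ˢ O' : Finset (G × G)) := by
    rintro ⟨g, x⟩ hgx ⟨g', x'⟩ hgx' he
    obtain ⟨hg, hx⟩ := Finset.mem_product.1 (Finset.mem_coe.1 hgx)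
    obtain ⟨hg', hx'⟩ := Finset.mem_product.1 (Finset.mem_coe.1 hgx')
    obtain ⟨hxO, hxW⟩ := Finset.mem_filter.1 hx
    obtain ⟨e1, he1, j, rfl⟩ := hE.split x (hOE x hxO)
    obtain ⟨e2, he2, j', hj'⟩ := hE.split x' (hOE x' (Finset.mem_filter.1 hx').1)
    simp only at he
    rw [hj', hkey g (hSC g hg) e1 he1, hkey g' (hSC g' hg') e2 he2] at he
    have hmod : (g * z ^ j * g⁻¹)⁻¹ * (g' * z ^ j' * g'⁻¹) ∈ oddPart (centralizer ({y} : Set G)) := by
      have e3 : g' * z ^ j' * g'⁻¹ = e2⁻¹ * e1 * (g * z ^ j * g⁻¹) := by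
        rw [mul_assoc e2⁻¹, he, inv_mul_cancel_left]
      have hc : g * z ^ j * g⁻¹ * (e2⁻¹ * e1) = e2⁻¹ * e1 * (g * z ^ j * g⁻¹) := by
        have := hcentral (g * z ^ j * g⁻¹) (mul_mem (mul_mem (hSC g hg) (pow_mem hzC j)) (inv_mem (hSC g hg)))
          _ (mul_mem (inv_mem (hgen he2)) (hgen he1))
        exact mul_inv_eq_iff_eq_mul.1 this
      rw [e3, ← hc, inv_mul_cancel_left]
      exact hOy _ (mul_mem (inv_mem (hgen he2)) (hgen he1))
    have hpj : ¬ p ∣ j := fun hd => hxW (by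
      rw [(hE.zpow_eq_one_iff hp).2 hd, mul_one]; exact (mem_inf.1 he1).2)
    have hgg := hS g hg g' hg' j j' hpj hmod
    subst hgg
    have : e1 * z ^ j = x' := by
      rw [hj']
      have e4 : g * (e1 * z ^ j) * g⁻¹ = g * (e2 * z ^ j') * g⁻¹ := by
        rw [hkey g (hSC g hg) e1 he1, hkey g (hSC g hg) e2 he2, he]
      simpa using e4
    rw [this]
  set X := (S ×ˢ O').image (fun hx : G × G => hx.1 * hx.2 * hx.1⁻¹)
  have hX := two_mul_card_le hF hL X fun x hx => by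
    obtain ⟨⟨g, x'⟩, hgx, rfl⟩ := Finset.mem_image.1 hx
    obtain ⟨u, -, hux⟩ := (hOmem x').1 (Finset.mem_filter.1 (Finset.mem_product.1 hgx).2).1
    exact isConj_iff.2 ⟨g * u, by rw [← hux]; group⟩
  rw [Finset.card_image_of_injOn hinj, Finset.card_product, hcardO, hcardL] at hX
  have hlpos : 0 < L.card := Finset.card_pos.2 ⟨y, (hLmem y).2 ⟨1, one_mem _, by simp⟩⟩
  have hA := arith_line p L.card O.card hp3 hlpos hlow hup
  have hpn' : p ≤ n := Nat.le_of_dvd hL.pos hpn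
  have hS6 : 12 * p ^ 2 ≤ 2 * S.card :=
    le_trans (Nat.mul_le_mul_left 12 (Nat.pow_le_pow_left hpn' 2)) (hL.big.trans hSQ)
  have h1 : 12 * p ^ 2 * (O.card - L.card) * L.card ^ 2 ≤ 2 * (S.card * O'.card) * L.card ^ 2 := by
    refine Nat.mul_le_mul_right _ ?_
    rw [← mul_assoc]
    exact Nat.mul_le_mul hS6 (by omega)
  omega

end Cfsg.Agent.GWKlein
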