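import Cfsg.Agent.Lib.GWKlein.General.AbelianAct
import Cfsg.Agent.Lib.GWKlein.General.AbelianTwo

/-!
# Gorenstein-Walter, Klein general case: elementary of order at least `p³` (section 2.1, second case)

The inverted elements of `U` are translations `e ↦ e z^φ(e)`. Those fixing `y` come from the cyclic torus of `C(y)`,
so `|E ∩ W| = p²` and `p²` divides the torus order; then `y` has too many conjugates.
-/

set_option autoImplicit false

namespace Cfsg.Agent.GWKlein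

open Subgroup

universe u

variable {G : Type u} [Group G] [Finite G] {t r s : G} {p : ℕ} {E : Subgroup G} {z : G}

namespace ElemSetting

/-- If `C(t)` normalises `⟨z⟩`, inverted elements centralise `z`. -/
theorem inv_commute_z (hE : ElemSetting t r p E z) (h : Hyp t r s)
    (hz : ∀ g ∈ centralizer ({t} : Set G), g * z * g⁻¹ ∈ zpowers z) {n : G} (hnU : n ∈ coreU t)
    (hn : InvElt t r n) : Commute n z := by
  obtain ⟨k, hk⟩ := mem_zpowers_iff.1 (hz n (inv_mem_cent hn))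
  have h1 : n⁻¹ * z * n = n * z * n⁻¹ := by
    calc n⁻¹ * z * n = ((r * n * r⁻¹) * (r * z * r⁻¹) * (r * n * r⁻¹)⁻¹)⁻¹ := by
          rw [hn.2, hE.z_inv.2]; group
      _ = (r * (n * z * n⁻¹) * r⁻¹)⁻¹ := by group
      _ = n * z * n⁻¹ := by
        rw [← hk, show r * z ^ k * r⁻¹ = (r * z * r⁻¹) ^ k from _root_.conj_zpow.symm, hE.z_inv.2, inv_zpow,
          inv_inv]
  refine commute_of_sq (h.odd_orderOf hnU) ?_
  rw [pow_two]
  calc n * n * z = n * (n * z * n⁻¹) * n := by group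
    _ = n * (n⁻¹ * z * n) * n := by rw [h1]
    _ = z * (n * n) := by group

/-- Split off the fixed part: if `w * n` translates `x` then `w` centralises `x` and `n` translates it. -/
theorem fixed_part (hE : ElemSetting t r p E z) (h : Hyp t r s)
    (hz : ∀ g ∈ centralizer ({t} : Set G), g * z * g⁻¹ ∈ zpowers z) {w n x : G} {c : ℕ} (hw : w ∈ coreW t r)
    (hnU : n ∈ coreU t) (hn : InvElt t r n) (hx : x ∈ E ⊓ coreW t r)
    (hu : (w * n) * x * (w * n)⁻¹ = x * z ^ c) :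
    w * x * w⁻¹ = x ∧ (Commute n x ↔ z ^ c = 1) := by
  have hnz := hE.inv_commute_z h hz hnU hn
  obtain ⟨j, hj⟩ := hE.translate h hnU hn hnz hx
  have hj1 := hj 1
  rw [pow_one, one_mul] at hj1
  have hwc := coreU_le_centralizer t hw.1
  obtain ⟨b, hb⟩ := (Submonoid.mem_powers_iff _ _).1
    ((isOfFinOrder_of_finite z).mem_powers_iff_mem_zpowers.2 (hz w hwc))
  have h1 : (w * x * w⁻¹) * z ^ (b * j) = x * z ^ c := by
    rw [← hu, pow_mul, hb, conj_pow]
    calc w * x * w⁻¹ * (w * z ^ j * w⁻¹) = w * (x * z ^ j) * w⁻¹ := by group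
      _ = w * n * x * (w * n)⁻¹ := by rw [← hj1]; group
  have hwx : w * x * w⁻¹ ∈ E ⊓ coreW t r :=
    mem_inf.2 ⟨hE.conj_mem hwc (mem_inf.1 hx).1, mul_mem (mul_mem hw (mem_inf.1 hx).2) (inv_mem hw)⟩
  obtain ⟨h2, h3⟩ := hE.split_unique h hwx hx h1
  refine ⟨h2, ?_⟩
  have h4 : z ^ c = w * z ^ j * w⁻¹ := by rw [← h3, pow_mul, hb, conj_pow]
  constructor
  · intro hc
    rw [hc.eq, mul_inv_cancel_right, left_eq_mul] at hj1
    rw [h4, hj1, mul_one, mul_inv_cancel]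
  · intro hc
    rw [hc, eq_comm] at h4
    have h5 : z ^ j = 1 := by simpa using h4
    rw [h5, mul_one] at hj1
    exact mul_inv_eq_iff_eq_mul.1 hj1

/-- The second case of 2.1. -/
theorem false_of_large (hE : ElemSetting t r p E z) (h : Hyp t r s) (hp : p.Prime) (hp2 : p ≠ 2)
    (hF : OrderFormula t r) (hT : TypeData t r p) (hno : NoNormalInW t r p)
    (hlarge : ∀ y ∈ E ⊓ coreW t r, ∃ e ∈ E ⊓ coreW t r, e ∉ zpowers y)
    (hmin : ∀ E' : Subgroup G, E' < E → Cfsg.IsElementaryAbelian p E' →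
      centralizer ({t} : Set G) ≤ normalizer (E' : Set G) → E' ⊓ coreW t r = ⊥) : False := by
  classical
  haveI : Fact p.Prime := ⟨hp⟩
  haveI := Fintype.ofFinite G
  have hp3 : 3 ≤ p := by have := hp.two_le; omega
  have hz := hE.zpowers_normal h hp hT hlarge hmin
  have hpow : ∀ {g x : G}, x ∈ zpowers g → ∃ i : ℕ, g ^ i = x := fun {g x} hx =>
    (Submonoid.mem_powers_iff _ _).1 ((isOfFinOrder_of_finite g).mem_powers_iff_mem_zpowers.2 hx)
  have hW : ∀ x ∈ E ⊓ coreW t r, x ∈ coreW t r := fun x hx => (mem_inf.1 hx).2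
  have hEm : ∀ x ∈ E ⊓ coreW t r, x ∈ E := fun x hx => (mem_inf.1 hx).1
  -- every non-trivial element of `E ∩ W` is moved by an inverted element
  have hmove : ∀ e ∈ E ⊓ coreW t r, e ≠ 1 → ∃ n ∈ coreU t, InvElt t r n ∧ ¬ Commute n e := by
    let F0 : Subgroup G :=
      { carrier := {e | e ∈ E ⊓ coreW t r ∧ ∀ n ∈ coreU t, InvElt t r n → Commute n e}
        one_mem' := ⟨one_mem _, fun n _ _ => Commute.one_right n⟩
        mul_mem' := fun ⟨ha, ha'⟩ ⟨hb, hb'⟩ => ⟨mul_mem ha hb, fun n h1 h2 => (ha' n h1 h2).mul_right (hb' n h1 h2)⟩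
        inv_mem' := fun ⟨ha, ha'⟩ => ⟨inv_mem ha, fun n h1 h2 => (ha' n h1 h2).inv_right⟩ }
    intro e he he1
    by_contra! hc
    have hF0 : F0 ≠ ⊥ := fun e0 => he1 (mem_bot.1 (e0 ▸ (⟨he, hc⟩ : e ∈ F0)))
    refine hno F0 (fun x => ⟨1, Subtype.ext (by simpa using hE.elem.2 x (hEm _ x.2.1))⟩)
      (fun x hx => hW x hx.1) hF0 ?_
    rw [← h.sup_fourV]
    refine sup_le (fun u hu => ?_) (fun v hv => Coprime.mem_normalizer_of_forall fun x hx => ?_)
    · obtain ⟨w, -, hw, n, hnU, hn, rfl⟩ := h.exists_mul_invElt le_rfl h.coreU_r_invariant hu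
      refine mul_mem (Coprime.mem_normalizer_of_forall fun x hx => ⟨mem_inf.2
        ⟨hE.conj_mem (coreU_le_centralizer t hw.1) (hEm x hx.1),
          Subgroup.mul_mem _ (Subgroup.mul_mem _ hw (hW x hx.1)) (Subgroup.inv_mem _ hw)⟩, fun m hm hmi => ?_⟩)
        (Coprime.mem_normalizer_of_forall fun x hx => ?_)
      · have h1 := hx.2 (w⁻¹ * m * w)
          (Subgroup.mul_mem _ (Subgroup.mul_mem _ (Subgroup.inv_mem _ hw.1) hm) hw.1)
          (by simpa using hmi.conj_of_coreW (Subgroup.inv_mem _ hw))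
        simpa [mul_assoc] using h1.map (MulAut.conj w).toMonoidHom
      · rw [(hx.2 n hnU hn).eq, mul_inv_cancel_right]; exact hx
    · rw [show v * x * v⁻¹ = x by
        rw [mem_centralizer_iff.1 (h.coreW_le_centralizer (hW x hx.1)) v hv, mul_inv_cancel_right]]
      exact hx
  obtain ⟨n0, hn0U, hn0, y, hy, hy0⟩ := hE.moved
  have hy1 : y ≠ 1 := fun e => hy0 (by rw [e, mul_one, mul_inv_cancel]; exact one_mem _)
  have hn0z := hE.inv_commute_z h hz hn0U hn0
  obtain ⟨a, ha⟩ := hE.translate h hn0U hn0 hn0z hy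
  have hpa : ¬ p ∣ a := fun hd => hy0 (by
    have h1 := ha 1
    rw [pow_one, one_mul, (hE.zpow_eq_one_iff hp).2 hd, mul_one] at h1
    rw [h1]; exact hy)
  have hyp : orderOf y = p := hE.orderOf_eq hp (hEm y hy) hy1
  obtain ⟨n, Q, hL, -, hout⟩ := hT y (hW y hy) hyp
  set C := centralizer ({y} : Set G)
  have hzy : Commute z y := hE.commute hE.z_mem (hEm y hy)
  -- inverted `p`-elements centralising `y` and moving a given element
  have hgen : ∀ e ∈ E ⊓ coreW t r, e ∉ zpowers y → ∃ m ∈ coreU t, InvElt t r m ∧ (∃ i, m ^ p ^ i = 1) ∧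
      Commute m y ∧ ¬ Commute m e := by
    intro e he hey
    obtain ⟨b, hb⟩ := hE.translate h hn0U hn0 hn0z he
    obtain ⟨i, hi⟩ := exists_shift hp hpa b
    set x := e * y ^ i
    have hx : x ∈ E ⊓ coreW t r := mul_mem he (pow_mem hy i)
    have hx1 : x ≠ 1 := fun e0 => hey (by
      rw [eq_inv_of_mul_eq_one_left e0]; exact inv_mem (pow_mem (Subgroup.mem_zpowers y) i))
    have hn0x : ∀ k : ℕ, n0 ^ k * x * (n0 ^ k)⁻¹ = x := by
      intro k
      calc n0 ^ k * x * (n0 ^ k)⁻¹ = (n0 ^ k * e * (n0 ^ k)⁻¹) * (n0 ^ k * y * (n0 ^ k)⁻¹) ^ i := by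
            simp only [x]; rw [conj_pow]; group
        _ = e * z ^ (k * b) * (y ^ i * z ^ (k * a * i)) := by
            rw [hb, ha, (hE.conj_zpow (hEm y hy) _).mul_pow, ← pow_mul]
        _ = x * z ^ (k * (b + i * a)) := by
            rw [mul_assoc e, ← mul_assoc (z ^ (k * b)), ← (hE.conj_zpow (hEm _ (pow_mem hy i)) (k * b)).eq]
            simp only [x, mul_assoc, ← pow_add]
            congr 3; ring
        _ = x := by rw [(hE.zpow_eq_one_iff hp).2 (hi.mul_left k), mul_one]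
    obtain ⟨n1, hn1U, hn1, hn1x⟩ := hmove x hx hx1
    have hn1z := hE.inv_commute_z h hz hn1U hn1
    obtain ⟨c, hc⟩ := hE.translate h hn1U hn1 hn1z hy
    obtain ⟨d, hd⟩ := hE.translate h hn1U hn1 hn1z hx
    have hd1 := hd 1
    have hc1 := hc 1
    rw [pow_one, one_mul] at hd1 hc1
    have hpd : z ^ d ≠ 1 := fun e0 => hn1x (mul_inv_eq_iff_eq_mul.1 (by rw [hd1, e0, mul_one]))
    obtain ⟨k, hk⟩ := exists_shift hp hpa c
    have huy : n1 * n0 ^ k * y * (n1 * n0 ^ k)⁻¹ = y * z ^ (c + k * a) := by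
      calc n1 * n0 ^ k * y * (n1 * n0 ^ k)⁻¹ = n1 * (n0 ^ k * y * (n0 ^ k)⁻¹) * n1⁻¹ := by group
        _ = (n1 * y * n1⁻¹) * (n1 * z ^ (k * a) * n1⁻¹) := by rw [ha]; group
        _ = y * z ^ (c + k * a) := by
          rw [hc1, (hn1z.pow_right _).eq, mul_inv_cancel_right, mul_assoc, ← pow_add]
    have hux : n1 * n0 ^ k * x * (n1 * n0 ^ k)⁻¹ = x * z ^ d := by
      calc n1 * n0 ^ k * x * (n1 * n0 ^ k)⁻¹ = n1 * (n0 ^ k * x * (n0 ^ k)⁻¹) * n1⁻¹ := by group
        _ = x * z ^ d := by rw [hn0x, hd1]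
    obtain ⟨w, -, hw, n3, hn3U, hn3, hwn⟩ :=
      h.exists_mul_invElt le_rfl h.coreU_r_invariant (mul_mem hn1U (pow_mem hn0U k))
    rw [hwn] at huy hux
    have h3y : Commute n3 y := (hE.fixed_part h hz hw hn3U hn3 hy huy).2.2 ((hE.zpow_eq_one_iff hp).2 hk)
    have h3x : ¬ Commute n3 x := fun e0 => hpd ((hE.fixed_part h hz hw hn3U hn3 hx hux).2.1 e0)
    -- pass to the `p`-part
    obtain ⟨j, m, hm, hjm⟩ := Nat.exists_eq_pow_mul_and_not_dvd (orderOf_pos n3).ne' p hp.ne_one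
    refine ⟨n3 ^ m, pow_mem hn3U m, hn3.pow m, ⟨j, by rw [← pow_mul, mul_comm, ← hjm, pow_orderOf_eq_one]⟩,
      h3y.pow_left m, fun e0 => h3x ?_⟩
    have hex : Commute n3 e := by
      obtain ⟨g, hg⟩ := hE.translate h hn3U hn3 (hE.inv_commute_z h hz hn3U hn3) he
      have hgm := hg m
      rw [e0.eq, mul_inv_cancel_right, left_eq_mul, hE.zpow_eq_one_iff hp] at hgm
      have hg1 := hg 1
      rw [pow_one, one_mul, (hE.zpow_eq_one_iff hp).2 ((hp.dvd_mul.1 hgm).resolve_left hm), mul_one] at hg1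
      exact mul_inv_eq_iff_eq_mul.1 hg1
    exact hex.mul_right (h3y.pow_right i)
  -- in the torus of `C(y)`, fixed elements are shared
  have hcyc : ∀ m ∈ coreU t, InvElt t r m → (∃ i, m ^ p ^ i = 1) → Commute m y →
      ∀ m' ∈ coreU t, InvElt t r m' → (∃ i, m' ^ p ^ i = 1) → Commute m' y → ∀ j : ℕ,
      (m ^ j)⁻¹ * m' ∈ oddPart C → ∀ e ∈ E ⊓ coreW t r, ∀ b c : ℕ,
        m * e * m⁻¹ = e * z ^ b → m' * e * m'⁻¹ = e * z ^ c → z ^ (j * b) = z ^ c := by
    intro m hmU hm hmp hmy m' hm'U hm' hm'p hm'y j hj e he b c hb hc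
    set K := oddPart C ⊓ coreU t
    have hrC : r ∈ C := mem_centralizer_singleton_iff.2 (h.mem_coreW.1 (hW y hy)).2.1.eq.symm
    obtain ⟨w, -, hw, o, hoK, ho, hwo⟩ := h.exists_mul_invElt (K := K) inf_le_right
      (fun x hx => mem_inf.2 ⟨(mem_normalizer_iff.1 (le_normalizer_oddPart C hrC) x).1 (mem_inf.1 hx).1,
        h.coreU_r_invariant x (mem_inf.1 hx).2⟩)
      (mem_inf.2 ⟨hj, mul_mem (inv_mem (pow_mem hmU j)) hm'U⟩)
    have hoU : o ∈ coreU t := (mem_inf.1 hoK).2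
    have hoy : Commute o y := mem_centralizer_singleton_iff.1 (oddPart_le C (mem_inf.1 hoK).1)
    obtain ⟨i, q, hq, hiq⟩ := Nat.exists_eq_pow_mul_and_not_dvd (orderOf_pos o).ne' p hp.ne_one
    have hi : i = 0 := by
      by_contra hi0
      have h1 : o ^ q ≠ 1 := fun e0 => by
        have hd := Nat.le_of_dvd (Nat.pos_of_ne_zero fun e1 => hq (by rw [e1]; exact dvd_zero p))
          (hiq ▸ orderOf_dvd_of_pow_eq_one e0)
        have h2 : p ≤ p ^ i := Nat.le_self_pow hi0 p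
        have h3 : p * q ≤ p ^ i * q := Nat.mul_le_mul_right q h2
        have hq0 : 0 < q := Nat.pos_of_ne_zero fun e1 => hq (by rw [e1]; exact dvd_zero p)
        nlinarith
      exact hout (o ^ q) (mem_centralizer_singleton_iff.2 (hoy.pow_left q).eq) (ho.pow q) h1
        ⟨i, by rw [← pow_mul, mul_comm, ← hiq, pow_orderOf_eq_one]⟩ (pow_mem (mem_inf.1 hoK).1 q)
    have hoE := hE.eq_of_coprime h hp hT hlarge hoU ho (by rwa [hiq, hi, pow_zero, one_mul])
    have hm'eq : m' = m ^ j * (w * o) := by rw [← hwo, mul_inv_cancel_left]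
    have hwe : w * e * w⁻¹ ∈ E ⊓ coreW t r := mem_inf.2 ⟨hE.conj_mem (coreU_le_centralizer t hw.1) (hEm e he),
      mul_mem (mul_mem hw (hW e he)) (inv_mem hw)⟩
    obtain ⟨b', hb'⟩ := hE.translate h hmU hm (hE.inv_commute_z h hz hmU hm) hwe
    have h1 : m' * e * m'⁻¹ = (w * e * w⁻¹) * z ^ (j * b') := by
      rw [hm'eq, ← hb' j, show m ^ j * (w * o) * e * (m ^ j * (w * o))⁻¹ =
        m ^ j * (w * (o * e * o⁻¹) * w⁻¹) * (m ^ j)⁻¹ by group, (hoE e (hEm e he)).eq, mul_inv_cancel_right]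
    rw [hc] at h1
    obtain ⟨h2, h3⟩ := hE.split_unique h he hwe h1
    rw [← h2] at hb'
    have h4 := hb' 1
    rw [pow_one, one_mul, hb] at h4
    rw [h3, mul_comm j b, mul_comm j b', pow_mul, pow_mul, mul_left_cancel h4]
  obtain ⟨e0, he0, he0y⟩ := hlarge y hy
  obtain ⟨m, hmU, hm, hmp, hmy, hme⟩ := hgen e0 he0 he0y
  obtain ⟨b0, hb0⟩ := hE.translate h hmU hm (hE.inv_commute_z h hz hmU hm) he0
  have hb01 := hb0 1
  rw [pow_one, one_mul] at hb01
  have hpb0 : ¬ p ∣ b0 := fun hd => hme (mul_inv_eq_iff_eq_mul.1 (by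
    rw [hb01, (hE.zpow_eq_one_iff hp).2 hd, mul_one]))
  -- `|E ∩ W| ≤ p²`
  have hsmall : ∀ e ∈ E ⊓ coreW t r, ∃ i k : ℕ, e = y ^ i * e0 ^ k := by
    intro e he
    obtain ⟨b, hb⟩ := hE.translate h hmU hm (hE.inv_commute_z h hz hmU hm) he
    have hb1 := hb 1
    rw [pow_one, one_mul] at hb1
    obtain ⟨k, hk⟩ := exists_shift hp hpb0 b
    set x := e * e0 ^ k
    have hx : x ∈ E ⊓ coreW t r := mul_mem he (pow_mem he0 k)
    have hmx : m * x * m⁻¹ = x * z ^ 0 := by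
      calc m * x * m⁻¹ = (m * e * m⁻¹) * (m * e0 * m⁻¹) ^ k := by simp only [x]; rw [conj_pow]; group
        _ = e * z ^ b * (e0 ^ k * z ^ (b0 * k)) := by
            rw [hb1, hb01, (hE.conj_zpow (hEm _ he0) _).mul_pow, ← pow_mul]
        _ = x * z ^ (b + k * b0) := by
            rw [mul_assoc e, ← mul_assoc (z ^ b), ← (hE.conj_zpow (hEm _ (pow_mem he0 k)) b).eq]
            simp only [x, mul_assoc, ← pow_add]
            congr 3; ring
        _ = x * z ^ 0 := by rw [(hE.zpow_eq_one_iff hp).2 hk, pow_zero]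
    have hxy : x ∈ zpowers y := by
      by_contra hxy
      obtain ⟨m', hm'U, hm', hm'p, hm'y, hm'x⟩ := hgen x hx hxy
      obtain ⟨c, hc⟩ := hE.translate h hm'U hm' (hE.inv_commute_z h hz hm'U hm') hx
      obtain ⟨c0, hc0⟩ := hE.translate h hm'U hm' (hE.inv_commute_z h hz hm'U hm') he0
      have hc1 := hc 1
      have hc01 := hc0 1
      rw [pow_one, one_mul] at hc1 hc01
      refine hm'x (mul_inv_eq_iff_eq_mul.1 ?_)
      rw [hc1]
      rcases hL.cyclic m (mem_centralizer_singleton_iff.2 hmy.eq) m' (mem_centralizer_singleton_iff.2 hm'y.eq)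
          p hp hp2 hmp hm'p hm hm' with ⟨j, hj⟩ | ⟨j, hj⟩
      · have h1 := hcyc m' hm'U hm' hm'p hm'y m hmU hm hmp hmy j hj x hx c 0 hc1 hmx
        have h2 := hcyc m' hm'U hm' hm'p hm'y m hmU hm hmp hmy j hj e0 he0 c0 b0 hc01 hb01
        rw [pow_zero, hE.zpow_eq_one_iff hp] at h1
        have hpj : ¬ p ∣ j := fun hd => hpb0 ((hE.zpow_eq_one_iff hp).1 (h2 ▸
          (hE.zpow_eq_one_iff hp).2 (hd.mul_right c0)))
        rw [(hE.zpow_eq_one_iff hp).2 ((hp.dvd_mul.1 h1).resolve_left hpj), mul_one]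
      · have h1 := hcyc m hmU hm hmp hmy m' hm'U hm' hm'p hm'y j hj x hx 0 c hmx hc1
        rw [mul_zero, pow_zero] at h1
        rw [← h1, mul_one]
    obtain ⟨i, hi⟩ := hpow (mul_mem hxy (one_mem _))
    rw [mul_one] at hi
    refine ⟨i, k * (p - 1), ?_⟩
    rw [hi, mul_assoc, ← pow_add, show k + k * (p - 1) = p * k by
      obtain ⟨q, rfl⟩ : ∃ q, p = q + 1 := ⟨p - 1, by omega⟩
      rw [Nat.add_sub_cancel]; ring, pow_mul, hE.elem.2 e0 (hEm _ he0), one_pow, mul_one]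
  -- `p²` divides the torus order
  have hn2 : p ^ 2 ≤ n := by
    have hm1 : m ≠ 1 := fun e => hme (e ▸ Commute.one_left e0)
    have hmC : m ∈ C := mem_centralizer_singleton_iff.2 hmy.eq
    obtain ⟨i, hi⟩ := hmp
    obtain ⟨k, -, hk⟩ := (Nat.dvd_prime_pow hp).1 (orderOf_dvd_of_pow_eq_one hi)
    have hk2 : 2 ≤ k := by
      by_contra hk2
      have hmp1 : m ^ p = 1 := by
        rw [← orderOf_dvd_iff_pow_eq_one, hk]
        exact (pow_dvd_pow p (show k ≤ 1 by omega)).trans (by rw [pow_one])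
      obtain ⟨i', hi'⟩ := hpow (hT.mem_zpowers hp hp2 (hW y hy) hyp hm hE.z_inv hmp1 hE.z_pow hE.z_ne
        (hE.inv_commute_z h hz hmU hm) hmy hzy)
      exact hme (hi' ▸ (hE.conj_zpow (hEm _ he0) i').symm)
    have hmn := hL.pow_mem m hmC (h.odd_orderOf hmU) hm
    have hmn1 : m ^ n = 1 := by
      by_contra h1
      exact hout (m ^ n) (pow_mem hmC n) (hm.pow n) h1
        ⟨i, by rw [← pow_mul, mul_comm, pow_mul, hi, one_pow]⟩ hmn
    exact le_trans (Nat.pow_le_pow_right hp.pos hk2)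
      (hk ▸ Nat.le_of_dvd hL.pos (orderOf_dvd_of_pow_eq_one hmn1))
  -- the count
  set L : Finset G := Finset.univ.filter (· ∈ conjSet (coreW t r) y)
  set O : Finset G := Finset.univ.filter (· ∈ conjSet (coreU t) y)
  have hcardL : Nat.card (conjSet (coreW t r) y) = L.card := by
    rw [← Nat.card_eq_finsetCard, Nat.card_congr]; exact Equiv.subtypeEquivRight fun x => by simp [L]
  have hcardO : Nat.card (conjSet (coreU t) y) = O.card := by
    rw [← Nat.card_eq_finsetCard, Nat.card_congr]; exact Equiv.subtypeEquivRight fun x => by simp [O]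
  have hup : O.card ≤ p * L.card := by
    have hsub : O ⊆ (L ×ˢ Finset.range p).image (fun xj : G × ℕ => xj.1 * z ^ xj.2) := by
      intro x hx
      obtain ⟨u, hu, rfl⟩ := mem_conjSet.1 (Finset.mem_filter.1 hx).2
      obtain ⟨w, -, hw, n', hn'U, hn', rfl⟩ := h.exists_mul_invElt le_rfl h.coreU_r_invariant hu
      obtain ⟨j, hj⟩ := hE.translate h hn'U hn' (hE.inv_commute_z h hz hn'U hn') hy
      have hj1 := hj 1
      rw [pow_one, one_mul] at hj1
      obtain ⟨b, hb⟩ := hpow (hz w (coreU_le_centralizer t hw.1))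
      refine Finset.mem_image.2 ⟨(w * y * w⁻¹, (b * j) % p), Finset.mem_product.2
        ⟨Finset.mem_filter.2 ⟨Finset.mem_univ _, w, hw, rfl⟩, Finset.mem_range.2 (Nat.mod_lt _ hp.pos)⟩, ?_⟩
      simp only
      rw [← pow_eq_pow_mod _ hE.z_pow, pow_mul, hb, conj_pow]
      calc w * y * w⁻¹ * (w * z ^ j * w⁻¹) = w * (y * z ^ j) * w⁻¹ := by group
        _ = w * n' * y * (w * n')⁻¹ := by rw [← hj1]; group
    refine (Finset.card_le_card hsub).trans (Finset.card_image_le.trans (le_of_eq ?_))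
    rw [Finset.card_product, Finset.card_range, mul_comm]
  have hlsmall : L.card ≤ p * p - 1 := by
    have hsub : L ⊆ (((Finset.range p) ×ˢ (Finset.range p)).image
        (fun ij : ℕ × ℕ => y ^ ij.1 * e0 ^ ij.2)).erase 1 := by
      intro x hx
      obtain ⟨w, hw, rfl⟩ := mem_conjSet.1 (Finset.mem_filter.1 hx).2
      refine Finset.mem_erase.2 ⟨fun e => hy1 (by simpa using e), ?_⟩
      obtain ⟨i, k, hik⟩ := hsmall (w * y * w⁻¹) (mem_inf.2 ⟨hE.conj_mem (coreU_le_centralizer t hw.1) (hEm y hy),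
        mul_mem (mul_mem hw (hW y hy)) (inv_mem hw)⟩)
      refine Finset.mem_image.2 ⟨(i % p, k % p), Finset.mem_product.2
        ⟨Finset.mem_range.2 (Nat.mod_lt _ hp.pos), Finset.mem_range.2 (Nat.mod_lt _ hp.pos)⟩, ?_⟩
      simp only
      rw [← pow_eq_pow_mod i (hE.elem.2 y (hEm y hy)), ← pow_eq_pow_mod k (hE.elem.2 e0 (hEm _ he0)), hik]
    refine (Finset.card_le_card hsub).trans ?_
    rw [Finset.card_erase_of_mem (Finset.mem_image.2 ⟨(0, 0), Finset.mem_product.2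
      ⟨Finset.mem_range.2 hp.pos, Finset.mem_range.2 hp.pos⟩, by simp⟩)]
    refine Nat.sub_le_sub_right (Finset.card_image_le.trans (le_of_eq ?_)) 1
    rw [Finset.card_product, Finset.card_range]
  have hzC : z ∈ C := mem_centralizer_singleton_iff.2 hzy.eq
  obtain ⟨S, hSC, hSQ, hS⟩ := hL.tori z hzC p hp hE.z_pow hE.z_inv
    (hout z hzC hE.z_inv hE.z_ne ⟨1, by rw [pow_one]; exact hE.z_pow⟩)
  have hndvd : ∀ b ∈ Finset.range (p - 1), ¬ p ∣ b + 1 := fun b hb hd => by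
    have := Nat.le_of_dvd (Nat.succ_pos b) hd
    have := Finset.mem_range.1 hb
    omega
  have hinj : Set.InjOn (fun hb : G × ℕ => hb.1 * (y * z ^ (hb.2 + 1)) * hb.1⁻¹)
      (S ×ˢ Finset.range (p - 1) : Finset (G × ℕ)) := by
    rintro ⟨g, b⟩ hgb ⟨g', b'⟩ hgb' he
    obtain ⟨hg, hb⟩ := Finset.mem_product.1 (Finset.mem_coe.1 hgb)
    obtain ⟨hg', hb'⟩ := Finset.mem_product.1 (Finset.mem_coe.1 hgb')
    simp only at he
    have hc : ∀ g ∈ S, g * y * g⁻¹ = y := fun g hg => by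
      rw [mem_centralizer_singleton_iff.1 (hSC g hg), mul_inv_cancel_right]
    rw [← conj_mul, ← conj_mul, hc g hg, hc g' hg', mul_right_inj] at he
    have hgg := hS g hg g' hg' (b + 1) (b' + 1) (hndvd b hb) (by rw [he, inv_mul_cancel]; exact one_mem _)
    subst hgg
    have h2 := mul_left_cancel (mul_right_cancel he)
    rw [pow_eq_pow_iff_modEq, hE.orderOf_eq hp hE.z_mem hE.z_ne] at h2
    have h3 := Finset.mem_range.1 hb
    have h4 := Finset.mem_range.1 hb'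
    have := h2.eq_of_lt_of_lt (by omega) (by omega)
    exact Prod.ext rfl (by simpa using this)
  set X := (S ×ˢ Finset.range (p - 1)).image (fun hb : G × ℕ => hb.1 * (y * z ^ (hb.2 + 1)) * hb.1⁻¹)
  have hX := two_mul_card_le hF hL X fun x hx => by
    obtain ⟨⟨g, b⟩, -, rfl⟩ := Finset.mem_image.1 hx
    haveI : Fact p.Prime := ⟨hp⟩
    have ha' : (a : ZMod p) ≠ 0 := fun e => hpa ((ZMod.natCast_eq_zero_iff a p).1 e)
    set i := (((b + 1 : ℕ) : ZMod p) / (a : ZMod p)).val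
    have hi : z ^ (i * a) = z ^ (b + 1) := by
      rw [pow_eq_pow_iff_modEq, hE.orderOf_eq hp hE.z_mem hE.z_ne, ← ZMod.natCast_eq_natCast_iff, Nat.cast_mul,
        ZMod.natCast_zmod_val, div_mul_cancel₀ _ ha']
    refine isConj_iff.2 ⟨g * n0 ^ i, ?_⟩
    rw [← hi, ← ha i]
    group
  rw [Finset.card_image_of_injOn hinj, Finset.card_product, Finset.card_range, hcardL, hcardO] at hX
  have hlpos : 0 < L.card :=
    Finset.card_pos.2 ⟨y, Finset.mem_filter.2 ⟨Finset.mem_univ _, self_mem_conjSet _ y⟩⟩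
  have hS12 : 12 * (p ^ 2) ^ 2 ≤ 2 * S.card :=
    le_trans (Nat.mul_le_mul_left 12 (Nat.pow_le_pow_left hn2 2)) (hL.big.trans hSQ)
  have h1 : 12 * (p ^ 2) ^ 2 * (p - 1) * L.card ^ 2 ≤ 5 * (p * L.card) ^ 3 := by
    refine le_trans ?_ (hX.trans (Nat.mul_le_mul_left 5 (Nat.pow_le_pow_left hup 3)))
    rw [← mul_assoc 2]
    exact Nat.mul_le_mul_right _ (Nat.mul_le_mul_right _ hS12)
  have h2 : p ^ 3 * L.card ^ 2 * (12 * p * (p - 1)) ≤ p ^ 3 * L.card ^ 2 * (5 * L.card) := by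
    calc p ^ 3 * L.card ^ 2 * (12 * p * (p - 1)) = 12 * (p ^ 2) ^ 2 * (p - 1) * L.card ^ 2 := by ring
      _ ≤ 5 * (p * L.card) ^ 3 := h1
      _ = p ^ 3 * L.card ^ 2 * (5 * L.card) := by ring
  have h3 : 12 * p * (p - 1) ≤ 5 * L.card :=
    Nat.le_of_mul_le_mul_left h2 (Nat.mul_pos (pow_pos hp.pos 3) (pow_pos hlpos 2))
  obtain ⟨q, rfl⟩ : ∃ q, p = q + 1 := ⟨p - 1, by omega⟩
  rw [Nat.add_sub_cancel] at h3
  have h4 : (q + 1) * (q + 1) = (q + 1) * q + (q + 1) := by ring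
  have h5 : 2 * (q + 1) ≤ (q + 1) * q := by
    rw [mul_comm 2]; exact Nat.mul_le_mul_left _ (by omega)
  have h6 : 12 * (q + 1) * q = 12 * ((q + 1) * q) := by ring
  omega

end ElemSetting

/-- **2.1**: no elementary subgroup of `U` normalised by `C(t)` meets `W`. -/
theorem Hyp.inf_coreW_eq_bot_of_elementary (h : Hyp t r s) (hp : p.Prime) (hp2 : p ≠ 2)
    (hF : OrderFormula t r) (hT : TypeData t r p) (hno : NoNormalInW t r p) :
    ∀ E : Subgroup G, Cfsg.IsElementaryAbelian p E → E ≤ coreU t →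
      centralizer ({t} : Set G) ≤ normalizer (E : Set G) → E ⊓ coreW t r = ⊥ := by
  intro E
  induction hN : Nat.card E using Nat.strong_induction_on generalizing E with
  | _ N ih =>
  subst hN
  intro hE hEU hEn
  by_contra hne
  obtain ⟨z, hS⟩ := h.exists_elemSetting hp hp2 hT hno hE hEU hEn hne
  by_cases hl : ∀ y ∈ E ⊓ coreW t r, ∃ e ∈ E ⊓ coreW t r, e ∉ zpowers y
  · refine hS.false_of_large h hp hp2 hF hT hno hl fun E' hlt hE' hn' => ih _ ?_ E' rfl hE' (hlt.le.trans hEU) hn'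
    exact (card_le_of_le hlt.le).lt_of_ne fun he => hlt.ne (eq_of_le_of_card_ge hlt.le he.ge)
  · push Not at hl
    obtain ⟨y, hy, hgen⟩ := hl
    refine hS.false_of_line h hp hp2 hF hT hy (fun e => hne ?_) hgen
    refine eq_bot_iff.2 fun x hx => ?_
    have := hgen x hx
    rw [e, zpowers_one_eq_bot] at this
    exact this

end Cfsg.Agent.GWKlein
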