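import Cfsg.Agent.Lib.GWKlein.General.Defs

/-!
# Gorenstein-Walter, Klein general case: conjugates inside the core

`conjSet K y` is the set of `K`-conjugates of `y`.
-/

set_option autoImplicit false

namespace Cfsg.Agent.GWKlein

open Subgroup

universe u

variable {G : Type u} [Group G]

/-- The conjugates of `y` by the elements of `K`. -/
def conjSet (K : Subgroup G) (y : G) : Set G := (fun u : G => u * y * u⁻¹) '' (K : Set G)

theorem mem_conjSet {K : Subgroup G} {x y : G} : x ∈ conjSet K y ↔ ∃ u ∈ K, u * y * u⁻¹ = x := Iff.rfl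

theorem self_mem_conjSet (K : Subgroup G) (y : G) : y ∈ conjSet K y := ⟨1, one_mem K, by simp⟩

end Cfsg.Agent.GWKlein
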