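import Cfsg.Agent.Lib.GWKlein.Local
import Cfsg.Prelude.Def_CaseTheorems

/-!
# Gorenstein-Walter, Klein case, arbitrary local subgroups: definitions

See `GWKlein/GENERAL.md`.

* `IsL2Like`, `ProperL2Like`: what induction gives for non-solvable proper subgroups.
* `InvElt t r a`: `a` commutes with `t` and is inverted by `r`.
* `TypeT`: the four-group centralises all its invariant `p`-subgroups of the odd core of `C(y)`.
* `radU`, `radComm`, `Mixed`: `O_p(U)`, its subgroup `[O_p(U), r]`, and the failure of the latter to be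
  normalised by `C(t)` and to meet `W` trivially.
* `L2Local`: what is used of a subgroup `H ≥ V` with `H/O(H)` of type `L2(q)`.
-/

set_option autoImplicit false

namespace Cfsg.Agent.GWKlein

open Subgroup

universe u

variable {G : Type u} [Group G]

/-- `X/O(X)` has a normal `PSL(2,q)`, `q ≡ 3, 5 (mod 8)`, `q > 3`, with trivial centraliser. -/
def IsL2Like (X : Type u) [Group X] : Prop :=
  ∃ (F : Type) (_ : Field F) (_ : Fintype F),
    (Fintype.card F % 8 = 3 ∨ Fintype.card F % 8 = 5) ∧ 3 < Fintype.card F ∧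
      ∃ L : Subgroup (X ⧸ Cfsg.oddCore X), L.Normal ∧
        centralizer (L : Set (X ⧸ Cfsg.oddCore X)) = ⊥ ∧
        Nonempty (L ≃* Matrix.ProjectiveSpecialLinearGroup (Fin 2) F)

/-- The induction hypothesis. -/
def ProperL2Like (G : Type u) [Group G] : Prop :=
  ∀ H : Subgroup G, H ≠ ⊤ → ¬ Group.IsSolvable H → IsL2Like H

/-- `a` commutes with `t` and is inverted by `r`. -/
def InvElt (t r a : G) : Prop := Commute a t ∧ r * a * r⁻¹ = a⁻¹

/-- The four-group centralises its invariant `p`-subgroups in the odd core of the centraliser of `y`. -/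
def TypeT (t r : G) (p : ℕ) (y : G) : Prop :=
  ∀ Q : Subgroup G, IsPGroup p Q → fourV t r ≤ normalizer (Q : Set G) →
    Q ≤ oddPart (centralizer ({y} : Set G)) → Q ≤ centralizer (fourV t r : Set G)

/-- `O_p(U)`, inside `G`. -/
def radU (p : ℕ) (t : G) : Subgroup G := (Cfsg.pCore p (coreU t)).map (coreU t).subtype

/-- `[O_p(U), r]`: generated by the elements of `O_p(U)` inverted by `r`. -/
def radComm (p : ℕ) (t r : G) : Subgroup G :=
  closure {x : G | x ∈ radU p t ∧ r * x * r⁻¹ = x⁻¹}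

/-- `[O_p(U), r]` is not an inverted abelian subgroup normalised by `C(t)`. -/
def Mixed (p : ℕ) (t r : G) : Prop :=
  radComm p t r ⊓ coreW t r ≠ ⊥ ∨ ¬ centralizer ({t} : Set G) ≤ normalizer (radComm p t r : Set G)

/-- The facts used about a subgroup `H ≥ ⟨t, r⟩` whose quotient by its odd core is of type `L2(q)`:
`n = (q ± 1)/4` is the order of the torus centralised by `t` and `Q = q (q ∓ 1)` twice the number of tori. -/
structure L2Local (t r : G) (H : Subgroup G) (n Q : ℕ) : Prop where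
  pos : 0 < n
  big : 12 * n ^ 2 ≤ Q
  /-- order formula for `H` -/
  order : Nat.card H * Nat.card (coreW t r ⊓ H : Subgroup G) ^ 2 * (16 * n ^ 2) =
    32 * Nat.card (coreU t ⊓ H : Subgroup G) ^ 3 * Q
  /-- inverted elements lie in the torus modulo the core -/
  pow_mem : ∀ a ∈ H, Odd (orderOf a) → InvElt t r a → a ^ n ∈ oddPart H
  /-- the torus is abelian modulo the core -/
  comm_mem : ∀ a ∈ H, ∀ b ∈ H, Odd (orderOf a) → Odd (orderOf b) → InvElt t r a → InvElt t r b →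
    a * b * a⁻¹ * b⁻¹ ∈ oddPart H
  /-- the torus is cyclic modulo the core -/
  cyclic : ∀ a ∈ H, ∀ b ∈ H, ∀ p : ℕ, p.Prime → p ≠ 2 → (∃ i : ℕ, a ^ p ^ i = 1) → (∃ i : ℕ, b ^ p ^ i = 1) →
    InvElt t r a → InvElt t r b → (∃ j : ℕ, (b ^ j)⁻¹ * a ∈ oddPart H) ∨ ∃ j : ℕ, (a ^ j)⁻¹ * b ∈ oddPart H
  /-- two different torus components do not generate a `p`-group -/
  two : ∀ p : ℕ, p.Prime → p ≠ 2 → ∀ P : Subgroup G, IsPGroup p P → P ≤ H →
    fourV t r ≤ normalizer (P : Set G) → ∀ a ∈ P, ∀ b ∈ P, InvElt t r a → InvElt r t b →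
      a ∈ oddPart H ∨ b ∈ oddPart H
  /-- `H` moves the involutions cyclically -/
  moving : ∃ m ∈ H, m * t * m⁻¹ = r ∧ m * r * m⁻¹ = t * r
  /-- the conjugates of the subgroup of order `p` of the torus -/
  tori : ∀ z ∈ H, ∀ p : ℕ, p.Prime → z ^ p = 1 → InvElt t r z → z ∉ oddPart H →
    ∃ S : Finset G, (∀ h ∈ S, h ∈ H) ∧ Q ≤ 2 * S.card ∧
      ∀ h ∈ S, ∀ h' ∈ S, ∀ a b : ℕ, ¬ p ∣ a →
        (h * z ^ a * h⁻¹)⁻¹ * (h' * z ^ b * h'⁻¹) ∈ oddPart H → h = h'
  /-- conjugates generating a subgroup of even order with the torus -/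
  good : ∀ z ∈ H, ∀ p : ℕ, p.Prime → z ^ p = 1 → InvElt t r z → z ∉ oddPart H →
    ∃ S : Finset G, (∀ h ∈ S, h ∈ H) ∧ p ^ 2 ≤ S.card ∧
      (∀ h ∈ S, Even (Nat.card (closure ({z, h * z * h⁻¹} : Set G)))) ∧
      ∀ h ∈ S, ∀ h' ∈ S, ∀ a b : ℕ, ¬ p ∣ a →
        (h * z ^ a * h⁻¹)⁻¹ * (h' * z ^ b * h'⁻¹) ∈ oddPart H → h = h'

end Cfsg.Agent.GWKlein
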