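import Cfsg.Agent.Lib.GWKlein.General.Basics
import Cfsg.Agent.Lib.GWKlein.Endgame
import Cfsg.Agent.Lib.PGroup.Critical

/-!
# Gorenstein-Walter, Klein general case: the extraspecial subgroup of order `p³` (GENERAL.md 2.2)

If `p` is mixed, a critical subgroup of `O_p(U)` gives a subgroup `D` of order `p³` normalised by `C(t)`, whose
centre is `⟨z⟩`, inverted by `r`, and whose intersection with `W` is the only subgroup `⟨y⟩` of order `p` of `W`.
`ExtraShape` collects what the count uses.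
-/

set_option autoImplicit false

namespace Cfsg.Agent.GWKlein

open Subgroup
open scoped commutatorElement Pointwise

universe u

variable {G : Type u} [Group G]

/-- The earlier results used in 2.2. -/
structure ExtraInputs (p : ℕ) (t r : G) : Prop where
  ab : ∀ E : Subgroup G, Cfsg.IsElementaryAbelian p E → E ≤ coreU t →
    centralizer ({t} : Set G) ≤ normalizer (E : Set G) → E ⊓ coreW t r = ⊥
  inv_eq : ∀ y ∈ coreW t r, orderOf y = p → ∀ a b : G, orderOf a = p → orderOf b = p → InvElt t r a →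
    InvElt t r b → Commute a b → Commute a y → Commute b y → b ∈ zpowers a

/-- The output of the structure step of 2.2. -/
structure ExtraShape (p : ℕ) (t r y z : G) : Prop where
  mem_y : y ∈ coreW t r
  order_y : orderOf y = p
  inv_z : InvElt t r z
  order_z : orderOf z = p
  comm : Commute y z
  move : ∀ b : ℕ, ∃ d : G, d * y * d⁻¹ = y * z ^ b ∧ Commute d z
  unique : ∀ w ∈ coreW t r, w ^ p = 1 → w ∈ zpowers y
  bound : Nat.card (conjSet (coreU t) y) ≤ p ^ 2 * Nat.card (conjSet (coreW t r) y)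

theorem orderOf_eq_of_pow_prime {p : ℕ} (hp : p.Prime) {x : G} (hx : x ^ p = 1) (h1 : x ≠ 1) :
    orderOf x = p := by
  haveI : Fact p.Prime := ⟨hp⟩
  exact orderOf_eq_prime hx h1

/-- A non-trivial element of a group of prime order generates it. -/
theorem mem_zpowers_of_ne_one [Finite G] {p : ℕ} (hp : p.Prime) {z x : G} (hz : z ^ p = 1)
    (hx : x ∈ zpowers z) (h1 : x ≠ 1) : z ∈ zpowers x := by
  have hz1 : z ≠ 1 := by
    rintro rfl
    rw [zpowers_one_eq_bot, mem_bot] at hx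
    exact h1 hx
  have e : zpowers x = zpowers z := by
    refine eq_of_le_of_card_ge (zpowers_le.2 hx) ?_
    obtain ⟨i, rfl⟩ := mem_zpowers_iff.1 hx
    have hxp : (z ^ i) ^ p = 1 := by
      rw [← zpow_natCast, ← zpow_mul, mul_comm, zpow_mul, zpow_natCast, hz, one_zpow]
    rw [Nat.card_zpowers, Nat.card_zpowers, orderOf_eq_of_pow_prime hp hxp h1, orderOf_eq_of_pow_prime hp hz hz1]
  exact e ▸ mem_zpowers z

/-- An element of order `p` normalising a subgroup of order `p` centralises it. -/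
theorem commute_of_conj_mem_zpowers [Finite G] {p : ℕ} (hp : p.Prime) {g x : G} (hg : g ^ p = 1)
    (hx : x ^ p = 1) (h : g * x * g⁻¹ ∈ zpowers x) : Commute g x := by
  haveI : Fact p.Prime := ⟨hp⟩
  rw [← mem_powers_iff_mem_zpowers, Submonoid.mem_powers_iff] at h
  obtain ⟨m, hm⟩ := h
  have key : ∀ i : ℕ, g ^ i * x * (g ^ i)⁻¹ = x ^ (m ^ i) := by
    intro i
    induction i with
    | zero => simp
    | succ i ih =>
      calc g ^ (i + 1) * x * (g ^ (i + 1))⁻¹ = g * (g ^ i * x * (g ^ i)⁻¹) * g⁻¹ := by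
            rw [pow_succ']; group
        _ = (g * x * g⁻¹) ^ (m ^ i) := by rw [ih, conj_pow]
        _ = x ^ (m ^ (i + 1)) := by rw [← hm, ← pow_mul, pow_succ']
  have h1 : x ^ (m ^ p) = x ^ 1 := by rw [← key p, hg, pow_one]; simp
  by_cases hx1 : x = 1
  · rw [hx1]; exact Commute.one_right g
  have ho := orderOf_eq_of_pow_prime hp hx hx1
  have h2 : x ^ (m ^ p) = x ^ m := by
    rw [pow_inj_mod, ho]
    exact (ZMod.natCast_eq_natCast_iff' _ _ _).1 (by push_cast; exact ZMod.pow_card _)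
  rw [h2, hm, pow_one] at h1
  exact mul_inv_eq_iff_eq_mul.1 h1

/-- The subgroup `⟨x, z⟩`. -/
def lineZ (z x : G) : Subgroup G := zpowers x ⊔ zpowers z

theorem lineZ_eq [Finite G] {p : ℕ} (hp : p.Prime) {z x x' : G} {j f : ℕ} (hx' : x' ^ p = 1)
    (he : x = x' ^ j * z ^ f) (hne : x' ^ j ≠ 1) : lineZ z x = lineZ z x' := by
  have hz : ∀ y : G, z ∈ lineZ z y := fun y => mem_sup_right (mem_zpowers z)
  refine le_antisymm (sup_le (zpowers_le.2 ?_) le_sup_right) (sup_le (zpowers_le.2 ?_) le_sup_right)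
  · rw [he]
    exact mul_mem (pow_mem (mem_sup_left (mem_zpowers x')) j) (pow_mem (hz x') f)
  · have h1 : x' ^ j ∈ lineZ z x := by
      have e : x' ^ j = x * (z ^ f)⁻¹ := by rw [he, mul_inv_cancel_right]
      rw [e]
      exact mul_mem (mem_sup_left (mem_zpowers x)) (inv_mem (pow_mem (hz x) f))
    exact (zpowers_le.2 h1) (mem_zpowers_of_ne_one hp hx' (npow_mem_zpowers x' j) hne)

theorem smul_lineZ_eq {z x v : G} (hv : v * z * v⁻¹ ∈ zpowers z) (hv' : v⁻¹ * z * v ∈ zpowers z) :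
    MulAut.conj v • lineZ z x = lineZ z (v * x * v⁻¹) := by
  change (zpowers x ⊔ zpowers z).map (MulAut.conj v).toMonoidHom = zpowers (v * x * v⁻¹) ⊔ zpowers z
  rw [Subgroup.map_sup, MonoidHom.map_zpowers, MonoidHom.map_zpowers]
  congr 1
  refine le_antisymm (zpowers_le.2 hv) (zpowers_le.2 ?_)
  obtain ⟨i, hi⟩ := mem_zpowers_iff.1 hv'
  refine mem_zpowers_iff.2 ⟨i, ?_⟩
  change (v * z * v⁻¹) ^ i = z
  rw [conj_zpow, hi]; group

variable [Finite G] {t r s : G}

/-- The orbit of the line through `y` has odd size, at most `p`, and each line carries at most `p` times the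
`W`-conjugates. -/
theorem card_conjSet_le {p : ℕ} (hp : p.Prime) (hp2 : p ≠ 2) {U W : Subgroup G} (hU : Odd (Nat.card U))
    {y z a : G} (hy : y ^ p = 1) (hz : z ^ p = 1) (ha : a ^ p = 1) (hyz : Commute y z) (haz : Commute a z)
    (hzU : ∀ v ∈ U, v * z * v⁻¹ ∈ zpowers z)
    (hrep : ∀ x ∈ conjSet U y, ∃ j e f : ℕ, x = y ^ j * a ^ e * z ^ f)
    (hout : ∀ x ∈ conjSet U y, x ∉ zpowers z)
    (hline : ∀ j f : ℕ, y ^ j * z ^ f ∈ conjSet U y → y ^ j ∈ conjSet W y)
    (hcomm : ∃ k : ℕ, y * a * y⁻¹ = z ^ k * a) (hexp : ∀ m : ℕ, (y * a ^ m) ^ p = 1) :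
    Nat.card (conjSet U y) ≤ p ^ 2 * Nat.card (conjSet W y) := by
  classical
  letI : MulAction U (Subgroup G) :=
    MulAction.compHom (Subgroup G) ((MulAut.conj : G →* MulAut G).comp U.subtype)
  set S : Finset G := (Set.toFinite (conjSet U y)).toFinset with hSdef
  have hS : ∀ x, x ∈ S ↔ x ∈ conjSet U y := fun x => Set.Finite.mem_toFinset _
  have hsmul : ∀ (v : U) (x : G), v • lineZ z x = lineZ z ((v : G) * x * (v : G)⁻¹) := fun v x =>
    smul_lineZ_eq (hzU v v.2) (by simpa using hzU _ (inv_mem v.2))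
  -- the image is the orbit
  have himg : ((S.image (lineZ z) : Finset (Subgroup G)) : Set (Subgroup G)) =
      MulAction.orbit U (lineZ z y) := by
    ext L
    simp only [Finset.coe_image, Set.mem_image, Finset.mem_coe, hS]
    constructor
    · rintro ⟨x, ⟨v, hv, rfl⟩, rfl⟩
      exact ⟨⟨v, hv⟩, hsmul ⟨v, hv⟩ y⟩
    · rintro ⟨v, rfl⟩
      exact ⟨(v : G) * y * (v : G)⁻¹, ⟨v, v.2, rfl⟩, (hsmul v y).symm⟩
  have hodd : Odd (S.image (lineZ z)).card := by
    refine hU.of_dvd_nat ?_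
    rw [← Set.ncard_coe_finset, himg, ← Nat.card_coe_set_eq,
      Nat.card_congr (MulAction.orbitEquivQuotientStabilizer U (lineZ z y))]
    exact Subgroup.index_dvd_card _
  -- at most `p + 1` lines
  obtain ⟨k, hk⟩ := hcomm
  have hpow : ∀ m n : ℕ, ∃ f : ℕ, y ^ n * (a ^ m) ^ n = (y * a ^ m) ^ n * z ^ f := by
    intro m n
    have h1 : y * a ^ m * y⁻¹ = z ^ (k * m) * a ^ m := by
      rw [← conj_pow, hk, (haz.symm.pow_left k).mul_pow, ← pow_mul]
    have hzb : Commute z (a ^ m) := haz.symm.pow_right m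
    have h2 : ∀ n : ℕ, y * (a ^ m) ^ n = z ^ (k * m * n) * (a ^ m) ^ n * y := by
      intro n
      have e : y * (a ^ m) ^ n * y⁻¹ = z ^ (k * m * n) * (a ^ m) ^ n := by
        rw [← conj_pow, h1, (hzb.pow_left _).mul_pow, ← pow_mul]
      rw [← e]; group
    induction n with
    | zero => exact ⟨0, by simp⟩
    | succ n ih =>
      obtain ⟨f, hf⟩ := ih
      refine ⟨k * m * n + f, ?_⟩
      calc y ^ (n + 1) * (a ^ m) ^ (n + 1) = y ^ n * (y * (a ^ m) ^ n) * a ^ m := by
            rw [pow_succ, pow_succ]; group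
        _ = y ^ n * z ^ (k * m * n) * (a ^ m) ^ n * (y * a ^ m) := by rw [h2 n]; group
        _ = z ^ (k * m * n) * (y ^ n * (a ^ m) ^ n) * (y * a ^ m) := by
            rw [(hyz.pow_pow n (k * m * n)).eq]; group
        _ = z ^ (k * m * n) * ((y * a ^ m) ^ n * z ^ f) * (y * a ^ m) := by rw [hf]
        _ = (y * a ^ m) ^ (n + 1) * z ^ (k * m * n + f) := by
            have hc : Commute z (y * a ^ m) := hyz.symm.mul_right hzb
            have e1 : z ^ f * (y * a ^ m) = y * a ^ m * z ^ f := (hc.pow_left f).eq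
            have e2 : z ^ (k * m * n) * (y * a ^ m) ^ (n + 1) = (y * a ^ m) ^ (n + 1) * z ^ (k * m * n) :=
              (hc.pow_pow _ _).eq
            rw [show z ^ (k * m * n) * ((y * a ^ m) ^ n * z ^ f) * (y * a ^ m)
                = z ^ (k * m * n) * (y * a ^ m) ^ n * (z ^ f * (y * a ^ m)) by group, e1,
              show z ^ (k * m * n) * (y * a ^ m) ^ n * (y * a ^ m * z ^ f)
                = z ^ (k * m * n) * (y * a ^ m) ^ (n + 1) * z ^ f by rw [pow_succ]; group, e2, pow_add]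
            group
  have hle : (S.image (lineZ z)).card ≤ p + 1 := by
    have hsub : S.image (lineZ z) ⊆
        insert (lineZ z a) ((Finset.range p).image fun m => lineZ z (y * a ^ m)) := by
      intro L hL
      obtain ⟨x, hxS, rfl⟩ := Finset.mem_image.1 hL
      obtain ⟨j, e, f, rfl⟩ := hrep x ((hS x).1 hxS)
      have hxz := hout _ ((hS _).1 hxS)
      by_cases hj : y ^ j = 1
      · refine Finset.mem_insert.2 (Or.inl ?_)
        refine lineZ_eq hp ha (by rw [hj, one_mul]) fun h1 => hxz ?_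
        rw [hj, h1, one_mul, one_mul]
        exact npow_mem_zpowers z f
      · refine Finset.mem_insert.2 (Or.inr ?_)
        have hpj : ¬ p ∣ j := fun ⟨i, hi⟩ => hj (by rw [hi, pow_mul, hy, one_pow])
        obtain ⟨i, hi⟩ : ∃ i : ℕ, (a ^ j) ^ i = a := by
          by_cases h1 : a ^ j = 1
          · have hco : Nat.Coprime j p := ((Nat.Prime.coprime_iff_not_dvd hp).2 hpj).symm
            have : a = 1 := by
              have := Nat.eq_one_of_dvd_coprimes hco (orderOf_dvd_of_pow_eq_one h1) (orderOf_dvd_of_pow_eq_one ha)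
              exact orderOf_eq_one_iff.1 this
            exact ⟨0, by simp [this]⟩
          · have := mem_zpowers_of_ne_one hp ha (npow_mem_zpowers a j) h1
            rwa [← mem_powers_iff_mem_zpowers, Submonoid.mem_powers_iff] at this
        set m := e * i % p
        refine Finset.mem_image.2 ⟨m, Finset.mem_range.2 (Nat.mod_lt _ hp.pos), ?_⟩
        have hm : (a ^ m) ^ j = a ^ e := by
          have e1 : a ^ m = a ^ (e * i) := (pow_eq_pow_mod (e * i) ha).symm
          rw [e1, ← pow_mul, mul_assoc, mul_comm e, pow_mul, mul_comm i, pow_mul, hi]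
        obtain ⟨g, hg⟩ := hpow m j
        rw [hm] at hg
        refine (lineZ_eq (j := j) (f := g + f) hp (hexp m) (by rw [hg, pow_add, mul_assoc]) fun h1 => hxz ?_).symm
        · rw [hg, h1, one_mul, ← pow_add]
          exact npow_mem_zpowers z _
    refine (Finset.card_le_card hsub).trans ((Finset.card_insert_le _ _).trans ?_)
    exact Nat.succ_le_succ (Finset.card_image_le.trans (by simp))
  have hm : (S.image (lineZ z)).card ≤ p := by
    rcases Nat.lt_or_ge p (S.image (lineZ z)).card with hlt | hge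
    · exfalso
      have he : (S.image (lineZ z)).card = p + 1 := le_antisymm hle hlt
      rw [he] at hodd
      exact Nat.not_even_iff_odd.2 hodd (hp.odd_of_ne_two hp2).add_one
    · exact hge
  -- the fibres
  set T : Finset G := (Set.toFinite (conjSet W y)).toFinset
  have hT : T.card = Nat.card (conjSet W y) := by
    rw [Nat.card_coe_set_eq, Set.ncard_eq_toFinset_card]
  have hfib : ∀ L ∈ S.image (lineZ z), (S.filter fun x => lineZ z x = L).card ≤ p * T.card := by
    intro L hL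
    obtain ⟨x₀, hx₀, rfl⟩ := Finset.mem_image.1 hL
    obtain ⟨v, hv, rfl⟩ := (hS x₀).1 hx₀
    have hsub : (S.filter fun x => lineZ z x = lineZ z (v * y * v⁻¹)) ⊆
        (T ×ˢ Finset.range p).image fun q => v * (q.1 * z ^ q.2) * v⁻¹ := by
      intro x hx
      obtain ⟨hxS, hxL⟩ := Finset.mem_filter.1 hx
      have hxm : v⁻¹ * x * v ∈ lineZ z y := by
        have h1 : x ∈ MulAut.conj v • lineZ z y := by
          rw [smul_lineZ_eq (hzU v hv) (by simpa using hzU _ (inv_mem hv)), ← hxL]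
          exact mem_sup_left (mem_zpowers x)
        rwa [Coprime.mem_conj] at h1
      obtain ⟨n₁, hn₁, n₂, hn₂, hnn⟩ := (Coprime.mem_sup_iff (H := zpowers z) (N := zpowers y) (by
        refine le_trans ?_ (centralizer_le_normalizer _)
        rw [zpowers_le]
        exact mem_centralizer_iff.2 fun g hg => by
          obtain ⟨i, rfl⟩ := mem_zpowers_iff.1 hg
          exact (hyz.zpow_left i).eq)).1 hxm
      rw [← mem_powers_iff_mem_zpowers, Submonoid.mem_powers_iff] at hn₁ hn₂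
      obtain ⟨j, rfl⟩ := hn₁
      obtain ⟨f, rfl⟩ := hn₂
      have hmem : y ^ j * z ^ f ∈ conjSet U y := by
        obtain ⟨v', hv', hx'⟩ := (hS x).1 hxS
        refine ⟨v⁻¹ * v', mul_mem (inv_mem hv) hv', ?_⟩
        show v⁻¹ * v' * y * (v⁻¹ * v')⁻¹ = _
        rw [hnn, ← hx']; group
      refine Finset.mem_image.2 ⟨(y ^ j, f % p), Finset.mem_product.2
        ⟨(Set.Finite.mem_toFinset _).2 (hline j f hmem), Finset.mem_range.2 (Nat.mod_lt _ hp.pos)⟩, ?_⟩
      show v * (y ^ j * z ^ (f % p)) * v⁻¹ = x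
      rw [← pow_eq_pow_mod f hz, hnn]; group
    refine (Finset.card_le_card hsub).trans (Finset.card_image_le.trans (le_of_eq ?_))
    rw [Finset.card_product, Finset.card_range, mul_comm]
  have hfinal := Finset.card_le_mul_card_image S (p * T.card) hfib
  have hSc : S.card = Nat.card (conjSet U y) := by
    rw [Nat.card_coe_set_eq, Set.ncard_eq_toFinset_card]
  rw [← hSc, ← hT]
  calc S.card ≤ p * T.card * (S.image (lineZ z)).card := hfinal
    _ ≤ p * T.card * p := Nat.mul_le_mul_left _ hm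
    _ = p ^ 2 * T.card := by ring

/-- The subgroup of the elements of order dividing `p` of a critical subgroup of `O_p(U)`, with its centre. -/
structure CritData (p : ℕ) (t r : G) (D : Subgroup G) : Prop where
  le_coreU : D ≤ coreU t
  normalised : centralizer ({t} : Set G) ≤ normalizer (D : Set G)
  pow_eq_one : ∀ x ∈ D, x ^ p = 1
  comm_central : ∀ x ∈ D, ∀ y ∈ D, ∀ d ∈ D, Commute ⁅x, y⁆ d
  meets : ∃ y ∈ D, y ∈ coreW t r ∧ y ≠ 1

/-- A mixed prime gives such a subgroup. -/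
theorem Hyp.exists_critData (h : Hyp t r s) {p : ℕ} (hp : p.Prime) (hp2 : p ≠ 2) (hm : Mixed p t r) :
    ∃ D : Subgroup G, CritData p t r D := by
  haveI : Fact p.Prime := ⟨hp⟩
  set P := radU p t with hP
  have hPU : P ≤ coreU t := map_subtype_le _
  have hPp : IsPGroup p P := (Cores.isPGroup_pCore p (coreU t)).map _
  have hCP : centralizer ({t} : Set G) ≤ normalizer (P : Set G) :=
    (centralizer_le_normalizer_coreU t).trans (Cores.normalizer_le_normalizer_map _)
  obtain ⟨C₀, hC₀⟩ := PGroup.exists_critical hPp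
  haveI := hC₀.char
  have hcen : ∀ x ∈ C₀, ∀ y : P, ∀ d ∈ C₀, Commute ⁅x, y⁆ d := fun x hx y d hd =>
    (mem_centralizer_iff.1 (hC₀.comm_mem x hx y).2 d hd).symm
  let D₀ : Subgroup P :=
    { carrier := {x | x ∈ C₀ ∧ x ^ p = 1}
      one_mem' := ⟨one_mem _, one_pow p⟩
      mul_mem' := fun {x y} ⟨hx, hxp⟩ ⟨hy, hyp⟩ => ⟨mul_mem hx hy, by
        rw [PGroup.mul_pow_prime_eq hp hp2 (hcen y hy x x hx).symm (hcen y hy x y hy).symm, hxp, hyp, one_mul]
        rw [← PGroup.commutator_pow_left (hcen y hy x y hy).symm, hyp]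
        exact commutatorElement_eq_one_iff_commute.2 (Commute.one_left x)⟩
      inv_mem' := fun {x} ⟨hx, hxp⟩ => ⟨inv_mem hx, by rw [inv_pow, hxp, inv_one]⟩ }
  haveI : D₀.Characteristic := PGroup.characteristic_of_forall_mem fun φ x hx =>
    ⟨(PGroup.aut_mem_iff φ x).2 hx.1, by rw [← map_pow, hx.2, map_one]⟩
  set C := C₀.map P.subtype with hCdef
  have hCU : C ≤ coreU t := (map_subtype_le _).trans hPU
  refine ⟨D₀.map P.subtype, (map_subtype_le _).trans hPU, hCP.trans (Cores.normalizer_le_normalizer_map _),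
    ?_, ?_, ?_⟩
  · rintro _ ⟨x, hx, rfl⟩
    rw [← map_pow, hx.2, map_one]
  · rintro _ ⟨x, hx, rfl⟩ _ ⟨y, hy, rfl⟩ _ ⟨d, hd, rfl⟩
    rw [← map_commutatorElement]
    exact (hcen x hx.1 y d hd.1).map P.subtype
  by_cases hmeet : C ⊓ coreW t r = ⊥
  · exfalso
    have hCn : centralizer ({t} : Set G) ≤ normalizer (C : Set G) :=
      hCP.trans (Cores.normalizer_le_normalizer_map _)
    have hrC : r ∈ normalizer (C : Set G) := hCn (h.fourV_le_centralizer_t (right_mem_fourV t r))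
    obtain ⟨hinv, -⟩ := inverts_of_fpf h.order_r hrC fun x hx hf => mem_bot.1 (hmeet ▸ mem_inf.2 ⟨hx,
      hCU hx, mem_centralizer_singleton_iff.2 (mul_inv_eq_iff_eq_mul.1 hf).symm⟩)
    have hle : radComm p t r ≤ C := by
      refine (closure_le C).2 fun x hx => ⟨⟨x, hx.1⟩, hC₀.self_centralizing (mem_centralizer_iff.2 fun d hd => ?_), rfl⟩
      refine Subtype.ext ?_
      show (d : G) * x = x * (d : G)
      have hd2 : x * (d : G) * x⁻¹ ∈ C :=
        ⟨⟨x, hx.1⟩ * d * ⟨x, hx.1⟩⁻¹, Normal.conj_mem inferInstance d hd _, rfl⟩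
      have e1 := hinv _ hd2
      have e2 : r * (x * (d : G) * x⁻¹) * r⁻¹ = x⁻¹ * (d : G)⁻¹ * x := by
        rw [← _root_.conj_mul, ← _root_.conj_mul, ← conj_inv, hx.2, hinv (d : G) ⟨d, hd, rfl⟩, inv_inv]
      rw [e2] at e1
      refine (commute_of_sq (h.odd_orderOf (hPU hx.1)) ?_).symm.eq
      have e3 : x⁻¹ * (d : G) * x = x * (d : G) * x⁻¹ := by
        have := congrArg (·⁻¹) e1
        simpa [mul_assoc] using this
      rw [pow_two]
      calc x * x * (d : G) = x * (x * (d : G) * x⁻¹) * x := by group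
        _ = x * (x⁻¹ * (d : G) * x) * x := by rw [e3]
        _ = (d : G) * (x * x) := by group
    have heq : radComm p t r = C :=
      le_antisymm hle fun x hx => subset_closure ⟨map_subtype_le _ hx, hinv x hx⟩
    rcases hm with h1 | h1
    · exact h1 (le_bot_iff.1 (hmeet ▸ inf_le_inf_right _ hle))
    · exact h1 (heq ▸ hCn)
  · obtain ⟨⟨x, hx⟩, hx1'⟩ := ne_bot_iff_exists_ne_one.1 hmeet
    have hx1 : x ≠ 1 := fun e => hx1' (Subtype.ext e)
    obtain ⟨k, hk⟩ := hPp ⟨x, map_subtype_le _ hx.1⟩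
    have hpow : x ^ p ^ k = 1 := congrArg Subtype.val hk
    obtain ⟨i, hi, hord⟩ := (Nat.dvd_prime_pow hp).1 (orderOf_dvd_of_pow_eq_one hpow)
    have hi0 : i ≠ 0 := by
      rintro rfl
      exact hx1 (orderOf_eq_one_iff.1 (hord.trans (pow_zero p)))
    obtain ⟨c, hc, hcx⟩ := hx.1
    refine ⟨x ^ p ^ (i - 1), ⟨c ^ p ^ (i - 1), ⟨pow_mem hc _, Subtype.ext ?_⟩, ?_⟩,
      pow_mem hx.2 _, fun e => ?_⟩
    · show (((c ^ p ^ (i - 1)) ^ p : P) : G) = 1
      rw [← pow_mul, ← pow_succ, Nat.sub_add_cancel (Nat.pos_of_ne_zero hi0), ← hord]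
      push_cast
      rw [show (c : G) = x from hcx, pow_orderOf_eq_one]
    · rw [map_pow, show P.subtype c = x from hcx]
    · have := orderOf_dvd_of_pow_eq_one e
      rw [hord] at this
      exact absurd ((Nat.pow_dvd_pow_iff_le_right hp.one_lt).1 this) (by omega)

/-- The structure step of 2.2. -/
theorem Hyp.exists_extraShape (h : Hyp t r s) {p : ℕ} (hp : p.Prime) (hp2 : p ≠ 2)
    (hI : ExtraInputs p t r) (hm : Mixed p t r) : ∃ y z : G, ExtraShape p t r y z := by
  classical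
  haveI : Fact p.Prime := ⟨hp⟩
  obtain ⟨D, hD⟩ := h.exists_critData hp hp2 hm
  obtain ⟨y, hyD, hyW, hy1⟩ := hD.meets
  have hpow := hD.pow_eq_one
  have hyo : orderOf y = p := orderOf_eq_of_pow_prime hp (hpow y hyD) hy1
  have hodd : ∀ d ∈ D, Odd (orderOf d) := fun d hd => h.odd_orderOf (hD.le_coreU hd)
  have hrD : r ∈ normalizer (D : Set G) := hD.normalised (h.fourV_le_centralizer_t (right_mem_fourV t r))
  have hUD : coreU t ≤ normalizer (D : Set G) := (coreU_le_centralizer t).trans hD.normalised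
  -- the centre
  set Z : Subgroup G := D ⊓ centralizer (D : Set G) with hZdef
  have hZn : centralizer ({t} : Set G) ≤ normalizer (Z : Set G) := by
    intro g hg
    refine Coprime.mem_normalizer_of_forall fun x hx => ?_
    have hgD := mem_normalizer_iff.1 (hD.normalised hg)
    refine mem_inf.2 ⟨(hgD x).1 hx.1, mem_centralizer_iff.2 fun d hd => ?_⟩
    have hd' : g⁻¹ * d * g ∈ D := by
      have h2 := (hgD (g⁻¹ * d * g)).2
      exact h2 (by simpa [mul_assoc] using hd)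
    have e := mem_centralizer_iff.1 hx.2 _ hd'
    calc d * (g * x * g⁻¹) = g * (g⁻¹ * d * g * x) * g⁻¹ := by group
      _ = g * (x * (g⁻¹ * d * g)) * g⁻¹ := by rw [e]
      _ = g * x * g⁻¹ * d := by group
  have hZW : Z ⊓ coreW t r = ⊥ := by
    refine hI.ab Z ⟨⟨⟨fun a b => Subtype.ext ?_⟩⟩, fun a ha => hpow a ha.1⟩ (inf_le_left.trans hD.le_coreU) hZn
    exact (mem_centralizer_iff.1 a.2.2 b b.2.1).symm
  have hZinv : ∀ x ∈ Z, InvElt t r x := fun x hx => ⟨commute_of_mem_coreU (hD.le_coreU hx.1),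
    (inverts_of_fpf h.order_r (hZn (h.fourV_le_centralizer_t (right_mem_fourV t r))) fun d hd hf =>
      mem_bot.1 (hZW ▸ mem_inf.2 ⟨hd, hD.le_coreU hd.1,
        mem_centralizer_singleton_iff.2 (mul_inv_eq_iff_eq_mul.1 hf).symm⟩)).1 x hx⟩
  have hcomm : ∀ a ∈ D, ∀ b ∈ D, ⁅a, b⁆ ∈ Z := fun a ha b hb =>
    mem_inf.2 ⟨by
      rw [commutatorElement_def]
      exact mul_mem (mul_mem (mul_mem ha hb) (inv_mem ha)) (inv_mem hb),
      mem_centralizer_iff.2 fun d hd => (hD.comm_central a ha b hb d hd).eq.symm⟩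
  have hnotab : ¬ ∀ a ∈ D, ∀ b ∈ D, Commute a b := fun hab => hy1 (mem_bot.1 (hZW ▸
    mem_inf.2 ⟨mem_inf.2 ⟨hyD, mem_centralizer_iff.2 fun d hd => (hab d hd y hyD).eq⟩, hyW⟩))
  obtain ⟨z, hzZ, hz1⟩ : ∃ z ∈ Z, z ≠ 1 := by
    by_contra! hc
    exact hnotab fun a ha b hb => commutatorElement_eq_one_iff_commute.1 (hc _ (hcomm a ha b hb))
  have hzo : orderOf z = p := orderOf_eq_of_pow_prime hp (hpow z hzZ.1) hz1
  have hcz : ∀ d ∈ D, Commute d z := fun d hd => mem_centralizer_iff.1 hzZ.2 d hd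
  have hZz : ∀ x ∈ Z, x ∈ zpowers z := fun x hx => by
    rcases eq_or_ne x 1 with rfl | hx1
    · exact one_mem _
    exact hI.inv_eq y hyW hyo z x hzo (orderOf_eq_of_pow_prime hp (hpow x hx.1) hx1) (hZinv z hzZ)
      (hZinv x hx) (hcz x hx.1).symm (hcz y hyD).symm (mem_centralizer_iff.1 hx.2 y hyD).symm
  have hzZ' : zpowers z = Z := le_antisymm (zpowers_le.2 hzZ) hZz
  -- fixed and inverted elements commute among themselves
  have hsame : ∀ a ∈ D, ∀ b ∈ D, r * ⁅a, b⁆ * r⁻¹ = ⁅a, b⁆ → Commute a b := fun a ha b hb hf =>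
    commutatorElement_eq_one_iff_commute.1 (eq_one_of_fixed_inverted (hodd _ (hcomm a ha b hb).1) hf
      (hZinv _ (hcomm a ha b hb)).2)
  have hIab : ∀ a ∈ D, ∀ b ∈ D, InvElt t r a → InvElt t r b → Commute a b := fun a ha b hb hai hbi => by
    refine hsame a ha b hb ?_
    have e : r * ⁅a, b⁆ * r⁻¹ = ⁅a⁻¹, b⁻¹⁆ := by
      rw [commutatorElement_def, ← _root_.conj_mul, ← _root_.conj_mul, ← _root_.conj_mul, ← conj_inv, ← conj_inv, hai.2, hbi.2,
        commutatorElement_def]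
    have hc : Commute (b * a) ⁅a, b⁆ := ((hD.comm_central a ha b hb b hb).mul_right
      (hD.comm_central a ha b hb a ha)).symm
    rw [e]
    calc ⁅a⁻¹, b⁻¹⁆ = (b * a)⁻¹ * (⁅a, b⁆ * (b * a)) := by rw [commutatorElement_def, commutatorElement_def]; group
      _ = (b * a)⁻¹ * ((b * a) * ⁅a, b⁆) := by rw [hc.eq]
      _ = ⁅a, b⁆ := inv_mul_cancel_left _ _
  have hWab : ∀ a ∈ D, ∀ b ∈ D, a ∈ coreW t r → b ∈ coreW t r → Commute a b := fun a ha b hb haW hbW => by
    refine hsame a ha b hb (conj_eq_of_commute (h.mem_coreW.1 ?_).2.1)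
    rw [commutatorElement_def]
    exact mul_mem (mul_mem (mul_mem haW hbW) (inv_mem haW)) (inv_mem hbW)
  have hdec : ∀ x ∈ D, ∃ w ∈ D, w ∈ coreW t r ∧ ∃ n ∈ D, InvElt t r n ∧ x = w * n := fun x hx =>
    h.exists_mul_invElt hD.le_coreU (fun d hd => (mem_normalizer_iff.1 hrD d).1 hd) hx
  -- an inverted element outside the centre
  obtain ⟨a, haD, hai, haz⟩ : ∃ a ∈ D, InvElt t r a ∧ a ∉ zpowers z := by
    by_contra! hc
    refine hnotab fun a ha b hb => ?_
    obtain ⟨w, hwD, hwW, n, hnD, hn, rfl⟩ := hdec a ha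
    obtain ⟨w', hw'D, hw'W, n', hn'D, hn', rfl⟩ := hdec b hb
    have hnZ : ∀ d ∈ D, Commute n d := fun d hd =>
      (mem_centralizer_iff.1 (hzZ' ▸ hc n hnD hn : n ∈ Z).2 d hd).symm
    have hn'Z : ∀ d ∈ D, Commute n' d := fun d hd =>
      (mem_centralizer_iff.1 (hzZ' ▸ hc n' hn'D hn' : n' ∈ Z).2 d hd).symm
    exact ((hWab w hwD w' hw'D hwW hw'W).mul_left (hnZ w' hw'D)).mul_right
      (((hn'Z w hwD).symm).mul_left (hnZ n' hn'D))
  have ha1 : a ≠ 1 := fun e => haz (e ▸ one_mem _)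
  have hao : orderOf a = p := orderOf_eq_of_pow_prime hp (hpow a haD) ha1
  -- no element of order `p` of `W` centralises `a` and `z`
  have hkey : ∀ v ∈ coreW t r, v ^ p = 1 → Commute v a → Commute v z → v = 1 := fun v hv hvp hva hvz => by
    by_contra hv1
    exact haz (hI.inv_eq v hv (orderOf_eq_of_pow_prime hp hvp hv1) z a hzo hao (hZinv z hzZ) hai
      (hcz a haD).symm hvz.symm hva.symm)
  have hnat : ∀ x, x ∈ zpowers z → ∃ k : ℕ, z ^ k = x := fun x hx => by
    rwa [← mem_powers_iff_mem_zpowers, Submonoid.mem_powers_iff] at hx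
  obtain ⟨k, hk⟩ := hnat _ (hZz _ (hcomm y hyD a haD))
  have hk' : y * a * y⁻¹ = z ^ k * a := by rw [hk, commutatorElement_def]; group
  have hk1 : z ^ k ≠ 1 := fun e => hy1 (hkey y hyW (hpow y hyD)
    (mul_inv_eq_iff_eq_mul.1 (by rw [hk', e, one_mul])) (hcz y hyD))
  have hgen : ∀ x ∈ zpowers z, ∃ m : ℕ, (z ^ k) ^ m = x := fun x hx => by
    have := (zpowers_le.2 (mem_zpowers_of_ne_one hp (hpow z hzZ.1) (npow_mem_zpowers z k) hk1)) hx
    rwa [← mem_powers_iff_mem_zpowers, Submonoid.mem_powers_iff] at this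
  have hpows : ∀ m j : ℕ, y ^ j * a ^ m * (y ^ j)⁻¹ = z ^ (k * m * j) * a ^ m := by
    intro m j
    induction j with
    | zero => simp
    | succ j ih =>
      calc y ^ (j + 1) * a ^ m * (y ^ (j + 1))⁻¹ = y * (y ^ j * a ^ m * (y ^ j)⁻¹) * y⁻¹ := by
            rw [pow_succ']; group
        _ = (y * z ^ (k * m * j) * y⁻¹) * (y * a * y⁻¹) ^ m := by rw [ih, ← _root_.conj_mul, conj_pow]
        _ = z ^ (k * m * j) * (z ^ (k * m) * a ^ m) := by
            rw [hk', ((hcz a haD).symm.pow_left k).mul_pow, ← pow_mul,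
              (((hcz y hyD).pow_right _)).eq, mul_inv_cancel_right]
        _ = z ^ (k * m * (j + 1)) * a ^ m := by rw [← mul_assoc, ← pow_add, Nat.mul_succ]
  -- the shape of `D`
  have hDI : ∀ n ∈ D, InvElt t r n → ∃ e f : ℕ, n = a ^ e * z ^ f := by
    intro n hnD hn
    obtain ⟨e, he⟩ := hgen _ (hZz _ (hcomm y hyD n hnD))
    have hvD : n * (a ^ e)⁻¹ ∈ D := mul_mem hnD (inv_mem (pow_mem haD e))
    have hv : InvElt t r (n * (a ^ e)⁻¹) := hn.mul (hai.pow e).inv ((hIab n hnD a haD hn hai).pow_right e).inv_right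
    have hyv : Commute y (n * (a ^ e)⁻¹) := by
      refine mul_inv_eq_iff_eq_mul.1 ?_
      have h1 : y * a ^ e * y⁻¹ = z ^ (k * e) * a ^ e := by simpa using hpows e 1
      have h2 : y * n * y⁻¹ = z ^ (k * e) * n := by rw [pow_mul, he, commutatorElement_def]; group
      rw [← _root_.conj_mul, ← conj_inv, h1, h2, mul_inv_rev,
        show z ^ (k * e) * n * ((a ^ e)⁻¹ * (z ^ (k * e))⁻¹) = z ^ (k * e) * (n * (a ^ e)⁻¹) * (z ^ (k * e))⁻¹ by group,
        ((hcz _ hvD).symm.pow_left _).eq, mul_inv_cancel_right]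
    have hvz : n * (a ^ e)⁻¹ ∈ zpowers z := by
      rcases eq_or_ne (n * (a ^ e)⁻¹) 1 with e1 | hv1
      · rw [e1]; exact one_mem _
      exact hI.inv_eq y hyW hyo z _ hzo (orderOf_eq_of_pow_prime hp (hpow _ hvD) hv1) (hZinv z hzZ) hv
        (hcz _ hvD).symm (hcz y hyD).symm hyv.symm
    obtain ⟨f, hf⟩ := hnat _ hvz
    refine ⟨e, f, ?_⟩
    rw [← ((hcz a haD).symm.pow_pow f e).eq, hf, inv_mul_cancel_right]
  have hDW : ∀ x ∈ D, x ∈ coreW t r → x ∈ zpowers y := by
    intro x hxD hxW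
    obtain ⟨e, he⟩ := hgen _ (hZz _ (hcomm x hxD a haD))
    have hv : (y ^ e)⁻¹ * x = 1 := by
      refine hkey _ (mul_mem (inv_mem (pow_mem hyW e)) hxW) (hpow _ (mul_mem (inv_mem (pow_mem hyD e)) hxD)) ?_
        (hcz _ (mul_mem (inv_mem (pow_mem hyD e)) hxD))
      have hx' : x * a * x⁻¹ = z ^ (k * e) * a := by rw [pow_mul, he, commutatorElement_def]; group
      have h1 : y ^ e * a * (y ^ e)⁻¹ = z ^ (k * e) * a := by simpa using hpows 1 e
      refine mul_inv_eq_iff_eq_mul.1 ?_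
      calc (y ^ e)⁻¹ * x * a * ((y ^ e)⁻¹ * x)⁻¹ = (y ^ e)⁻¹ * (x * a * x⁻¹) * y ^ e := by group
        _ = (y ^ e)⁻¹ * (y ^ e * a * (y ^ e)⁻¹) * y ^ e := by rw [hx', h1]
        _ = a := by group
    rw [show x = y ^ e from (inv_mul_eq_one.1 hv).symm]
    exact npow_mem_zpowers y e
  have hUz : ∀ v ∈ coreU t, v * z * v⁻¹ ∈ zpowers z := fun v hv =>
    hzZ' ▸ (mem_normalizer_iff.1 (hZn (coreU_le_centralizer t hv)) z).1 hzZ
  have huniq : ∀ w ∈ coreW t r, w ^ p = 1 → w ∈ zpowers y := by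
    intro w hw hwp
    have hwD := mem_normalizer_iff.1 (hUD hw.1)
    have hwz : Commute w z := commute_of_conj_mem_zpowers hp hwp (hpow z hzZ.1) (hUz w hw.1)
    have hwy : Commute w y := commute_of_conj_mem_zpowers hp hwp (hpow y hyD)
      (hDW _ ((hwD y).1 hyD) (mul_mem (mul_mem hw hyW) (inv_mem hw)))
    obtain ⟨e, f, hef⟩ := hDI _ ((hwD a).1 haD) (hai.conj_of_coreW hw)
    have hiter : ∀ i : ℕ, ∃ f' : ℕ, w ^ i * a * (w ^ i)⁻¹ = a ^ (e ^ i) * z ^ f' := by
      intro i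
      induction i with
      | zero => exact ⟨0, by simp⟩
      | succ i ih =>
        obtain ⟨f', hf'⟩ := ih
        refine ⟨f * e ^ i + f', ?_⟩
        calc w ^ (i + 1) * a * (w ^ (i + 1))⁻¹ = w * (w ^ i * a * (w ^ i)⁻¹) * w⁻¹ := by rw [pow_succ']; group
          _ = (w * a * w⁻¹) ^ (e ^ i) * (w * z ^ f' * w⁻¹) := by rw [hf', ← _root_.conj_mul, conj_pow]
          _ = a ^ (e ^ (i + 1)) * z ^ (f * e ^ i + f') := by
              rw [hef, ((hcz a haD).pow_pow e f).mul_pow, ← pow_mul, ← pow_mul, (hwz.pow_right f').eq,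
                mul_inv_cancel_right, pow_succ', pow_add, mul_assoc]
    have he1 : (e : ZMod p) = 1 := by
      obtain ⟨f', hf'⟩ := hiter p
      rw [hwp] at hf'
      simp only [one_mul, inv_one, mul_one] at hf'
      have h1 : (a ^ (e ^ p))⁻¹ * a ∈ zpowers z := by
        rw [inv_mul_eq_iff_eq_mul.2 hf']
        exact npow_mem_zpowers z f'
      have h2 : (a ^ (e ^ p))⁻¹ * a = a ^ ((1 : ℤ) - (e ^ p : ℕ)) := by
        rw [zpow_sub, zpow_one, zpow_natCast]
        exact ((Commute.refl a).pow_left _).inv_left.eq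
      rw [h2] at h1
      have h3 : a ^ ((1 : ℤ) - (e ^ p : ℕ)) = 1 := by
        by_contra hne
        refine haz ((zpowers_le.2 h1) (mem_zpowers_of_ne_one hp (hpow a haD) (zpow_mem_zpowers a _) hne))
      have h4 : ((1 : ℤ) - (e ^ p : ℕ) : ZMod p) = 0 := by
        have := orderOf_dvd_iff_zpow_eq_one.2 h3
        rw [hao] at this
        exact_mod_cast (ZMod.intCast_zmod_eq_zero_iff_dvd _ _).2 this
      push_cast at h4
      rw [ZMod.pow_card] at h4
      exact (sub_eq_zero.1 h4).symm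
    have hea : a ^ e = a := by
      conv_rhs => rw [← pow_one a]
      rw [pow_inj_mod, hao]
      exact (ZMod.natCast_eq_natCast_iff' _ _ _).1 (by rw [he1, Nat.cast_one])
    rw [hea] at hef
    obtain ⟨j, hj⟩ := hgen _ (npow_mem_zpowers z f)
    have hy' : y ^ j * a * (y ^ j)⁻¹ = w * a * w⁻¹ := by
      rw [hef, ← hj, ← pow_mul, ((hcz a haD).pow_right _).eq]
      simpa using hpows 1 j
    have hv : (y ^ j)⁻¹ * w = 1 := by
      refine hkey _ (mul_mem (inv_mem (pow_mem hyW j)) hw) ?_ ?_ (((hcz y hyD).pow_left j).inv_left.mul_left hwz)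
      · rw [((hwy.symm.pow_left j).inv_left).mul_pow, hwp, inv_pow, ← pow_mul, mul_comm, pow_mul, hpow y hyD]
        simp
      · refine mul_inv_eq_iff_eq_mul.1 ?_
        calc (y ^ j)⁻¹ * w * a * ((y ^ j)⁻¹ * w)⁻¹ = (y ^ j)⁻¹ * (w * a * w⁻¹) * y ^ j := by group
          _ = (y ^ j)⁻¹ * (y ^ j * a * (y ^ j)⁻¹) * y ^ j := by rw [hy']
          _ = a := by group
    rw [show w = y ^ j from (inv_mul_eq_one.1 hv).symm]
    exact npow_mem_zpowers y j
  -- conjugating `y` by powers of `a`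
  have hmove : ∀ b : ℕ, ∃ d, d * y * d⁻¹ = y * z ^ b ∧ Commute d z := by
    intro b
    obtain ⟨i, hi⟩ := hgen _ (npow_mem_zpowers z b)
    refine ⟨(a ^ i)⁻¹, ?_, ((hcz a haD).pow_left i).inv_left⟩
    have h1 : y * a ^ i * y⁻¹ = z ^ (k * i) * a ^ i := by simpa using hpows i 1
    calc (a ^ i)⁻¹ * y * (a ^ i)⁻¹⁻¹ = (a ^ i)⁻¹ * (y * a ^ i * y⁻¹) * y := by group
      _ = z ^ (k * i) * y := by
        rw [h1, (((hcz a haD).pow_left i).pow_right (k * i)).symm.eq]; group
      _ = y * z ^ b := by rw [pow_mul, hi, ((hcz y hyD).pow_right b).eq]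
  refine ⟨y, z, hyW, hyo, hZinv z hzZ, hzo, hcz y hyD, hmove, huniq, ?_⟩
  refine card_conjSet_le hp hp2 h.odd_coreU (a := a) (hpow y hyD) (hpow z hzZ.1) (hpow a haD) (hcz y hyD) (hcz a haD)
    hUz ?_ ?_ ?_ ⟨k, hk'⟩ fun m => hpow _ (mul_mem hyD (pow_mem haD m))
  · rintro _ ⟨v, hv, rfl⟩
    obtain ⟨w, hwD, hwW, n, hnD, hn, he⟩ := hdec _ ((mem_normalizer_iff.1 (hUD hv) y).1 hyD)
    obtain ⟨e, f, rfl⟩ := hDI n hnD hn
    have := hDW w hwD hwW
    rw [← mem_powers_iff_mem_zpowers, Submonoid.mem_powers_iff] at this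
    obtain ⟨j, rfl⟩ := this
    exact ⟨j, e, f, by rw [mul_assoc]; exact he⟩
  · rintro _ ⟨v, hv, rfl⟩ hmem
    refine hy1 (mem_bot.1 (hZW ▸ mem_inf.2 ⟨?_, hyW⟩))
    have h1 := (mem_normalizer_iff.1 (hZn (coreU_le_centralizer t hv)) y).2 (hzZ' ▸ hmem)
    exact h1
  · intro j f hmem
    obtain ⟨v, hv, hvy⟩ := hmem
    have hjz : y ^ j ≠ 1 := by
      intro e
      refine hy1 (mem_bot.1 (hZW ▸ mem_inf.2 ⟨?_, hyW⟩))
      refine (mem_normalizer_iff.1 (hZn (coreU_le_centralizer t hv)) y).2 ?_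
      rw [show v * y * v⁻¹ = z ^ f from hvy.trans (by rw [e, one_mul])]
      exact pow_mem hzZ f
    -- `y ^ j * z ^ f` is conjugate to `y ^ j` by a power of `a`
    obtain ⟨i, hi⟩ : ∃ i : ℕ, (z ^ j) ^ i = z ^ f := by
      have hzj : z ^ j ≠ 1 := fun e => hjz (orderOf_dvd_iff_pow_eq_one.1
        (hyo ▸ hzo ▸ orderOf_dvd_of_pow_eq_one e))
      have := (zpowers_le.2 (mem_zpowers_of_ne_one hp (hpow z hzZ.1) (npow_mem_zpowers z j) hzj))
        (npow_mem_zpowers z f)
      rwa [← mem_powers_iff_mem_zpowers, Submonoid.mem_powers_iff] at this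
    obtain ⟨i', hi'⟩ := hgen _ (npow_mem_zpowers z i)
    have hd : (a ^ i')⁻¹ * y ^ j * (a ^ i')⁻¹⁻¹ = y ^ j * z ^ f := by
      have h1 := hpows i' j
      calc (a ^ i')⁻¹ * y ^ j * (a ^ i')⁻¹⁻¹ = (a ^ i')⁻¹ * (y ^ j * a ^ i' * (y ^ j)⁻¹) * y ^ j := by group
        _ = z ^ (k * i' * j) * y ^ j := by
          rw [h1, (((hcz a haD).pow_left i').pow_right (k * i' * j)).symm.eq]; group
        _ = y ^ j * z ^ f := by
          rw [pow_mul, pow_mul, hi', ← pow_mul, mul_comm i, pow_mul, hi, ((hcz y hyD).pow_pow j f).eq]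
    obtain ⟨w, hw, hwy⟩ := h.conj_mem_coreW hyW (pow_mem hyW j)
      (u := a ^ i' * v) (mul_mem (pow_mem (hD.le_coreU haD) i') hv) (by
        calc a ^ i' * v * y * (a ^ i' * v)⁻¹ = a ^ i' * (v * y * v⁻¹) * (a ^ i')⁻¹ := by group
          _ = a ^ i' * ((a ^ i')⁻¹ * y ^ j * (a ^ i')⁻¹⁻¹) * (a ^ i')⁻¹ := by rw [show v * y * v⁻¹ = y ^ j * z ^ f from hvy, hd]
          _ = y ^ j := by group)
    exact ⟨w, hw, hwy⟩

end Cfsg.Agent.GWKlein
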