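import Cfsg.Agent.Lib.GWKlein.General.ExtraShape
import Cfsg.Agent.Lib.GWKlein.General.Count
import Cfsg.Agent.Lib.GWKlein.General.AbelianLarge
import Mathlib.GroupTheory.Transfer

/-!
# Gorenstein-Walter, Klein general case: no prime is mixed (GENERAL.md 2.2)

With `y, z` as in `ExtraShape`, the two-step walk `y → y₁ → y''` (neighbours commute) reaches at least
`(p - 1)² 6 p² p² l` different conjugates of `y`, against the order formulas.
-/

set_option autoImplicit false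

namespace Cfsg.Agent.GWKlein

open Subgroup
open scoped Pointwise

universe u

variable {G : Type u} [Group G] [Finite G] {t r s : G}

/-- A group generated by elements of odd order has no Sylow 2-subgroup of order two. -/
theorem false_of_card_sylow_two {H : Type*} [Group H] [Finite H] (S : Set H) (hS : ∀ a ∈ S, Odd (orderOf a))
    (htop : closure S = ⊤) (T : Sylow 2 H) (h2 : Nat.card (T : Subgroup H) = 2) : False := by
  haveI : Fact (Nat.Prime 2) := ⟨Nat.prime_two⟩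
  have hC : normalizer ((T : Subgroup H) : Set H) ≤ centralizer ((T : Subgroup H) : Set H) := by
    intro g hg
    refine mem_centralizer_iff.2 fun x hx => ?_
    by_cases hx1 : x = 1
    · simp [hx1]
    have hgx := (mem_normalizer_iff.1 hg x).1 hx
    have hxy : g * x * g⁻¹ = x := by
      obtain ⟨o, -, ho⟩ := (Nat.card_eq_two_iff' (1 : (T : Subgroup H))).1 h2
      have e1 := ho ⟨_, hgx⟩ fun e => hx1 (conj_eq_one_iff.1 (congrArg Subtype.val e))
      have e2 := ho ⟨x, hx⟩ fun e => hx1 (congrArg Subtype.val e)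
      exact congrArg Subtype.val (e1.trans e2.symm)
    exact (mul_inv_eq_iff_eq_mul.1 hxy).symm
  have hker : (MonoidHom.transferSylow T hC).ker = ⊤ := by
    rw [eq_top_iff, ← htop, closure_le]
    intro a ha
    obtain ⟨i, hi⟩ := T.isPGroup' (MonoidHom.transferSylow T hC a)
    exact MonoidHom.mem_ker.2 (orderOf_eq_one_iff.1 (Nat.eq_one_of_dvd_coprimes
      ((Nat.coprime_two_left.2 (hS a ha)).pow_left i) (orderOf_dvd_of_pow_eq_one hi) (orderOf_map_dvd _ _)))
  have hcomp := (MonoidHom.ker_transferSylow_isComplement' T hC).disjoint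
  rw [hker, top_disjoint] at hcomp
  rw [hcomp, card_bot] at h2
  omega

/-- A subgroup of even order generated by elements of odd order contains a four-group, so the elements of odd
order centralising it lie in one conjugate of `W`. -/
theorem Hyp.exists_conj_mem_coreW (h : Hyp t r s) (S : Set G) (hS : ∀ a ∈ S, Odd (orderOf a))
    (heven : Even (Nat.card (closure S))) :
    ∃ k : G, ∀ x : G, Odd (orderOf x) → (∀ a ∈ S, Commute x a) → k⁻¹ * x * k ∈ coreW t r := by
  haveI : Fact (Nat.Prime 2) := ⟨Nat.prime_two⟩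
  obtain ⟨P, hP⟩ := h.sylow
  set T : Sylow 2 (closure S) := default
  have hTp : IsPGroup 2 ((T : Subgroup (closure S)).map (closure S).subtype) := T.isPGroup'.map _
  obtain ⟨Q, hQ⟩ := hTp.exists_le_sylow
  have hQ4 : Nat.card (Q : Subgroup G) = 4 := by
    rw [Nat.card_congr (Sylow.equiv Q P).toEquiv, hP, h.card_fourV]
  have hT : (2 : ℕ) ∣ Nat.card (T : Subgroup (closure S)) :=
    T.dvd_card_of_dvd_card (even_iff_two_dvd.1 heven)
  have hTd : Nat.card (T : Subgroup (closure S)) ∣ 4 := by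
    have := card_dvd_of_le hQ
    rwa [Cores.card_map_subtype, hQ4] at this
  have h4 : Nat.card (T : Subgroup (closure S)) = 4 := by
    have := Nat.le_of_dvd (by norm_num) hTd
    have hpos : 0 < Nat.card (T : Subgroup (closure S)) := Nat.card_pos
    by_contra hne
    have h2 : Nat.card (T : Subgroup (closure S)) = 2 := by
      interval_cases Nat.card (T : Subgroup (closure S)) <;> omega
    exact false_of_card_sylow_two {x : closure S | (x : G) ∈ S}
      (fun a ha => by rw [← orderOf_coe]; exact hS _ ha) (closure_closure_coe_preimage (k := S)) T h2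
  have hTQ : (T : Subgroup (closure S)).map (closure S).subtype = Q :=
    eq_of_le_of_card_ge hQ (by rw [hQ4, Cores.card_map_subtype, h4])
  obtain ⟨k, hk⟩ := MulAction.exists_smul_eq G P Q
  refine ⟨k, fun x hx hc => h.mem_coreW_of_odd (mem_centralizer_iff.2 fun v hv => ?_) ?_⟩
  · have hvQ : k * v * k⁻¹ ∈ (Q : Subgroup G) := by
      rw [← hk]
      exact ⟨v, by rw [hP]; exact hv, rfl⟩
    rw [← hTQ] at hvQ
    have hxc : x ∈ centralizer ((closure S : Subgroup G) : Set G) := by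
      rw [centralizer_closure]
      exact mem_centralizer_iff.2 fun a ha => (hc a ha).eq.symm
    have e := mem_centralizer_iff.1 hxc _ (map_subtype_le _ hvQ)
    calc v * (k⁻¹ * x * k) = k⁻¹ * (k * v * k⁻¹ * x) * k := by group
      _ = k⁻¹ * (x * (k * v * k⁻¹)) * k := by rw [e]
      _ = k⁻¹ * x * k * v := by group
  · have := Involution.orderOf_conj k⁻¹ x
    rw [inv_inv] at this
    rwa [this]

/-- **No prime is mixed**, from the earlier results. -/
theorem Hyp.not_mixed_of_inputs (h : Hyp t r s) {p : ℕ} (hp : p.Prime) (hp2 : p ≠ 2) (hF : OrderFormula t r)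
    (hI : ExtraInputs p t r)
    (hl : ∀ y ∈ coreW t r, orderOf y = p → ∀ z ∈ centralizer ({y} : Set G), InvElt t r z → orderOf z = p →
      ∃ n Q, L2Local t r (centralizer ({y} : Set G)) n Q ∧ p ∣ n ∧ z ∉ oddPart (centralizer ({y} : Set G))) :
    ¬ Mixed p t r := by
  classical
  intro hm
  haveI : Fact p.Prime := ⟨hp⟩
  obtain ⟨y, z, hS⟩ := h.exists_extraShape hp hp2 hI hm
  have hyz := hS.comm
  have hzC : z ∈ centralizer ({y} : Set G) := mem_centralizer_singleton_iff.2 hyz.symm.eq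
  obtain ⟨n, Q, hL, hpn, hzO⟩ := hl y hS.mem_y hS.order_y z hzC hS.inv_z hS.order_z
  have hpodd := hp.odd_of_ne_two hp2
  have hyp : y ^ p = 1 := hS.order_y ▸ pow_orderOf_eq_one y
  have hzp : z ^ p = 1 := hS.order_z ▸ pow_orderOf_eq_one z
  have hy1 : y ≠ 1 := fun e => hp.ne_one (by rw [← hS.order_y, e, orderOf_one])
  set C := centralizer ({y} : Set G) with hC
  set O := oddPart C with hO
  have hyC : ∀ g ∈ C, Commute g y := fun g hg => mem_centralizer_singleton_iff.1 hg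
  have hOn : ∀ g ∈ C, ∀ x, x ∈ O ↔ g * x * g⁻¹ ∈ O := fun g hg x =>
    mem_normalizer_iff.1 (le_normalizer_oddPart C hg) x
  have hyO : zpowers y ≤ O := zpowers_le.2 (mem_oddPart_centralizer (hS.order_y ▸ hpodd))
  -- only the trivial power of `z` is in the core
  have hzero : ∀ x ∈ zpowers z, x ∈ O → x = 1 := fun x hx hxO => by
    by_contra hx1
    exact hzO ((zpowers_le.2 hxO) (mem_zpowers_of_ne_one hp hzp hx hx1))
  have hsep : ∀ g ∈ C, ∀ a b : ℕ, (g * z ^ a * g⁻¹)⁻¹ * (g * z ^ b * g⁻¹) ∈ O → z ^ a = z ^ b := by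
    intro g hg a b hmem
    refine inv_mul_eq_one.1 (hzero _ (mul_mem (inv_mem (npow_mem_zpowers z a)) (npow_mem_zpowers z b)) ?_)
    rw [hOn g hg]
    simpa [mul_assoc] using hmem
  choose d hd hdz using hS.move
  -- the two finite sets of tori
  obtain ⟨S, hSC, hScard, hStori⟩ := hL.tori z hzC p hp hzp hS.inv_z hzO
  obtain ⟨S', hS'C, hS'card, hS'even, hS'tori⟩ := hL.good z hzC p hp hzp hS.inv_z hzO
  set A := Finset.Icc 1 (p - 1) with hA
  have hAp : ∀ a ∈ A, ¬ p ∣ a := fun a ha hd => by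
    rw [hA, Finset.mem_Icc] at ha
    have := Nat.le_of_dvd (by omega) hd
    omega
  have hAinj : ∀ a ∈ A, ∀ b ∈ A, z ^ a = z ^ b → a = b := fun a ha b hb e => by
    rw [hA, Finset.mem_Icc] at ha hb
    rw [pow_inj_mod, hS.order_z, Nat.mod_eq_of_lt (by omega), Nat.mod_eq_of_lt (by omega)] at e
    exact e
  set T : Finset G := (Set.toFinite (conjSet (coreW t r) y)).toFinset
  have hTy : ∀ x ∈ T, x ∈ zpowers y ∧ x ≠ 1 ∧ IsConj y x := fun x hx => by
    obtain ⟨w, hw, rfl⟩ := (Set.Finite.mem_toFinset _).1 hx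
    refine ⟨hS.unique _ (mul_mem (mul_mem hw hS.mem_y) (inv_mem hw)) ?_, fun e => hy1 ?_, isConj_iff.2 ⟨w, rfl⟩⟩
    · show (w * y * w⁻¹) ^ p = 1
      rw [conj_pow, hyp, mul_one, mul_inv_cancel]
    · exact conj_eq_one_iff.1 e
  have hxC : ∀ x ∈ T, ∀ g ∈ C, Commute g x := fun x hx g hg => by
    obtain ⟨i, rfl⟩ := mem_zpowers_iff.1 (hTy x hx).1
    exact (hyC g hg).zpow_right i
  -- the walk
  set gg : G × ℕ → G := fun q => q.1 * d q.2 * q.1⁻¹ with hgg
  set y₁ : G × ℕ → G := fun q => y * (q.1 * z ^ q.2 * q.1⁻¹) with hy₁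
  set ww : (G × ℕ) → (G × ℕ) × G → G :=
    fun q q' => q'.2 * (q.1 * q'.1.1 * z ^ q'.1.2 * (q.1 * q'.1.1)⁻¹) with hww
  set f : (G × ℕ) × ((G × ℕ) × G) → G := fun q => gg q.1 * ww q.1 q.2 * (gg q.1)⁻¹ with hf
  have hconj₁ : ∀ q : G × ℕ, q.1 ∈ C → gg q * y * (gg q)⁻¹ = y₁ q := by
    rintro ⟨g, a⟩ hg
    calc g * d a * g⁻¹ * y * (g * d a * g⁻¹)⁻¹
        = g * (d a * (g⁻¹ * (y * g)) * (d a)⁻¹) * g⁻¹ := by group
      _ = g * (y * z ^ a) * g⁻¹ := by rw [← (hyC g hg).eq, inv_mul_cancel_left, hd a]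
      _ = g * y * z ^ a * g⁻¹ := by group
      _ = y * g * z ^ a * g⁻¹ := by rw [(hyC g hg).eq]
      _ = y * (g * z ^ a * g⁻¹) := by group
  have hpowC : ∀ g ∈ C, ∀ a : ℕ, g * z ^ a * g⁻¹ ∈ C := fun g hg a =>
    mul_mem (mul_mem hg (pow_mem hzC a)) (inv_mem hg)
  set D₁ : Finset (G × ℕ) := S ×ˢ A
  set D₂ : Finset ((G × ℕ) × G) := (S' ×ˢ A) ×ˢ T
  have hwC : ∀ q ∈ D₁, ∀ q' ∈ D₂, ww q q' ∈ C := by
    intro q hq q' hq'
    simp only [D₁, D₂, Finset.mem_product] at hq hq'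
    refine mul_mem (mem_centralizer_singleton_iff.2 ?_) (hpowC _ (mul_mem (hSC _ hq.1) (hS'C _ hq'.1.1)) _)
    exact (hxC _ hq'.2 y (mem_centralizer_singleton_iff.2 rfl)).eq.symm
  have hisconj : ∀ q ∈ D₁ ×ˢ D₂, IsConj y (f q) := by
    rintro ⟨q, ⟨g, b⟩, x⟩ hq
    rw [Finset.mem_product] at hq
    obtain ⟨hq1, hq2⟩ := hq
    simp only [D₁, D₂, Finset.mem_product] at hq1 hq2
    obtain ⟨⟨hg, hb⟩, hx⟩ := hq2
    refine IsConj.trans ?_ (isConj_iff.2 ⟨gg q, rfl⟩)
    have hk : q.1 * g ∈ C := mul_mem (hSC _ hq1.1) (hS'C _ hg)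
    show IsConj y (x * (q.1 * g * z ^ b * (q.1 * g)⁻¹))
    obtain ⟨hxy, hx1, hxconj⟩ := hTy x hx
    refine hxconj.trans (IsConj.trans ?_ (isConj_iff.2 ⟨q.1 * g, ?_⟩ : IsConj (x * z ^ b) _))
    · rw [← mem_powers_iff_mem_zpowers, Submonoid.mem_powers_iff] at hxy
      obtain ⟨j, rfl⟩ := hxy
      have hzj : z ^ j ≠ 1 := fun e => hx1 (orderOf_dvd_iff_pow_eq_one.1
        (hS.order_y ▸ hS.order_z ▸ orderOf_dvd_of_pow_eq_one e))
      have := (zpowers_le.2 (mem_zpowers_of_ne_one hp hzp (npow_mem_zpowers z j) hzj)) (npow_mem_zpowers z b)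
      rw [← mem_powers_iff_mem_zpowers, Submonoid.mem_powers_iff] at this
      obtain ⟨i, hi⟩ := this
      refine isConj_iff.2 ⟨d i, ?_⟩
      rw [← conj_pow, hd i, (hyz.pow_right i).mul_pow, ← pow_mul, mul_comm i, pow_mul, hi]
    · rw [show q.1 * g * (x * z ^ b) * (q.1 * g)⁻¹ = q.1 * g * x * (q.1 * g)⁻¹ * (q.1 * g * z ^ b * (q.1 * g)⁻¹) by group,
        (hxC x hx _ hk).eq, mul_inv_cancel_right]
  -- the end of the walk determines the path
  have hinj : Set.InjOn f (D₁ ×ˢ D₂ : Finset _) := by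
    rintro ⟨⟨g₁, a⟩, ⟨g₂, b⟩, x⟩ hq ⟨⟨g₁', a'⟩, ⟨g₂', b'⟩, x'⟩ hq' he
    rw [Finset.mem_coe, Finset.mem_product] at hq hq'
    obtain ⟨hq1, hq2⟩ := hq
    obtain ⟨hq1', hq2'⟩ := hq'
    have hw1 := hwC _ hq1 _ hq2
    have hw1' := hwC _ hq1' _ hq2'
    simp only [D₁, D₂, Finset.mem_product] at hq1 hq2 hq1' hq2'
    obtain ⟨hg₁, ha⟩ := hq1
    obtain ⟨⟨hg₂, hb⟩, hx⟩ := hq2
    obtain ⟨hg₁', ha'⟩ := hq1'
    obtain ⟨⟨hg₂', hb'⟩, hx'⟩ := hq2'
    have hgC := hSC _ hg₁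
    have hgC' := hSC _ hg₁'
    set y'' := f ((g₁, a), (g₂, b), x) with hy''
    have hc₁ : Commute (y₁ (g₁, a)) y'' := by
      rw [← hconj₁ _ hgC, hy'']
      exact (Commute.conj_iff _).2 (hyC _ hw1).symm
    have hc₁' : Commute (y₁ (g₁', a')) y'' := by
      rw [← hconj₁ _ hgC', he]
      exact (Commute.conj_iff _).2 (hyC _ hw1').symm
    have hcy : ∀ g ∈ C, ∀ c : ℕ, Commute (y₁ (g, c)) y := fun g hg c =>
      (Commute.refl y).mul_left (hyC _ (hpowC g hg c))
    have hoy : ∀ g ∈ C, ∀ c : ℕ, orderOf (y₁ (g, c)) = p := fun g hg c => by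
      rw [← hconj₁ _ hg, Involution.orderOf_conj, hS.order_y]
    -- the pair `y, y''` generates a subgroup of even order
    have heven : Even (Nat.card (closure ({y, y''} : Set G))) := by
      set u := y * (g₁ * z ^ a * g₁⁻¹)⁻¹ with hu
      set v := ww (g₁, a) ((g₂, b), x) with hv
      have hgu : gg (g₁, a) * u * (gg (g₁, a))⁻¹ = y := by
        have hud : (d a)⁻¹ * y * d a = y * (z ^ a)⁻¹ := by
          calc (d a)⁻¹ * y * d a = (d a)⁻¹ * (y * z ^ a * (z ^ a)⁻¹) * d a := by group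
            _ = (d a)⁻¹ * (d a * y * (d a)⁻¹ * (z ^ a)⁻¹) * d a := by rw [hd a]
            _ = y * ((d a)⁻¹ * (z ^ a)⁻¹ * d a) := by group
            _ = y * (z ^ a)⁻¹ := by
              rw [mul_assoc (d a)⁻¹, ← (((hdz a).pow_right a).inv_right).eq, inv_mul_cancel_left]
        have hu' : u = g₁ * ((d a)⁻¹ * y * d a) * g₁⁻¹ := by
          rw [hud, hu, ← mul_assoc g₁, (hyC g₁ hgC).eq]; group
        calc g₁ * d a * g₁⁻¹ * u * (g₁ * d a * g₁⁻¹)⁻¹ = g₁ * y * g₁⁻¹ := by rw [hu']; group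
          _ = y := by rw [(hyC g₁ hgC).eq, mul_inv_cancel_right]
      have hmap : (closure ({u, v} : Set G)).map (MulAut.conj (gg (g₁, a))).toMonoidHom = closure {y, y''} := by
        rw [MonoidHom.map_closure, Set.image_pair]
        show closure ({gg (g₁, a) * u * (gg (g₁, a))⁻¹, gg (g₁, a) * v * (gg (g₁, a))⁻¹} : Set G) = _
        rw [hgu]
      rw [← hmap, Subgroup.card_map_of_injective (MulAut.conj _).injective]
      have huC : u ∈ C := mul_mem (mem_centralizer_singleton_iff.2 rfl) (inv_mem (hpowC _ hgC a))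
      have hycl : y ∈ centralizer ((closure ({u, v} : Set G) : Subgroup G) : Set G) := by
        rw [centralizer_closure]
        refine mem_centralizer_iff.2 fun c hc => ?_
        rcases hc with rfl | rfl
        · exact (hyC _ huC).eq
        · exact (hyC _ hw1).eq
      set K := closure ({u, v} : Set G) ⊔ zpowers y with hK
      have hyK : y ∈ K := mem_sup_right (mem_zpowers y)
      have huK : u ∈ K := mem_sup_left (subset_closure (Set.mem_insert _ _))
      have hvK : v ∈ K := mem_sup_left (subset_closure (Set.mem_insert_of_mem _ rfl))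
      have hzpow : ∀ g : G, ∀ c : ℕ, ¬ p ∣ c → g * z ^ c * g⁻¹ ∈ K → g * z * g⁻¹ ∈ K := fun g c hc hmem => by
        have hne : z ^ c ≠ 1 := fun e => hc (hS.order_z ▸ orderOf_dvd_of_pow_eq_one e)
        obtain ⟨i, hi⟩ := mem_zpowers_iff.1 (mem_zpowers_of_ne_one hp hzp (npow_mem_zpowers z c) hne)
        have := zpow_mem hmem i
        rwa [conj_zpow, hi] at this
      have hk1 : g₁ * z * g₁⁻¹ ∈ K := hzpow g₁ a (hAp a ha) (by
        have := mul_mem (inv_mem huK) hyK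
        simpa [hu, mul_assoc] using this)
      have hxK : x ∈ K := (zpowers_le.2 hyK) (hTy x hx).1
      have hk2 : g₁ * g₂ * z * (g₁ * g₂)⁻¹ ∈ K := hzpow (g₁ * g₂) b (hAp b hb) (by
        have := mul_mem (inv_mem hxK) hvK
        simpa [hv, hww, mul_assoc] using this)
      have hsub : (closure ({z, g₂ * z * g₂⁻¹} : Set G)).map (MulAut.conj g₁).toMonoidHom ≤ K := by
        rw [MonoidHom.map_closure, Set.image_pair, closure_le, Set.insert_subset_iff, Set.singleton_subset_iff]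
        refine ⟨hk1, ?_⟩
        show g₁ * (g₂ * z * g₂⁻¹) * g₁⁻¹ ∈ K
        convert hk2 using 1; group
      have hKeven : Even (Nat.card K) := by
        have := card_dvd_of_le hsub
        rw [Subgroup.card_map_of_injective (MulAut.conj _).injective] at this
        exact even_iff_two_dvd.2 ((even_iff_two_dvd.1 (hS'even g₂ hg₂)).trans this)
      haveI : Fact (Nat.Prime 2) := ⟨Nat.prime_two⟩
      obtain ⟨c, hc⟩ := exists_prime_orderOf_dvd_card' 2 (even_iff_two_dvd.1 hKeven)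
      obtain ⟨e₁, he₁, e₂, he₂, hce⟩ := (Coprime.mem_sup_iff (N := closure ({u, v} : Set G)) (H := zpowers y)
        (zpowers_le.2 (centralizer_le_normalizer _ hycl))).1 c.2
      by_contra hodd
      rw [Nat.not_even_iff_odd] at hodd
      have hcomm : Commute e₁ e₂ := by
        obtain ⟨i, rfl⟩ := mem_zpowers_iff.1 he₂
        exact (Commute.zpow_right (mem_centralizer_iff.1 hycl e₁ he₁) i)
      have h2 : 2 ∣ Nat.lcm (orderOf e₁) (orderOf e₂) := by
        refine dvd_trans ?_ hcomm.orderOf_mul_dvd_lcm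
        rw [show e₁ * e₂ = (c : G) by first | exact hce | exact hce.symm, orderOf_coe, hc]
      have ho1 : Odd (orderOf e₁) := hodd.of_dvd_nat (orderOf_dvd_natCard _ he₁)
      have ho2 : Odd (orderOf e₂) :=
        hpodd.of_dvd_nat (hS.order_y ▸ Nat.card_zpowers y ▸ orderOf_dvd_natCard _ he₂)
      have h3 : Odd (Nat.lcm (orderOf e₁) (orderOf e₂)) :=
        (ho1.mul ho2).of_dvd_nat (Nat.lcm_dvd_mul _ _)
      exact Nat.not_even_iff_odd.2 h3 (even_iff_two_dvd.2 h2)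
    have hodd'' : Odd (orderOf y'') := by
      rw [← Involution.orderOf_eq_of_isConj (hisconj _ (by simp [D₁, D₂, hg₁, ha, hg₂, hb, hx])), hS.order_y]
      exact hpodd
    obtain ⟨k, hk⟩ := h.exists_conj_mem_coreW {y, y''} (by
      rintro c (rfl | rfl)
      exacts [hS.order_y ▸ hpodd, hodd'']) heven
    have hmemk : ∀ g ∈ C, ∀ c : ℕ, Commute (y₁ (g, c)) y'' → y₁ (g, c) ∈ zpowers (k * y * k⁻¹) := by
      intro g hg c hc
      have hW := hk _ ((hoy g hg c).symm ▸ hpodd) (by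
        rintro e (rfl | rfl)
        exacts [hcy g hg c, hc])
      have hu := hS.unique _ hW (by
        have := conj_pow (a := k⁻¹) (b := y₁ (g, c)) (i := p)
        rw [inv_inv] at this
        rw [this, ← hoy g hg c, pow_orderOf_eq_one, mul_one, inv_mul_cancel])
      obtain ⟨i, hi⟩ := mem_zpowers_iff.1 hu
      refine mem_zpowers_iff.2 ⟨i, ?_⟩
      rw [conj_zpow, hi]; group
    have hy₁mem : y₁ (g₁', a') ∈ zpowers (y₁ (g₁, a)) :=
      (zpowers_le.2 (mem_zpowers_of_ne_one hp (by rw [conj_pow, hyp, mul_one, mul_inv_cancel])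
        (hmemk _ hgC _ hc₁) fun e => hp.ne_one (by rw [← hoy g₁ hgC a, e, orderOf_one])))
        (hmemk _ hgC' _ hc₁')
    rw [← mem_powers_iff_mem_zpowers, Submonoid.mem_powers_iff] at hy₁mem
    obtain ⟨e, hee⟩ := hy₁mem
    -- the first step
    have hee' : y ^ e * (g₁ * z ^ (a * e) * g₁⁻¹) = y * (g₁' * z ^ a' * g₁'⁻¹) := by
      have h0 : (y * (g₁ * z ^ a * g₁⁻¹)) ^ e = y * (g₁' * z ^ a' * g₁'⁻¹) := hee
      rw [← h0, (hyC _ (hpowC _ hgC a)).symm.mul_pow, conj_pow, ← pow_mul]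
    have hmem₁ : (g₁' * z ^ a' * g₁'⁻¹)⁻¹ * (g₁ * z ^ (a * e) * g₁⁻¹) ∈ O := by
      have e1 : g₁ * z ^ (a * e) * g₁⁻¹ = (y ^ e)⁻¹ * y * (g₁' * z ^ a' * g₁'⁻¹) := by
        rw [mul_assoc (y ^ e)⁻¹, ← hee', inv_mul_cancel_left]
      have hc' : Commute ((g₁' * z ^ a' * g₁'⁻¹)⁻¹) ((y ^ e)⁻¹ * y) :=
        (((hyC _ (hpowC _ hgC' a')).inv_left.pow_right e).inv_right).mul_right (hyC _ (hpowC _ hgC' a')).inv_left
      rw [e1, ← mul_assoc, hc'.eq, inv_mul_cancel_right]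
      exact mul_mem (inv_mem (pow_mem (hyO (mem_zpowers y)) e)) (hyO (mem_zpowers y))
    have hg : g₁' = g₁ := hStori g₁' hg₁' g₁ hg₁ a' (a * e) (hAp a' ha') hmem₁
    subst hg
    have hae : z ^ a' = z ^ (a * e) := hsep _ hgC' a' (a * e) hmem₁
    have hye : y ^ e = y := by
      rw [hae] at hee'
      exact mul_right_cancel hee'
    have hze : z ^ e = z := by
      have : e % p = 1 := by
        have h1 : y ^ e = y ^ 1 := by rw [pow_one, hye]
        rw [pow_inj_mod, hS.order_y, Nat.mod_eq_of_lt hp.one_lt] at h1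
        exact h1
      rw [pow_eq_pow_mod e hzp, this, pow_one]
    have haa : a' = a := hAinj a' ha' a ha (by rw [hae, mul_comm, pow_mul, hze])
    subst haa
    -- the second step
    have hw : x * (g₁' * g₂ * z ^ b * (g₁' * g₂)⁻¹) = x' * (g₁' * g₂' * z ^ b' * (g₁' * g₂')⁻¹) :=
      mul_left_cancel (mul_right_cancel he)
    have hxC' : ∀ {x₀}, x₀ ∈ T → g₁'⁻¹ * x₀ * g₁' = x₀ := fun {x₀} h0 => by
      rw [mul_assoc, ← (hxC x₀ h0 g₁' hgC').eq, inv_mul_cancel_left]
    have hw' : x * (g₂ * z ^ b * g₂⁻¹) = x' * (g₂' * z ^ b' * g₂'⁻¹) := by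
      have h0 := congrArg (fun c => g₁'⁻¹ * c * g₁') hw
      have l : ∀ x₀ k' : G, g₁'⁻¹ * (x₀ * (g₁' * k' * (z : G) * (g₁' * k')⁻¹)) * g₁' =
          (g₁'⁻¹ * x₀ * g₁') * (k' * z * k'⁻¹) := fun _ _ => by group
      have l' : ∀ x₀ k' c : G, g₁'⁻¹ * (x₀ * (g₁' * k' * c * (g₁' * k')⁻¹)) * g₁' =
          (g₁'⁻¹ * x₀ * g₁') * (k' * c * k'⁻¹) := fun _ _ _ => by group
      simp only [l', hxC' hx, hxC' hx'] at h0
      exact h0
    have hmem₂ : (g₂ * z ^ b * g₂⁻¹)⁻¹ * (g₂' * z ^ b' * g₂'⁻¹) ∈ O := by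
      have e1 : g₂' * z ^ b' * g₂'⁻¹ = x'⁻¹ * x * (g₂ * z ^ b * g₂⁻¹) := by
        rw [mul_assoc x'⁻¹, hw', inv_mul_cancel_left]
      have hcc : g₂ * z ^ b * g₂⁻¹ ∈ C := hpowC _ (hS'C _ hg₂) b
      have hc' : Commute ((g₂ * z ^ b * g₂⁻¹)⁻¹) (x'⁻¹ * x) :=
        ((hxC _ hx' _ hcc).inv_left.inv_right).mul_right (hxC _ hx _ hcc).inv_left
      rw [e1, ← mul_assoc, hc'.eq, inv_mul_cancel_right]
      exact mul_mem (inv_mem (hyO (hTy x' hx').1)) (hyO (hTy x hx).1)
    have hg2 : g₂ = g₂' := hS'tori g₂ hg₂ g₂' hg₂' b b' (hAp b hb) hmem₂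
    subst hg2
    have hbb : b = b' := hAinj b hb b' hb' (hsep _ (hS'C _ hg₂) b b' hmem₂)
    subst hbb
    have hxx : x = x' := mul_right_cancel hw'
    subst hxx
    rfl
  -- the count
  have hcount := two_mul_card_le hF hL ((D₁ ×ˢ D₂).image f) fun x hx => by
    obtain ⟨q, hq, rfl⟩ := Finset.mem_image.1 hx
    exact hisconj q hq
  rw [Finset.card_image_of_injOn hinj] at hcount
  simp only [D₁, D₂, Finset.card_product, hA, Nat.card_Icc, add_tsub_cancel_right] at hcount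
  have hTc : T.card = Nat.card (conjSet (coreW t r) y) := by
    rw [Nat.card_coe_set_eq, Set.ncard_eq_toFinset_card]
  rw [hTc] at hcount
  have hbound := hS.bound
  have hl0 : 0 < Nat.card (conjSet (coreW t r) y) := by
    haveI : Nonempty (conjSet (coreW t r) y) := ⟨⟨y, self_mem_conjSet _ y⟩⟩
    exact Nat.card_pos
  set l := Nat.card (conjSet (coreW t r) y)
  set c := Nat.card (conjSet (coreU t) y)
  have hn2 : p ^ 2 ≤ n ^ 2 := Nat.pow_le_pow_left (Nat.le_of_dvd hL.pos hpn) 2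
  have hS6 : 6 * p ^ 2 ≤ S.card := by
    have := hL.big
    omega
  have hp3 : 3 ≤ p := by
    have := hp.two_le
    omega
  have h1 : 12 * (p - 1) ^ 2 * (p ^ 4 * l ^ 3) ≤ 5 * p ^ 2 * (p ^ 4 * l ^ 3) := by
    calc 12 * (p - 1) ^ 2 * (p ^ 4 * l ^ 3)
        = 2 * (6 * p ^ 2 * (p - 1) * (p ^ 2 * (p - 1) * l)) * l ^ 2 := by ring
      _ ≤ 2 * (S.card * (p - 1) * (S'.card * (p - 1) * l)) * l ^ 2 := by gcongr
      _ ≤ 5 * c ^ 3 := hcount
      _ ≤ 5 * (p ^ 2 * l) ^ 3 := by gcongr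
      _ = 5 * p ^ 2 * (p ^ 4 * l ^ 3) := by ring
  have h2 := Nat.le_of_mul_le_mul_right h1 (Nat.mul_pos (pow_pos hp.pos 4) (pow_pos hl0 3))
  obtain ⟨m, rfl⟩ : ∃ m, p = m + 3 := ⟨p - 3, by omega⟩
  rw [show m + 3 - 1 = m + 2 by omega] at h2
  nlinarith

/-- **No prime is mixed**, from the type data and 2.1. -/
theorem Hyp.not_mixed_of_typeData (h : Hyp t r s) {p : ℕ} (hp : p.Prime) (hp2 : p ≠ 2) (hF : OrderFormula t r)
    (hT : TypeData t r p)
    (hab : ∀ E : Subgroup G, Cfsg.IsElementaryAbelian p E → E ≤ coreU t →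
      centralizer ({t} : Set G) ≤ normalizer (E : Set G) → E ⊓ coreW t r = ⊥) :
    ¬ Mixed p t r := by
  haveI : Fact p.Prime := ⟨hp⟩
  refine h.not_mixed_of_inputs hp hp2 hF ⟨hab, fun y hy hyo a b ha hb hai hbi hc hay hby => ?_⟩
    fun y hy hyo z hzC hzi hzo => ?_
  · exact hT.mem_zpowers hp hp2 hy hyo hbi hai (hb ▸ pow_orderOf_eq_one b) (ha ▸ pow_orderOf_eq_one a)
      (fun e => hp.ne_one (by rw [← ha, e, orderOf_one])) hc.symm hby hay
  · obtain ⟨n, Q, hL, hpn, hout⟩ := hT y hy hyo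
    exact ⟨n, Q, hL, hpn, hout z hzC hzi (fun e => hp.ne_one (by rw [← hzo, e, orderOf_one]))
      ⟨1, by rw [pow_one, ← hzo, pow_orderOf_eq_one]⟩⟩

/-- **No prime is mixed** (2.1 and 2.2), from the type data. -/
theorem Hyp.not_mixed (h : Hyp t r s) {p : ℕ} (hp : p.Prime) (hp2 : p ≠ 2) (hF : OrderFormula t r)
    (hT : TypeData t r p) (hno : NoNormalInW t r p) : ¬ Mixed p t r :=
  h.not_mixed_of_typeData hp hp2 hF hT (h.inf_coreW_eq_bot_of_elementary hp hp2 hF hT hno)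

end Cfsg.Agent.GWKlein
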