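import Cfsg.Agent.Lib.GWKlein.General.AbelianLarge
import Cfsg.Agent.Lib.GWKlein.General.Extraspecial
import Cfsg.Agent.Lib.GWKlein.General.SplitRad

/-!
# Gorenstein-Walter, Klein general case: no prime is mixed

* `Hyp.not_mixed_of_data`: 2.1 and 2.2 from the local data
* `Hyp.exists_split_of_data`: the splitting of `U` from the local data at the mixed primes
-/

set_option autoImplicit false

namespace Cfsg.Agent.GWKlein

open Subgroup

universe u

variable {G : Type u} [Group G] [Finite G] {t r s : G} {p : ℕ}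

theorem Hyp.not_mixed_of_data (h : Hyp t r s) (hp : p.Prime) (hp2 : p ≠ 2) (hF : OrderFormula t r)
    (hT : TypeData t r p) (hno : NoNormalInW t r p) : ¬ Mixed p t r := by
  haveI : Fact p.Prime := ⟨hp⟩
  refine h.not_mixed_of_inputs hp hp2 hF ⟨h.inf_coreW_eq_bot_of_elementary hp hp2 hF hT hno,
    fun y hy hyp a b ha hb hai hbi hab hay hby => ?_⟩ fun y hy hyp z hz hzi hzp => ?_
  · exact hT.mem_zpowers hp hp2 hy hyp hbi hai (hb ▸ pow_orderOf_eq_one b) (ha ▸ pow_orderOf_eq_one a)
      (fun e => hp.ne_one (by rw [← ha, e, orderOf_one])) hab.symm hby hay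
  · obtain ⟨n, Q, hL, hpn, hout⟩ := hT y hy hyp
    exact ⟨n, Q, hL, hpn, hout z hz hzi (fun e => hp.ne_one (by rw [← hzp, e, orderOf_one]))
      ⟨1, by rw [pow_one]; exact hzp ▸ pow_orderOf_eq_one z⟩⟩

/-- The splitting of `U`. -/
theorem Hyp.exists_split_of_data (h : Hyp t r s) (hF : OrderFormula t r)
    (hdata : ∀ q : ℕ, q.Prime → q ≠ 2 → Mixed q t r → TypeData t r q ∧ NoNormalInW t r q) :
    ∃ A, Split t r A := by
  have hnm : ∀ q : ℕ, q.Prime → ¬ Mixed q t r := by
    intro q hq hm
    by_cases hq2 : q = 2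
    · subst hq2
      haveI : Fact (Nat.Prime 2) := ⟨Nat.prime_two⟩
      have hbot : radU 2 t = ⊥ := by
        obtain ⟨k, hk⟩ := IsPGroup.iff_card.1 ((Cores.isPGroup_pCore 2 (coreU t)).map (coreU t).subtype :
          IsPGroup 2 (radU 2 t))
        rcases Nat.eq_zero_or_pos k with rfl | hk0
        · exact eq_bot_of_card_eq _ (by rw [radU, hk, pow_zero])
        · exact absurd (((dvd_pow_self 2 hk0.ne').trans (dvd_of_eq hk.symm)).trans
            (card_dvd_of_le (map_subtype_le _))) h.not_two_dvd_coreU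
      have hc : radComm 2 t r = ⊥ := eq_bot_iff.2 ((closure_le _).2 fun x hx => by
        have := hx.1; rw [hbot, mem_bot] at this; simp [this])
      rcases hm with hm | hm
      · exact hm (by rw [hc, bot_inf_eq])
      · exact hm (by rw [hc]; exact le_normalizer_iff.2 fun g _ x hx => by rw [mem_bot] at hx ⊢; simp [hx])
    · obtain ⟨hT, hno⟩ := hdata q hq hq2 hm
      exact h.not_mixed_of_data hq hq2 hF hT hno hm
  exact h.exists_split_of_rad (fun q hq => of_not_not fun hc => hnm q hq (Or.inl hc))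
    (fun q hq => of_not_not fun hc => hnm q hq (Or.inr hc))

end Cfsg.Agent.GWKlein
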