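import Cfsg.Agent.Lib.GWKlein.General.TypesConstrained
import Cfsg.Agent.Lib.GWKlein.General.AbelianSetup
import Cfsg.Agent.Lib.GWKlein.General.LocalL2
import Cfsg.Agent.Lib.GWKlein.OrderFormula
import Cfsg.Agent.Lib.GWKlein.Setup

/-!
# Gorenstein-Walter, Klein general case: types (section 1 of `GENERAL.md`)

* `Hyp.false_of_fused` (1.4): no proper subgroup over `C(t)` moves `t`
* `Hyp.l2Local_of_typeT` ((T)), `Hyp.exists_invElt_invSylow` ((K)), `Hyp.exists_centralised` (1.1)
* `Hyp.false_of_commute` (1.2), `Hyp.false_of_all_typeK` (1.3), `Hyp.typeT_of_mixed`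
* `Hyp.typeData`, `Hyp.false_of_le_coreW`, `Hyp.noNormalInW`
-/

set_option autoImplicit false

namespace Cfsg.Agent.GWKlein

open Subgroup
open scoped Pointwise

universe u

variable {G : Type u} [Group G] [Finite G] {t r s : G} {p : ℕ} [Fact p.Prime]

theorem ne_one_of_orderOf_eq {a : G} (ha : orderOf a = p) : a ≠ 1 := fun e =>
  (Fact.out : p.Prime).ne_one (by rw [← ha, e, orderOf_one])

namespace Hyp

omit [Fact p.Prime] in
theorem fourV_le_centralizer_singleton (h : Hyp t r s) {y : G} (hy : y ∈ coreW t r) :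
    fourV t r ≤ centralizer ({y} : Set G) :=
  fourV_le_iff.2 ⟨mem_centralizer_singleton_of_commute (h.mem_coreW.1 hy).1.symm,
    mem_centralizer_singleton_of_commute (h.mem_coreW.1 hy).2.1.symm⟩

/-- In a p-group type `T` only the trivial inverted element lies in the core. -/
theorem eq_one_of_mem_oddPart (h : Hyp t r s) (hp2 : p ≠ 2) {y : G} (hT : TypeT t r p y) {z : G}
    (hz : InvElt t r z) (hzp : ∃ i, z ^ p ^ i = 1) (hzO : z ∈ oddPart (centralizer ({y} : Set G))) : z = 1 := by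
  obtain ⟨i, hi⟩ := hzp
  have hP : IsPGroup p (zpowers z) := isPGroup_zpowers hi
  have hc := hT _ hP (h.zpowers_invariant hz) (zpowers_le.2 hzO) (mem_zpowers z)
  exact eq_one_of_fixed_inverted (odd_orderOf_of_isPGroup hP hp2 (mem_zpowers z))
    (conj_eq_of_commute (mem_centralizer_fourV.1 hc).2) hz.2

variable [IsSimpleGroup G]

omit [Fact p.Prime] in
theorem centralizer_singleton_ne_top (h : Hyp t r s) {y : G} (hy : y ≠ 1) :
    centralizer ({y} : Set G) ≠ ⊤ := by
  intro e
  rw [centralizer_eq_top_iff_subset, Set.singleton_subset_iff] at e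
  rcases (inferInstance : (center G).Normal).eq_bot_or_eq_top with e' | e'
  · exact hy (mem_bot.1 (e' ▸ e))
  · have hc : s * t = t * s := (mem_center_iff.1 (show t ∈ center G by rw [e']; exact mem_top t) s)
    exact h.ne (by rw [← h.conj_t, hc, mul_inv_cancel_right])

omit [Fact p.Prime] in
theorem exists_local (h : Hyp t r s) (hind : ProperL2Like G) {y : G} (hy : y ∈ coreW t r) (hy1 : y ≠ 1)
    (hns : ¬ Group.IsSolvable (centralizer ({y} : Set G))) :
    ∃ n Q, L2Local t r (centralizer ({y} : Set G)) n Q :=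
  h.exists_l2Local (h.fourV_le_centralizer_singleton hy) (hind _ (h.centralizer_singleton_ne_top hy1) hns)

omit [Fact p.Prime] in
/-- **(R)**: no proper subgroup over `C(t)` moves `t`. -/
theorem false_of_fused (h : Hyp t r s) (hind : ProperL2Like G) (hR : RatioLemma t r) {H : Subgroup G}
    (hH : H ≠ ⊤) (hC : centralizer ({t} : Set G) ≤ H) {m : G} (hmH : m ∈ H) (hmt : m * t * m⁻¹ = r)
    (hne : coreU t ≠ ⊥) : False := by
  by_cases hs : Group.IsSolvable H
  · exact hR hne H hs hC m hmH hmt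
  have hV : fourV t r ≤ H := h.fourV_le_centralizer_t.trans hC
  obtain ⟨n, Q, hL⟩ := h.exists_l2Local hV (hind H hH hs)
  obtain ⟨S₀, hS, hF⟩ := h.orderFormula
  have hU : coreU t ⊓ H = coreU t := inf_eq_left.2 ((coreU_le_centralizer t).trans hC)
  have hW : coreW t r ⊓ H = coreW t r :=
    inf_eq_left.2 ((coreW_le_coreU t r).trans ((coreU_le_centralizer t).trans hC))
  have ho := hL.order
  rw [hU, hW] at ho
  have h60 : Nat.card G * Nat.card (coreW t r) ^ 2 ≤ 60 * Nat.card (coreU t) ^ 3 := by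
    have h1 : (0 : ℚ) ≤ (Nat.card G : ℚ) * (Nat.card (coreW t r) : ℚ) ^ 2 := by positivity
    have h2 : (Nat.card G : ℚ) * (Nat.card (coreW t r) : ℚ) ^ 2 ≤ 60 * (Nat.card (coreU t) : ℚ) ^ 3 := by
      nlinarith [mul_le_mul_of_nonneg_left hS h1]
    exact_mod_cast h2
  rw [← H.card_mul_index] at h60
  have hu : 0 < Nat.card (coreU t) := Nat.card_pos
  have hkey : 32 * Nat.card (coreU t) ^ 3 * (H.index * Q) ≤ 32 * Nat.card (coreU t) ^ 3 * (30 * n ^ 2) := by
    calc 32 * Nat.card (coreU t) ^ 3 * (H.index * Q) = 32 * Nat.card (coreU t) ^ 3 * Q * H.index := by ring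
      _ = Nat.card H * H.index * Nat.card (coreW t r) ^ 2 * (16 * n ^ 2) := by rw [← ho]; ring
      _ ≤ 60 * Nat.card (coreU t) ^ 3 * (16 * n ^ 2) := Nat.mul_le_mul_right _ h60
      _ = 32 * Nat.card (coreU t) ^ 3 * (30 * n ^ 2) := by ring
  have hiQ : H.index * Q ≤ 30 * n ^ 2 := Nat.le_of_mul_le_mul_left hkey (by positivity)
  have h2 : H.index ≤ 2 := by
    by_contra h3
    have : 3 * (12 * n ^ 2) ≤ H.index * Q := Nat.mul_le_mul (by omega) hL.big
    have hn : 0 < n ^ 2 := pow_pos hL.pos 2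
    omega
  have h0 : H.index ≠ 0 := index_ne_zero_of_finite
  rcases Nat.lt_or_ge H.index 2 with h1 | h1
  · exact hH (index_eq_one.1 (by omega))
  · haveI : H.Normal := normal_of_index_eq_two (by omega)
    rcases (inferInstance : H.Normal).eq_bot_or_eq_top with e | e
    · have h4 := card_dvd_of_le hV
      rw [e, card_bot, h.card_fourV] at h4
      norm_num at h4
    · exact hH e

/-- **(T)**: the centraliser of an element of type `T` is of type `L2`. -/
theorem l2Local_of_typeT (h : Hyp t r s) (hind : ProperL2Like G) (hp2 : p ≠ 2) (hm : Mixed p t r) {y : G}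
    (hy : y ∈ coreW t r) (hyp : orderOf y = p) (hT : TypeT t r p y) :
    ∃ n Q, L2Local t r (centralizer ({y} : Set G)) n Q ∧ p ∣ n ∧
      ∀ z ∈ centralizer ({y} : Set G), InvElt t r z → z ≠ 1 → (∃ i, z ^ p ^ i = 1) →
        z ∉ oddPart (centralizer ({y} : Set G)) := by
  obtain ⟨a, haP, hai, ha1, hab⟩ := h.exists_invElt_of_mixed hp2 hm
    (isPGroup_zpowers (x := y) (k := 1) (by rw [pow_one, ← hyp, pow_orderOf_eq_one]))
    (zpowers_le.2 hy)
  obtain ⟨j, hj⟩ := IsPGroup.iff_orderOf.1 (isPGroup_radU p t) ⟨a, haP⟩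
  rw [orderOf_mk] at hj
  have hap : ∃ i, a ^ p ^ i = 1 := ⟨j, by rw [← hj, pow_orderOf_eq_one]⟩
  have haC : a ∈ centralizer ({y} : Set G) := mem_centralizer_singleton_of_commute (hab y (mem_zpowers y))
  have hns : ¬ Group.IsSolvable (centralizer ({y} : Set G)) := fun hs => ha1 (h.eq_one_of_mem_oddPart hp2 hT hai hap
    (h.odd_le_oddPart hs (h.fourV_le_centralizer_singleton hy) (zpowers_le.2 haC)
      (by rw [Nat.card_zpowers, hj]; exact ((Fact.out : p.Prime).odd_of_ne_two hp2).pow)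
      (h.zpowers_invariant hai) (mem_zpowers a)))
  obtain ⟨n, Q, hL⟩ := h.exists_local hind hy (ne_one_of_orderOf_eq hyp) hns
  refine ⟨n, Q, hL, ?_, fun z _ hz hz1 hzp hzO => hz1 (h.eq_one_of_mem_oddPart hp2 hT hz hzp hzO)⟩
  by_contra hd
  obtain ⟨k, hk⟩ := exists_pow_eq_self_of_coprime (x := a) (n := n) (by
    rw [hj]; exact (((Fact.out : p.Prime).coprime_iff_not_dvd.2 hd).pow_left j).symm)
  have hodd : Odd (orderOf a) := by rw [hj]; exact ((Fact.out : p.Prime).odd_of_ne_two hp2).pow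
  refine ha1 (h.eq_one_of_mem_oddPart hp2 hT hai hap ?_)
  rw [← hk]
  exact pow_mem (hL.pow_mem a haC hodd hai) k

/-- **(K)**: if `y` does not have type `T` its invariant Sylow subgroups contain inverted elements. -/
theorem exists_invElt_invSylow (h : Hyp t r s) (hind : ProperL2Like G) (hp2 : p ≠ 2) (hm : Mixed p t r) {y : G}
    (hy : y ∈ coreW t r) (hyp : orderOf y = p) (hT : ¬ TypeT t r p y) {X : Subgroup G}
    (hX : InvSylow p t r (centralizer ({y} : Set G)) X) : ∃ n ∈ X, InvElt t r n ∧ n ≠ 1 := by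
  set C := centralizer ({y} : Set G) with hCdef
  have hV := h.fourV_le_centralizer_singleton hy
  by_cases hs : Group.IsSolvable C
  · obtain ⟨a, haP, hai, ha1, hab⟩ := h.exists_invElt_of_mixed hp2 hm
      (isPGroup_zpowers (x := y) (k := 1) (by rw [pow_one, ← hyp, pow_orderOf_eq_one]))
      (zpowers_le.2 hy)
    obtain ⟨j, hj⟩ := IsPGroup.iff_orderOf.1 (isPGroup_radU p t) ⟨a, haP⟩
    rw [orderOf_mk] at hj
    have haO : zpowers a ≤ oddPart C := h.odd_le_oddPart hs hV
      (zpowers_le.2 (mem_centralizer_singleton_of_commute (hab y (mem_zpowers y))))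
      (by rw [Nat.card_zpowers, hj]; exact ((Fact.out : p.Prime).odd_of_ne_two hp2).pow) (h.zpowers_invariant hai)
    obtain ⟨R, hR, haR⟩ := h.exists_invSylow (p := p) hV
      (isPGroup_zpowers (k := j) (by rw [← hj, pow_orderOf_eq_one])) (h.zpowers_invariant hai) haO
    obtain ⟨c, hcW, -, hcR⟩ := h.invSylow_conj hV hX hR
    refine ⟨c * a * c⁻¹, hcR ▸ Coprime.conj_mem_conj.2 (haR (mem_zpowers a)), hai.conj_of_coreW hcW, ?_⟩
    exact fun e => ha1 (conj_eq_one_iff.1 e)
  · obtain ⟨n, Q, hL⟩ := h.exists_local hind hy (ne_one_of_orderOf_eq hyp) hs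
    obtain ⟨m, hmC, hmt, hmr⟩ := hL.moving
    have hmV : m ∈ normalizer (fourV t r : Set G) := by
      rw [PLocal.mem_normalizer_iff_map_eq, fourV, MonoidHom.map_closure, Set.image_pair]
      show closure ({m * t * m⁻¹, m * r * m⁻¹} : Set G) = _
      rw [hmt, hmr]
      exact h.fourV_rot
    have hR : InvSylow p t r C (MulAut.conj m • X) := by
      refine ⟨fun x hx => ?_, fun v hv => Coprime.mem_normalizer_of_forall fun x hx => ?_,
        (Coprime.card_conj m X).trans hX.card⟩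
      · rw [Coprime.mem_conj] at hx
        have := (mem_normalizer_iff.1 (le_normalizer_oddPart C hmC) _).1 (hX.le hx)
        rwa [show m * (m⁻¹ * x * m) * m⁻¹ = x by group] at this
      · rw [Coprime.mem_conj] at hx ⊢
        have hv' : m⁻¹ * v * m ∈ fourV t r := by
          have := (mem_normalizer_iff.1 (inv_mem hmV) v).1 hv
          rwa [inv_inv] at this
        have := (mem_normalizer_iff.1 (hX.norm hv') _).1 hx
        rwa [show m⁻¹ * v * m * (m⁻¹ * x * m) * (m⁻¹ * v * m)⁻¹ = m⁻¹ * (v * x * v⁻¹) * m by group] at this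
    obtain ⟨c, hcW, -, hcR⟩ := h.invSylow_conj hV hX hR
    obtain ⟨hct, hcr, -⟩ := h.mem_coreW.1 hcW
    set m' := c * m
    have hm'X : ∀ x ∈ X, m'⁻¹ * x * m' ∈ X := fun x hx => by
      rw [← hcR, ← mul_smul, ← map_mul, Coprime.mem_conj] at hx
      exact hx
    have hm't : m' * t * m'⁻¹ = r := by
      show c * m * t * (c * m)⁻¹ = r
      rw [show c * m * t * (c * m)⁻¹ = c * (m * t * m⁻¹) * c⁻¹ by group, hmt, hcr.eq, mul_inv_cancel_right]
    have hm'r : m' * r * m'⁻¹ = t * r := by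
      show c * m * r * (c * m)⁻¹ = t * r
      rw [show c * m * r * (c * m)⁻¹ = c * (m * r * m⁻¹) * c⁻¹ by group, hmr, (hct.mul_right hcr).eq, mul_inv_cancel_right]
    have hcm : ∀ x v : G, Commute (m'⁻¹ * x * m') v → Commute x (m' * v * m'⁻¹) := fun x v hc => by
      have := hc.map (MulAut.conj m').toMonoidHom
      simpa [mul_assoc] using this
    by_contra hcon
    have h1 : ∀ x ∈ X, Commute x t → Commute x r := fun x hx hxt => by
      by_contra hxr
      obtain ⟨h1, h2, h3⟩ := h.exists_invElt_of_moved (hX.norm (right_mem_fourV t r)) hx hxt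
        (fun e => hxr (mul_inv_eq_iff_eq_mul.1 e).symm)
      exact hcon ⟨_, h1, h2, h3⟩
    have h2 : ∀ x ∈ X, Commute x r → Commute x t := fun x hx hxr => by
      have e1 : Commute (m'⁻¹ * x * m') t := by
        have := hxr.map (MulAut.conj m'⁻¹).toMonoidHom
        rw [← hm't] at this
        simpa [mul_assoc] using this
      have e2 := hm'r ▸ hcm x r (h1 _ (hm'X x hx) e1)
      have e3 := hxr.mul_right e2
      rwa [h.r_mul] at e3
    have h3 : ∀ x ∈ X, Commute x (t * r) → Commute x r := fun x hx hxr => by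
      have e1 : Commute (m'⁻¹ * x * m') r := by
        have := hxr.map (MulAut.conj m'⁻¹).toMonoidHom
        rw [← hm'r] at this
        simpa [mul_assoc] using this
      exact hm't ▸ hcm x t (h2 _ (hm'X x hx) e1)
    have hcen : X ≤ centralizer (fourV t r : Set G) := by
      haveI := h.isKleinFour
      haveI := h.fourV_facts.1
      refine Coprime.le_of_noncyclic IsKleinFour.not_isCyclic hX.norm
        (h.coprime_of_odd ((odd_card_oddPart C).of_dvd_nat (card_dvd_of_le hX.le))) fun a ha ha1 x hx => ?_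
      have hxa : Commute x a := commute_of_mem_centralizer_singleton hx.2
      refine mem_centralizer_fourV.2 ?_
      rcases h.mem_iff.1 ha with rfl | rfl | rfl | rfl
      · exact absurd rfl ha1
      · exact ⟨hxa, h1 x hx.1 hxa⟩
      · exact ⟨h2 x hx.1 hxa, hxa⟩
      · exact ⟨h2 x hx.1 (h3 x hx.1 hxa), h3 x hx.1 hxa⟩
    refine hT fun Q' hQ hQn hQO q hq => ?_
    obtain ⟨R', hR', hQR⟩ := h.exists_invSylow hV hQ hQn hQO
    obtain ⟨d, hdW, -, hdR⟩ := h.invSylow_conj hV hX hR'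
    have h4 : d * q * d⁻¹ ∈ centralizer (fourV t r : Set G) := hcen (hdR ▸ Coprime.conj_mem_conj.2 (hQR hq))
    have hd := h.coreW_le_centralizer hdW
    have := Subgroup.mul_mem _ (Subgroup.mul_mem _ (Subgroup.inv_mem _ hd) h4) hd
    rwa [show d⁻¹ * (d * q * d⁻¹) * d = q by group] at this

/-- If `y` does not have type `T` no involution of `V` centralises an invariant Sylow subgroup. -/
theorem not_centralised (h : Hyp t r s) (hind : ProperL2Like G) (hp2 : p ≠ 2) (hm : Mixed p t r) {y : G}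
    (hy : y ∈ coreW t r) (hyp : orderOf y = p) (hT : ¬ TypeT t r p y) {X : Subgroup G}
    (hX : InvSylow p t r (centralizer ({y} : Set G)) X) :
    ∀ v ∈ fourV t r, (∀ x ∈ X, Commute v x) → v = 1 := by
  intro v hv hc
  by_contra hv1
  obtain ⟨a, ha, hai, ha1⟩ := h.exists_invElt_invSylow hind hp2 hm hy hyp hT hX
  obtain ⟨b, hb, hbi, hb1⟩ := h.rot.exists_invElt_invSylow hind hp2 (h.mixed_rot hm)
    (by rw [h.coreW_rot]; exact hy) hyp (fun e => hT (h.typeT_rot_iff.1 e)) (hX.rot h)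
  rw [h.invElt_swap] at hbi
  have hodd : ∀ x ∈ X, Odd (orderOf x) := fun x hx => odd_orderOf_of_isPGroup hX.isPGroup hp2 hx
  rcases h.mem_iff.1 hv with rfl | rfl | rfl | rfl
  · exact hv1 rfl
  · exact hb1 (eq_one_of_fixed_inverted (hodd b hb) (conj_eq_of_commute (hc b hb).symm) hbi.2)
  · exact ha1 (eq_one_of_fixed_inverted (hodd a ha) (conj_eq_of_commute (hc a ha).symm) hai.2)
  · exact ha1 (eq_one_of_fixed_inverted (hodd a ha) (conj_eq_of_commute (hc a ha).symm) (h.invElt_mul.2 hai).2)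

/-- An invariant `p`-subgroup of the centraliser of an element of type `T` has one torus component. -/
theorem not_both (h : Hyp t r s) (hind : ProperL2Like G) (hp2 : p ≠ 2) (hm : Mixed p t r) {y : G}
    (hy : y ∈ coreW t r) (hyp : orderOf y = p) (hT : TypeT t r p y) {Q : Subgroup G} (hQ : IsPGroup p Q)
    (hQC : Q ≤ centralizer ({y} : Set G)) (hQn : fourV t r ≤ normalizer (Q : Set G)) {a b : G} (ha : a ∈ Q)
    (hb : b ∈ Q) (hai : InvElt t r a) (hbi : InvElt r t b) : a = 1 ∨ b = 1 := by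
  obtain ⟨n, M, hL, -, -⟩ := h.l2Local_of_typeT hind hp2 hm hy hyp hT
  have hpow : ∀ x ∈ Q, ∃ i, x ^ p ^ i = 1 := fun x hx => by
    obtain ⟨i, hi⟩ := hQ ⟨x, hx⟩
    exact ⟨i, congrArg Subtype.val hi⟩
  rcases hL.two p Fact.out hp2 Q hQ hQC hQn a ha b hb hai hbi with hO | hO
  · exact Or.inl (h.eq_one_of_mem_oddPart hp2 hT hai (hpow a ha) hO)
  · exact Or.inr (h.rot.eq_one_of_mem_oddPart hp2 (h.typeT_rot_iff.2 hT) (h.invElt_swap.2 hbi) (hpow b hb) hO)

omit [IsSimpleGroup G] in
/-- An invariant `p`-subgroup without inverted elements over `r` and `t * r` is centralised by `t`. -/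
theorem le_centralizer_of_no_invElt (h : Hyp t r s) (hp2 : p ≠ 2) {Q : Subgroup G} (hQ : IsPGroup p Q)
    (hQn : fourV t r ≤ normalizer (Q : Set G)) (h1 : ∀ n ∈ Q, InvElt r t n → n = 1)
    (h2 : ∀ n ∈ Q, InvElt (t * r) t n → n = 1) : Q ≤ centralizer ({t} : Set G) := by
  haveI := h.isKleinFour
  haveI := h.fourV_facts.1
  have hodd : Odd (Nat.card Q) := by
    obtain ⟨j, hj⟩ := IsPGroup.iff_card.1 hQ
    rw [hj]; exact ((Fact.out : p.Prime).odd_of_ne_two hp2).pow
  refine Coprime.le_of_noncyclic IsKleinFour.not_isCyclic hQn (h.coprime_of_odd hodd) fun a ha ha1 x hx => ?_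
  have hxa : Commute x a := commute_of_mem_centralizer_singleton hx.2
  rcases h.mem_iff.1 ha with rfl | rfl | rfl | rfl
  · exact absurd rfl ha1
  · exact hx.2
  · by_contra hne
    have hrot : t * a ∈ normalizer (Q : Set G) :=
      hQn (mul_mem (left_mem_fourV t a) (right_mem_fourV t a))
    obtain ⟨e1, e2, e3⟩ := h.rot.exists_invElt_of_moved hrot hx.1 hxa (fun e => hne
      (mem_centralizer_singleton_of_commute (by
        have e4 : Commute x (t * a) := (mul_inv_eq_iff_eq_mul.1 e).symm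
        have e5 := e4.mul_right hxa
        rwa [mul_assoc, h.mul_self_r, mul_one] at e5)))
    exact e3 (h1 _ e1 (h.invElt_swap.1 e2))
  · by_contra hne
    obtain ⟨e1, e2, e3⟩ := h.rot2.exists_invElt_of_moved (hQn (left_mem_fourV t r)) hx.1 hxa
      (fun e => hne (mem_centralizer_singleton_of_commute (mul_inv_eq_iff_eq_mul.1 e).symm))
    exact e3 (h2 _ e1 e2)

/-- **1.1**: an element of type `T` normalises only invariant subgroups centralised by an involution. -/
theorem exists_centralised (h : Hyp t r s) (hind : ProperL2Like G) (hp2 : p ≠ 2) (hm : Mixed p t r) {y : G}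
    (hy : y ∈ coreW t r) (hyp : orderOf y = p) (hT : TypeT t r p y) {X : Subgroup G} (hX : IsPGroup p X)
    (hXn : fourV t r ≤ normalizer (X : Set G)) (hyX : y ∈ normalizer (X : Set G)) :
    ∃ v ∈ fourV t r, v ≠ 1 ∧ ∀ x ∈ X, Commute v x := by
  set Q := X ⊓ centralizer ({y} : Set G) with hQdef
  have hQ : IsPGroup p Q := hX.to_le inf_le_left
  have hQn : fourV t r ≤ normalizer (Q : Set G) :=
    (le_inf hXn ((h.fourV_le_centralizer_singleton hy).trans le_normalizer)).trans
      (inf_normalizer_le_normalizer_inf (H := X) (K := centralizer ({y} : Set G)))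
  have hQn1 : fourV r (t * r) ≤ normalizer (Q : Set G) := by rw [h.fourV_rot]; exact hQn
  have hQn2 : fourV (t * r) t ≤ normalizer (Q : Set G) := fourV_le_iff.2
    ⟨hQn (mul_mem (left_mem_fourV t r) (right_mem_fourV t r)), hQn (left_mem_fourV t r)⟩
  have hy1 : y ∈ coreW r (t * r) := by rw [h.coreW_rot]; exact hy
  have hT1 := h.typeT_rot_iff.2 hT
  have hy2 : y ∈ coreW (t * r) t := by
    have := h.rot.coreW_rot
    rw [h.r_mul] at this
    rw [this]; exact hy1
  have hT2 : TypeT (t * r) t p y := by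
    have := h.rot.typeT_rot_iff (p := p) (y := y)
    rw [h.r_mul] at this
    exact this.2 hT1
  have p01 : ∀ a ∈ Q, ∀ b ∈ Q, InvElt t r a → InvElt r t b → a = 1 ∨ b = 1 := fun a ha b hb hai hbi =>
    h.not_both hind hp2 hm hy hyp hT hQ inf_le_right hQn ha hb hai hbi
  have p12 : ∀ a ∈ Q, ∀ b ∈ Q, InvElt r t a → InvElt (t * r) t b → a = 1 ∨ b = 1 := fun a ha b hb hai hbi => by
    refine h.rot.not_both hind hp2 (h.mixed_rot hm) hy1 hyp hT1 hQ inf_le_right hQn1 ha hb
      (h.invElt_swap.2 hai) ?_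
    refine h.rot.invElt_swap.1 ?_
    rwa [h.r_mul]
  have p20 : ∀ a ∈ Q, ∀ b ∈ Q, InvElt (t * r) t a → InvElt t r b → a = 1 ∨ b = 1 := fun a ha b hb hai hbi => by
    have hm2 : Mixed p (t * r) t := by
      have := h.rot.mixed_rot (h.mixed_rot hm)
      rwa [h.r_mul] at this
    exact h.rot2.not_both hind hp2 hm2 hy2 hyp hT2 hQ inf_le_right hQn2 ha hb hai (h.invElt_mul.2 hbi)
  obtain ⟨v, hv, hv1, hvQ⟩ : ∃ v ∈ fourV t r, v ≠ 1 ∧ ∀ x ∈ Q, Commute v x := by
    by_cases hr : ∃ b ∈ Q, InvElt r t b ∧ b ≠ 1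
    · obtain ⟨b, hb, hbi, hb1⟩ := hr
      refine ⟨r, right_mem_fourV t r, h.ne_one_r, fun x hx =>
        (commute_of_mem_centralizer_singleton (h.rot.le_centralizer_of_no_invElt hp2 hQ hQn1
          (fun n hn hni => ?_) (fun n hn hni => ?_) hx)).symm⟩
      · refine (p12 b hb n hn hbi ?_).resolve_left hb1
        have := h.rot.invElt_swap (n := n)
        rw [h.r_mul] at this
        exact this.2 hni
      · rw [h.r_mul] at hni
        exact (p01 n hn b hb hni hbi).resolve_right hb1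
    push Not at hr
    by_cases htr : ∃ b ∈ Q, InvElt (t * r) t b ∧ b ≠ 1
    · obtain ⟨b, hb, hbi, hb1⟩ := htr
      refine ⟨t * r, mul_mem (left_mem_fourV t r) (right_mem_fourV t r), h.t_mul_ne_one, fun x hx =>
        (commute_of_mem_centralizer_singleton (h.rot2.le_centralizer_of_no_invElt hp2 hQ hQn2
          (fun n hn hni => ?_) (fun n hn hni => ?_) hx)).symm⟩
      · exact (p20 b hb n hn hbi (h.invElt_mul.1 hni)).resolve_left hb1
      · rw [h.mul_t] at hni
        exact hr n hn (h.invElt_swap.1 hni)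
    push Not at htr
    exact ⟨t, left_mem_fourV t r, h.ne_one_t, fun x hx =>
      (commute_of_mem_centralizer_singleton (h.le_centralizer_of_no_invElt hp2 hQ hQn hr htr hx)).symm⟩
  refine ⟨v, hv, hv1, fun x hx => ?_⟩
  have hord : orderOf v = 2 := by
    rcases h.mem_iff.1 hv with e | e | e | e
    · exact absurd e hv1
    · rw [e]; exact h.order_t
    · rw [e]; exact h.order_r
    · rw [e]; exact h.order_mul
  have hvy : Commute v y := commute_of_mem_centralizer_singleton (h.fourV_le_centralizer_singleton hy hv)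
  have hc := Components.mem_centralizer_of_mem_centralizer
    (isPGroup_zpowers (x := y) (k := 1) (by rw [pow_one, ← hyp, pow_orderOf_eq_one])) hX
    (zpowers_le.2 hyX) (coprime_orderOf hord Fact.out hp2) (hXn hv)
    (by rintro _ ⟨i, rfl⟩; exact (hvy.zpow_right i).symm.eq)
    (fun z hz hzy => (hvQ z ⟨hz, mem_centralizer_singleton_iff.2 (hzy y (mem_zpowers y)).symm⟩).eq)
  exact (hc x hx).symm

omit [IsSimpleGroup G] [Fact p.Prime] in
/-- The type is invariant under `C(V)`. -/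
theorem typeT_conj (h : Hyp t r s) {c y : G} (hc : c ∈ centralizer (fourV t r : Set G)) (hT : TypeT t r p y) :
    TypeT t r p (c * y * c⁻¹) := by
  intro Q hQ hQn hQO x hx
  have hcv : ∀ v ∈ fourV t r, Commute c v := fun v hv => (mem_centralizer_iff.1 hc v hv).symm
  have h1 : Q.map (MulAut.conj c⁻¹).toMonoidHom ≤ oddPart (centralizer ({y} : Set G)) := by
    have := map_mono (f := (MulAut.conj c⁻¹).toMonoidHom) hQO
    rwa [← oddPart_map, map_conj_centralizer_singleton,
      show c⁻¹ * (c * y * c⁻¹) * c⁻¹⁻¹ = y by group] at this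
  have h2 : fourV t r ≤ normalizer (Q.map (MulAut.conj c⁻¹).toMonoidHom : Set G) := fun v hv => by
    refine Coprime.mem_normalizer_of_forall ?_
    rintro _ ⟨z, hz, rfl⟩
    refine ⟨v * z * v⁻¹, (mem_normalizer_iff.1 (hQn hv) z).1 hz, ?_⟩
    show c⁻¹ * (v * z * v⁻¹) * c⁻¹⁻¹ = v * (c⁻¹ * z * c⁻¹⁻¹) * v⁻¹
    rw [show c⁻¹ * (v * z * v⁻¹) * c⁻¹⁻¹ = (c⁻¹ * v) * z * (c⁻¹ * v)⁻¹ by group, (hcv v hv).inv_left.eq]
    group
  have h3 := hT _ (hQ.map _) h2 h1 ⟨x, hx, rfl⟩
  have h4 : c * (c⁻¹ * x * c⁻¹⁻¹) * c⁻¹ ∈ centralizer (fourV t r : Set G) :=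
    Subgroup.mul_mem _ (Subgroup.mul_mem _ hc h3) (Subgroup.inv_mem _ hc)
  rwa [show c * (c⁻¹ * x * c⁻¹⁻¹) * c⁻¹ = x by group] at h4

/-- **1.2**: commuting elements of order `p` of `W` do not have different types. -/
theorem false_of_commute (h : Hyp t r s) (hind : ProperL2Like G) (hp2 : p ≠ 2) (hm : Mixed p t r) {y y₀ : G}
    (hy : y ∈ coreW t r) (hyp : orderOf y = p) (hT : ¬ TypeT t r p y) (hy₀ : y₀ ∈ coreW t r)
    (hy₀p : orderOf y₀ = p) (hT₀ : TypeT t r p y₀) (hc : Commute y₀ y) : False := by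
  set H := centralizer ({y} : Set G) with hHdef
  set O := oddPart H
  have hV := h.fourV_le_centralizer_singleton hy
  have hVO : fourV t r ≤ normalizer (O : Set G) := hV.trans (le_normalizer_oddPart H)
  have hy₀H : y₀ ∈ H := mem_centralizer_singleton_of_commute hc
  have hy₀V : y₀ ∈ centralizer (fourV t r : Set G) := h.coreW_le_centralizer hy₀
  obtain ⟨X, hX, -⟩ := h.exists_invSylow (p := p) hV (Q := ⊥) IsPGroup.of_bot
    (by rw [normalizer_eq_top]; exact le_top) bot_le
  set C := O ⊓ centralizer (fourV t r : Set G) with hCdef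
  have hVc : fourV t r ≤ centralizer (fourV t r : Set G) := by
    haveI := h.fourV_facts.1
    exact fun a ha b hb => congrArg Subtype.val
      (IsMulCommutative.is_comm.comm (⟨b, hb⟩ : fourV t r) ⟨a, ha⟩)
  set M := C ⊔ zpowers y₀ with hMdef
  have hMV : M ≤ centralizer (fourV t r : Set G) := sup_le inf_le_right (zpowers_le.2 hy₀V)
  have hMO : M ≤ normalizer (O : Set G) :=
    sup_le (inf_le_left.trans le_normalizer) (zpowers_le.2 (le_normalizer_oddPart H hy₀H))
  set K := M ⊓ normalizer (X : Set G) with hKdef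
  -- `M = C K`
  have hdec : M = C ⊔ K := by
    refine le_antisymm (sup_le le_sup_left (zpowers_le.2 ?_)) (sup_le le_sup_left inf_le_left)
    have hR : InvSylow p t r H (MulAut.conj y₀ • X) := by
      refine ⟨fun x hx => ?_, fun v hv => Coprime.mem_normalizer_of_forall fun x hx => ?_,
        (Coprime.card_conj y₀ X).trans hX.card⟩
      · rw [Coprime.mem_conj] at hx
        have := (mem_normalizer_iff.1 (le_normalizer_oddPart H hy₀H) _).1 (hX.le hx)
        rwa [show y₀ * (y₀⁻¹ * x * y₀) * y₀⁻¹ = x by group] at this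
      · rw [Coprime.mem_conj] at hx ⊢
        have := (mem_normalizer_iff.1 (hX.norm hv) _).1 hx
        rwa [show v * (y₀⁻¹ * x * y₀) * v⁻¹ = y₀⁻¹ * (v * x * v⁻¹) * y₀ by
          rw [show v * (y₀⁻¹ * x * y₀) * v⁻¹ = (v * y₀⁻¹) * x * (v * y₀⁻¹)⁻¹ by group,
            show v * y₀⁻¹ = y₀⁻¹ * v from
              ((show Commute y₀ v from (mem_centralizer_iff.1 hy₀V v hv).symm).inv_left).symm.eq]
          group] at this
    obtain ⟨c, hcW, hcO, hcR⟩ := h.invSylow_conj hV hX hR
    have hcC : c ∈ C := ⟨hcO, h.coreW_le_centralizer hcW⟩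
    have hk : c * y₀ ∈ K := ⟨mul_mem (mem_sup_left hcC) (mem_sup_right (mem_zpowers y₀)),
      Coprime.mem_normalizer_of_forall fun x hx => by
        have := (Coprime.conj_mem_conj (g := c * y₀)).2 hx
        rwa [map_mul, mul_smul, hcR] at this⟩
    have := mul_mem (inv_mem (mem_sup_left hcC : c ∈ C ⊔ K)) (mem_sup_right hk : c * y₀ ∈ C ⊔ K)
    rwa [inv_mul_cancel_left] at this
  have hKC : K ≤ normalizer (C : Set G) := fun k hk => Coprime.mem_normalizer_of_forall fun x hx =>
    ⟨(mem_normalizer_iff.1 (hMO hk.1) x).1 hx.1,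
      Subgroup.mul_mem _ (Subgroup.mul_mem _ (hMV hk.1) hx.2) (Subgroup.inv_mem _ (hMV hk.1))⟩
  -- the index of `K` in `M` is prime to `p`
  have hcard : Nat.card (X ⊓ C : Subgroup G) = p ^ (Nat.card C).factorization p :=
    Coprime.card_inf_eq_of_invariant hVO (h.coprime_of_odd (odd_card_oddPart H)) (Or.inl h.fourV_facts.2)
      hX.le inf_le_left hX.norm
      ((le_inf hVO (hVc.trans le_normalizer)).trans
        (inf_normalizer_le_normalizer_inf (H := O) (K := centralizer (fourV t r : Set G))))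
      le_normalizer hX.card
  have hidx : ¬ p ∣ K.relIndex M := by
    intro hd
    have h1 : (Nat.card M) * Nat.card (C ⊓ K : Subgroup G) = Nat.card C * Nat.card K := by
      have := Coprime.card_mul_inf C K
      rw [← Subgroup.coe_mul_of_right_le_normalizer_left C K hKC, ← hdec] at this
      exact this
    have h2 : Nat.card K * K.relIndex M = Nat.card M := by
      rw [← relIndex_bot_left (H := K), ← relIndex_bot_left (H := M), relIndex_mul_relIndex _ _ _ bot_le inf_le_left]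
    have h3 : K.relIndex M * Nat.card (C ⊓ K : Subgroup G) = Nat.card C := by
      refine Nat.eq_of_mul_eq_mul_left (Nat.card_pos (α := K)) ?_
      rw [← mul_assoc, h2, h1, mul_comm]
    have h4 : Nat.card (X ⊓ C : Subgroup G) ∣ Nat.card (C ⊓ K : Subgroup G) :=
      card_dvd_of_le fun x hx => ⟨hx.2, mem_sup_left hx.2, le_normalizer hx.1⟩
    rw [hcard] at h4
    refine Nat.pow_succ_factorization_not_dvd (Nat.card_pos (α := C)).ne' (Fact.out : p.Prime) ?_
    rw [pow_succ]
    exact (mul_dvd_mul h4 hd).trans (dvd_of_eq (by rw [mul_comm, h3]))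
  -- a conjugate of `y₀` in `K`
  obtain ⟨g, hgM, hgK⟩ : ∃ g ∈ M, g⁻¹ * y₀ * g ∈ K := by
    have hP : IsPGroup p (zpowers (⟨y₀, mem_sup_right (mem_zpowers y₀)⟩ : M)) := by
      refine IsPGroup.of_card (n := 1) ?_
      rw [Nat.card_zpowers, orderOf_mk, hy₀p, pow_one]
    have hne : ¬ p ∣ Nat.card (M ⧸ K.subgroupOf M) := by rwa [← index_eq_card]
    obtain ⟨⟨g⟩, hg⟩ := hP.nonempty_fixed_point_of_prime_not_dvd_card (M ⧸ K.subgroupOf M) hne
    have h1 : (QuotientGroup.mk ((⟨y₀, mem_sup_right (mem_zpowers y₀)⟩ : M) * g) : M ⧸ K.subgroupOf M) =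
        QuotientGroup.mk g := hg ⟨_, mem_zpowers _⟩
    refine ⟨g, g.2, ?_⟩
    have h2 := inv_mem (QuotientGroup.eq.1 h1)
    rw [mem_subgroupOf] at h2
    push_cast at h2
    rwa [mul_inv_rev, inv_inv, ← mul_assoc] at h2
  have hgV : g⁻¹ ∈ centralizer (fourV t r : Set G) := inv_mem (hMV hgM)
  have hy₁V : g⁻¹ * y₀ * g ∈ centralizer (fourV t r : Set G) := hMV hgK.1
  have hord : orderOf (g⁻¹ * y₀ * g) = p := by simpa using (Involution.orderOf_conj g⁻¹ y₀).trans hy₀p
  have hy₁W : g⁻¹ * y₀ * g ∈ coreW t r :=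
    h.mem_coreW_of_odd hy₁V (by rw [hord]; exact (Fact.out : p.Prime).odd_of_ne_two hp2)
  have hT₁ : TypeT t r p (g⁻¹ * y₀ * g) := by simpa using h.typeT_conj hgV hT₀
  obtain ⟨v, hv, hv1, hvX⟩ := h.exists_centralised hind hp2 hm hy₁W hord hT₁ hX.isPGroup hX.norm hgK.2
  exact hv1 (h.not_centralised hind hp2 hm hy hyp hT hX v hv hvX)

/-- One subgroup over all `C(v)` from an element not of type `T`. -/
theorem centralizer_le_of_typeK (h : Hyp t r s) (hind : ProperL2Like G) (hp2 : p ≠ 2) (hm : Mixed p t r) {y : G}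
    (hy : y ∈ coreW t r) (hyp : orderOf y = p) (hT : ¬ TypeT t r p y) {X M : Subgroup G}
    (hX : InvSylow p t r (centralizer ({y} : Set G)) X) (hyX : y ∈ X)
    (hM : ∀ A ≤ X, Cfsg.IsElementaryAbelian p A → p ^ 3 ≤ Nat.card A → ∀ B ≤ A, Nat.card B = p ^ 2 →
      ∀ Q : Subgroup G, IsPGroup p Q → Q ≠ ⊥ → B ≤ normalizer (Q : Set G) → normalizer (Q : Set G) ≤ M) :
    centralizer ({t} : Set G) ≤ M := by
  have hXp := hX.isPGroup
  obtain ⟨n₀, hn₀X, hn₀i, hn₀1⟩ := h.exists_invElt_invSylow hind hp2 hm hy hyp hT hX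
  obtain ⟨k, hni, hnX, hno⟩ := hn₀i.exists_orderOf_eq hXp hn₀X hn₀1
  set n := n₀ ^ k
  obtain ⟨hyt, hyr, -⟩ := h.mem_coreW.1 hy
  have hnp : n ^ p = 1 := hno ▸ pow_orderOf_eq_one n
  have hcy : ∀ x ∈ X, Commute x y := fun x hx => commute_of_mem_centralizer_singleton (hX.le_self hx)
  have hny : n ∉ zpowers y := by
    rintro ⟨i, hi⟩
    refine ne_one_of_orderOf_eq hno (eq_one_of_fixed_inverted ?_ (conj_eq_of_commute ?_) hni.2)
    · exact odd_orderOf_of_isPGroup hXp hp2 hnX
    · exact hi ▸ hyr.zpow_left i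
  obtain ⟨hB, hBc⟩ := elemAb_sup_zpowers (elemAb_zpowers (hyp ▸ pow_orderOf_eq_one y)) hnp (fun b hb => by
    obtain ⟨i, rfl⟩ := hb
    exact (hcy n hnX).symm.zpow_left i) hny
  rw [Nat.card_zpowers, hyp, ← pow_two] at hBc
  set B := zpowers y ⊔ zpowers n
  have hBt : B ≤ centralizer ({t} : Set G) :=
    sup_le (zpowers_le.2 (mem_centralizer_singleton_of_commute hyt))
      (zpowers_le.2 (mem_centralizer_singleton_of_commute hni.1))
  obtain ⟨x, hxX, hxn, hxt⟩ : ∃ x ∈ X, Commute x n ∧ t * x * t⁻¹ ≠ x := by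
    by_contra hcon
    push Not at hcon
    refine h.ne_one_t (h.not_centralised hind hp2 hm hy hyp hT hX t (left_mem_fourV t r) fun x hx => ?_)
    have hc := Components.mem_centralizer_of_mem_centralizer (isPGroup_zpowers (x := n) (k := 1)
        (by rw [pow_one, hnp])) hXp ((zpowers_le.2 hnX).trans le_normalizer)
      (coprime_orderOf h.order_t Fact.out hp2) (hX.norm (left_mem_fourV t r))
      (by rintro _ ⟨i, rfl⟩; exact (hni.1.zpow_left i).eq)
      (fun z hz hzn => mul_inv_eq_iff_eq_mul.1 (hcon z hz (hzn n (mem_zpowers n)).symm))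
    exact (hc x hx).symm
  set d₀ := (t * x * t⁻¹)⁻¹ * x with hd₀
  have hd₀X : d₀ ∈ X := mul_mem (inv_mem ((mem_normalizer_iff.1 (hX.norm (left_mem_fourV t r)) x).1 hxX)) hxX
  have hd₀i : t * d₀ * t⁻¹ = d₀⁻¹ := by
    calc t * ((t * x * t⁻¹)⁻¹ * x) * t⁻¹ = t * t * x⁻¹ * (t * t)⁻¹ * (t * x * t⁻¹) := by group
      _ = ((t * x * t⁻¹)⁻¹ * x)⁻¹ := by rw [h.mul_self_t]; group
  have hd₀n : Commute d₀ n :=
    (((hni.1.symm.mul_left hxn).mul_left hni.1.symm.inv_left).inv_left).mul_left hxn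
  obtain ⟨j, hj⟩ := IsPGroup.iff_orderOf.1 hXp ⟨d₀, hd₀X⟩
  rw [orderOf_mk] at hj
  have hj0 : j ≠ 0 := by
    rintro rfl
    exact hxt (inv_mul_eq_one.1 (orderOf_eq_one_iff.1 (hj.trans (pow_zero p))))
  set d := d₀ ^ (orderOf d₀ / p) with hd
  have hdo : orderOf d = p :=
    orderOf_pow_orderOf_div (orderOf_pos d₀).ne' (by rw [hj]; exact dvd_pow_self p hj0)
  have hdX : d ∈ X := pow_mem hd₀X _
  have hdB : d ∉ B := fun hmem => ne_one_of_orderOf_eq hdo (eq_one_of_fixed_inverted (r := t)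
    (odd_orderOf_of_isPGroup hXp hp2 hdX) (conj_eq_of_commute (commute_of_mem_centralizer_singleton (hBt hmem)))
    (by rw [hd, ← conj_pow, hd₀i, inv_pow]))
  have hcd : ∀ b ∈ B, Commute b d := by
    intro b hb
    have hle : B ≤ centralizer ({d} : Set G) := sup_le
      (zpowers_le.2 (mem_centralizer_singleton_of_commute (hcy d hdX).symm))
      (zpowers_le.2 (mem_centralizer_singleton_of_commute (hd₀n.pow_left _).symm))
    exact commute_of_mem_centralizer_singleton (hle hb)
  obtain ⟨hA, hAc⟩ := elemAb_sup_zpowers hB (hdo ▸ pow_orderOf_eq_one d) hcd hdB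
  refine (centralizer_le_normalizer_radU p t).trans
    (hM (B ⊔ zpowers d) (sup_le (sup_le (zpowers_le.2 hyX) (zpowers_le.2 hnX)) (zpowers_le.2 hdX)) hA
      (by rw [hAc, hBc, ← pow_succ]) B le_sup_left hBc _ (isPGroup_radU p t) hm.radU_ne_bot
      (hBt.trans (centralizer_le_normalizer_radU p t)))

/-- **1.3**: some element of order `p` of `W` has type `T`. -/
theorem false_of_all_typeK (h : Hyp t r s) (hind : ProperL2Like G) (hR : RatioLemma t r) (hp2 : p ≠ 2)
    (hm : Mixed p t r) (hall : ∀ y ∈ coreW t r, orderOf y = p → ¬ TypeT t r p y) {y : G}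
    (hy : y ∈ coreW t r) (hyp : orderOf y = p) : False := by
  have hgood : PGood G p := pGood_of_centralizers (h.centralizer_good hp2 fun w hw hwp => by
    obtain ⟨X, hX, -⟩ := h.exists_invSylow (p := p) (h.fourV_le_centralizer_singleton hw) (Q := ⊥)
      IsPGroup.of_bot (by rw [normalizer_eq_top]; exact le_top) bot_le
    exact h.constrained_of_moved hp2 (h.fourV_le_centralizer_singleton hw) hX
      (h.not_centralised hind hp2 hm hw hwp (hall w hw hwp) hX))
  have hV := h.fourV_le_centralizer_singleton hy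
  obtain ⟨hyt, hyr, -⟩ := h.mem_coreW.1 hy
  have hyO : y ∈ oddPart (centralizer ({y} : Set G)) :=
    mem_oddPart_centralizer (by rw [hyp]; exact (Fact.out : p.Prime).odd_of_ne_two hp2)
  obtain ⟨X, hX, hyX⟩ := h.exists_invSylow (p := p) hV
    (isPGroup_zpowers (x := y) (k := 1) (by rw [pow_one, ← hyp, pow_orderOf_eq_one]))
    (h.fourV_le_normalizer_zpowers (by rw [conj_eq_of_commute hyt]; exact mem_zpowers y)
      (by rw [conj_eq_of_commute hyr]; exact mem_zpowers y))
    (zpowers_le.2 hyO)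
  have hna : ∃ a b : G, a * b ≠ b * a := ⟨s, t, fun e => h.ne (by rw [← h.conj_t, e, mul_inv_cancel_right])⟩
  obtain ⟨M, hM, hMX⟩ := exists_overgroup_simple inferInstance (not_isSolvable_of_simple hna)
    h.abelian_sylow_two hp2 hgood hX.isPGroup
  have hT := hall y hy hyp
  have hmem := hyX (mem_zpowers y)
  have h0 : centralizer ({t} : Set G) ≤ M := h.centralizer_le_of_typeK hind hp2 hm hy hyp hT hX hmem
    fun A hA hAe hA3 B hB hB2 => ((hMX A hA hAe hA3).2.2 B hB hB2).1
  have hy1 : y ∈ coreW r (t * r) := by rw [h.coreW_rot]; exact hy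
  have h1 : centralizer ({r} : Set G) ≤ M := h.rot.centralizer_le_of_typeK hind hp2 (h.mixed_rot hm) hy1 hyp
    (fun e => hT (h.typeT_rot_iff.1 e)) (hX.rot h) hmem
    fun A hA hAe hA3 B hB hB2 => ((hMX A hA hAe hA3).2.2 B hB hB2).1
  have h2 : centralizer ({t * r} : Set G) ≤ M := h.rot.rot.centralizer_le_of_typeK hind hp2
    (h.rot.mixed_rot (h.mixed_rot hm)) (by rw [h.rot.coreW_rot]; exact hy1) hyp
    (fun e => hT (h.typeT_rot_iff.1 (h.rot.typeT_rot_iff.1 e))) ((hX.rot h).rot h.rot) hmem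
    fun A hA hAe hA3 B hB hB2 => ((hMX A hA hAe hA3).2.2 B hB hB2).1
  set K := coreU t ⊔ coreU r ⊔ coreU (t * r) with hK
  have hsK : s ∈ normalizer (K : Set G) := by
    rw [PLocal.mem_normalizer_iff_map_eq, hK, Subgroup.map_sup, Subgroup.map_sup, h.map_coreU, h.rot.map_coreU,
      h.rot2.map_coreU]
    ac_rfl
  have hVK : fourV t r ≤ normalizer (K : Set G) :=
    (le_inf ((le_inf h.fourV_le_normalizer_coreU (h.fourV_rot ▸ h.rot.fourV_le_normalizer_coreU)).trans
        (normalizer_inf_le_sup _ _))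
      ((fourV_le_iff.2 ⟨right_mem_fourV (t * r) t,
          by
            have := mul_mem (right_mem_fourV (t * r) t) (left_mem_fourV (t * r) t)
            rwa [← mul_assoc, h.mul_self_t, one_mul] at this⟩).trans
        h.rot2.fourV_le_normalizer_coreU)).trans (normalizer_inf_le_sup _ _)
  have hKM : K ≤ M := sup_le (sup_le ((coreU_le_centralizer t).trans h0) ((coreU_le_centralizer r).trans h1))
    ((coreU_le_centralizer (t * r)).trans h2)
  have hne := hm.coreU_ne_bot
  refine h.false_of_fused hind hR (fun e => ?_) ?_ hsK h.conj_t hne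
  · haveI : K.Normal := normalizer_eq_top_iff.1 e
    rcases (inferInstance : K.Normal).eq_bot_or_eq_top with e' | e'
    · exact hne (le_bot_iff.1 (e' ▸ (le_sup_left.trans le_sup_left : coreU t ≤ K)))
    · exact hM (top_le_iff.1 (e' ▸ hKM))
  · rw [← h.sup_fourV]
    exact sup_le ((le_sup_left.trans le_sup_left).trans le_normalizer) hVK

/-- **1.2, 1.3**: all elements of order `p` of `W` have type `T`. -/
theorem typeT_of_mixed (h : Hyp t r s) (hind : ProperL2Like G) (hR : RatioLemma t r) (hp2 : p ≠ 2)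
    (hm : Mixed p t r) {y : G} (hy : y ∈ coreW t r) (hyp : orderOf y = p) : TypeT t r p y := by
  by_contra hT
  obtain ⟨y₀, hy₀, hy₀p, hT₀⟩ : ∃ y₀ ∈ coreW t r, orderOf y₀ = p ∧ TypeT t r p y₀ := by
    by_contra hcon
    push Not at hcon
    exact h.false_of_all_typeK hind hR hp2 hm hcon hy hyp
  obtain ⟨S⟩ : Nonempty (Sylow p (coreW t r)) := inferInstance
  set S' := (S : Subgroup (coreW t r)).map (coreW t r).subtype with hS'
  have hconj : ∀ a ∈ coreW t r, orderOf a = p → ∃ c ∈ coreW t r, c * a * c⁻¹ ∈ S' := by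
    intro a ha hap
    obtain ⟨Q, hQ⟩ := (IsPGroup.of_card (n := 1) (by rw [Nat.card_zpowers, orderOf_mk, hap, pow_one]) :
      IsPGroup p (zpowers (⟨a, ha⟩ : coreW t r))).exists_le_sylow
    obtain ⟨g, hg⟩ := MulAction.exists_smul_eq (coreW t r) Q S
    refine ⟨g, g.2, g * ⟨a, ha⟩ * g⁻¹, ?_, rfl⟩
    rw [← hg]
    exact ⟨_, hQ (mem_zpowers _), rfl⟩
  obtain ⟨c₁, hc₁, hm₁⟩ := hconj y hy hyp
  obtain ⟨c₀, hc₀, hm₀⟩ := hconj y₀ hy₀ hy₀p
  have hne : S' ≠ ⊥ := fun e =>
    ne_one_of_orderOf_eq hyp (conj_eq_one_iff.1 (mem_bot.1 (e ▸ hm₁)))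
  obtain ⟨z, ⟨hzS, hzc⟩, hz1, hzp⟩ := PLocal.exists_central_of_order_p (S.isPGroup'.map _) hne
  have hzW : z ∈ coreW t r := map_subtype_le _ hzS
  have hzo : orderOf z = p := orderOf_eq_prime hzp hz1
  have hy₁ : c₁ * y * c₁⁻¹ ∈ coreW t r := map_subtype_le _ hm₁
  have hy₀' : c₀ * y₀ * c₀⁻¹ ∈ coreW t r := map_subtype_le _ hm₀
  have hd₁ := h.coreW_le_centralizer hc₁
  by_cases hTz : TypeT t r p z
  · refine h.false_of_commute hind hp2 hm hy₁ (by rw [Involution.orderOf_conj, hyp]) (fun e => hT ?_) hzW hzo hTz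
      (hzc _ hm₁).symm
    have := h.typeT_conj (Subgroup.inv_mem _ hd₁) e
    rwa [show c₁⁻¹ * (c₁ * y * c₁⁻¹) * c₁⁻¹⁻¹ = y by group] at this
  · exact h.false_of_commute hind hp2 hm hzW hzo hTz hy₀' (by rw [Involution.orderOf_conj, hy₀p])
      (h.typeT_conj (h.coreW_le_centralizer hc₀) hT₀) (hzc _ hm₀)

/-- What the counting uses. -/
theorem typeData (h : Hyp t r s) (hind : ProperL2Like G) (hR : RatioLemma t r) (hp2 : p ≠ 2)
    (hm : Mixed p t r) : TypeData t r p := fun _ hy hyp =>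
  h.l2Local_of_typeT hind hp2 hm hy hyp (h.typeT_of_mixed hind hR hp2 hm hy hyp)

theorem mem_zpowers_of_typeT (h : Hyp t r s) (hind : ProperL2Like G) (hR : RatioLemma t r) (hp2 : p ≠ 2)
    (hm : Mixed p t r) {y : G} (hy : y ∈ coreW t r) (hyp : orderOf y = p) {a b : G} (ha : orderOf a = p)
    (hb : orderOf b = p) (hai : InvElt t r a) (hbi : InvElt t r b) (hab : Commute a b) (hay : Commute a y)
    (hby : Commute b y) : b ∈ zpowers a :=
  (h.typeData hind hR hp2 hm).mem_zpowers Fact.out hp2 hy hyp hbi hai (hb ▸ pow_orderOf_eq_one b)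
    (ha ▸ pow_orderOf_eq_one a) (ne_one_of_orderOf_eq ha) hab.symm hby hay

/-- **1.4**: no non-trivial `p`-subgroup of `W` is normalised by `C(t)`. -/
theorem false_of_le_coreW (h : Hyp t r s) (hind : ProperL2Like G) (hR : RatioLemma t r) (hp2 : p ≠ 2)
    (hm : Mixed p t r) {E : Subgroup G} (hE : IsPGroup p E) (hEW : E ≤ coreW t r) (hE1 : E ≠ ⊥)
    (hn : centralizer ({t} : Set G) ≤ normalizer (E : Set G)) : False := by
  set C := centralizer (E : Set G) with hCdef
  have hVC : fourV t r ≤ C := fun v hv e he =>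
    ((mem_centralizer_iff.1 (h.coreW_le_centralizer (hEW he))) v hv).symm
  obtain ⟨y, ⟨hyE, -⟩, hy1, hyp'⟩ := PLocal.exists_central_of_order_p hE hE1
  have hy := hEW hyE
  have hyp : orderOf y = p := orderOf_eq_prime hyp' hy1
  have hCy : C ≤ centralizer ({y} : Set G) := fun x hx =>
    mem_centralizer_singleton_iff.2 (mem_centralizer_iff.1 hx y hyE).symm
  have hCtop : C ≠ ⊤ := fun e => h.centralizer_singleton_ne_top hy1 (top_le_iff.1 (e ▸ hCy))
  have hns : ¬ Group.IsSolvable C := by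
    intro hs
    obtain ⟨a, haP, hai, ha1, haE⟩ := h.exists_invElt_of_mixed hp2 hm hE hEW
    obtain ⟨b, hbP, hbi, hb1, hbE⟩ := h.rot.exists_invElt_of_mixed hp2 (h.mixed_rot hm) hE
      (by rw [h.coreW_rot]; exact hEW)
    obtain ⟨i, hi⟩ := IsPGroup.iff_orderOf.1 (isPGroup_radU p t) ⟨a, haP⟩
    obtain ⟨j, hj⟩ := IsPGroup.iff_orderOf.1 (isPGroup_radU p r) ⟨b, hbP⟩
    rw [orderOf_mk] at hi hj
    have haC : a ∈ C := fun e he => (haE e he).symm.eq
    have hbC : b ∈ C := fun e he => (hbE e he).symm.eq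
    have hVb : fourV t r ≤ normalizer (zpowers b : Set G) := h.fourV_rot ▸ h.rot.zpowers_invariant hbi
    obtain ⟨X, hX, haX⟩ := h.exists_invSylow (p := p) hVC
      (isPGroup_zpowers (k := i) (by rw [← hi, pow_orderOf_eq_one])) (h.zpowers_invariant hai)
      (h.odd_le_oddPart hs hVC (zpowers_le.2 haC)
        (by rw [Nat.card_zpowers, hi]; exact ((Fact.out : p.Prime).odd_of_ne_two hp2).pow)
        (h.zpowers_invariant hai))
    obtain ⟨R, hR', hbR⟩ := h.exists_invSylow (p := p) hVC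
      (isPGroup_zpowers (k := j) (by rw [← hj, pow_orderOf_eq_one])) hVb
      (h.odd_le_oddPart hs hVC (zpowers_le.2 hbC)
        (by rw [Nat.card_zpowers, hj]; exact ((Fact.out : p.Prime).odd_of_ne_two hp2).pow) hVb)
    obtain ⟨c, hcW, -, hcR⟩ := h.invSylow_conj hVC hX hR'
    have hbi' : InvElt r t (c * b * c⁻¹) :=
      h.invElt_swap.1 (hbi.conj_of_coreW (by rw [h.coreW_rot]; exact hcW))
    rcases h.not_both hind hp2 hm hy hyp (h.typeT_of_mixed hind hR hp2 hm hy hyp) hX.isPGroup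
      (hX.le_self.trans hCy) hX.norm (haX (mem_zpowers a))
      (hcR ▸ Coprime.conj_mem_conj.2 (hbR (mem_zpowers b))) hai hbi' with e | e
    · exact ha1 e
    · exact hb1 (conj_eq_one_iff.1 e)
  obtain ⟨n, Q, hL⟩ := h.exists_l2Local hVC (hind C hCtop hns)
  obtain ⟨m, hmC, hmt, -⟩ := hL.moving
  refine h.false_of_fused hind hR (fun e => ?_) hn (centralizer_le_normalizer _ hmC) hmt hm.coreU_ne_bot
  haveI : E.Normal := normalizer_eq_top_iff.1 e
  rcases (inferInstance : E.Normal).eq_bot_or_eq_top with e' | e'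
  · exact hE1 e'
  · exact h.centralizer_singleton_ne_top h.ne_one_t (top_le_iff.1
      (e' ▸ (hEW.trans (coreW_le_coreU t r)).trans (coreU_le_centralizer t)))

theorem noNormalInW (h : Hyp t r s) (hind : ProperL2Like G) (hR : RatioLemma t r) (hp2 : p ≠ 2)
    (hm : Mixed p t r) : NoNormalInW t r p := fun _ hE hEW hE1 hn =>
  h.false_of_le_coreW hind hR hp2 hm hE hEW hE1 hn

end Hyp

end Cfsg.Agent.GWKlein
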