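import Cfsg.Agent.Lib.GWKlein.General.NotMixed
import Cfsg.Agent.Lib.GWKlein.General.Types
import Cfsg.Agent.Lib.GWKlein.General.LocalL2
import Cfsg.Agent.Lib.GWKlein.BackEnd

/-!
# Gorenstein-Walter, Klein general case: the induction step

`psl_of_properL2Like`: a simple group with a Klein four Sylow 2-subgroup all of whose proper non-solvable subgroups
are of type `L2(q)` over their odd cores is `PSL(2,q)`.
-/

set_option autoImplicit false

namespace Cfsg.Agent.GWKlein

open Subgroup

universe u

variable {G : Type u} [Group G] [Finite G]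

/-- **Gorenstein-Walter, Klein four case, induction step.** -/
theorem psl_of_properL2Like [IsSimpleGroup G] (P : Sylow 2 G) [IsKleinFour (P : Subgroup G)]
    (hind : ProperL2Like G) :
    ∃ (F : Type) (_ : Field F) (_ : Fintype F), Odd (Fintype.card F) ∧
      Nonempty (G ≃* Matrix.ProjectiveSpecialLinearGroup (Fin 2) F) := by
  obtain ⟨t, r, s, h, -⟩ := exists_hyp P
  have hR : ∀ t r s : G, Hyp t r s → RatioLemma t r := fun t r s h => h.ratioLemma h.orderFormula
  obtain ⟨A, hA⟩ := h.exists_split_of_data h.orderFormula fun q hq hq2 hm => by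
    haveI : Fact q.Prime := ⟨hq⟩
    exact ⟨h.typeData hind (hR t r s h) hq2 hm, h.noNormalInW hind (hR t r s h) hq2 hm⟩
  refine psl_of_split h hA (fun t' r' s' h' hne H hH hC m hm hmt =>
    h'.false_of_fused hind (hR t' r' s' h') hH hC hm hmt hne) fun t' r' s' h' H hH hV hns => ?_
  obtain ⟨n, Q, hL⟩ := h'.exists_l2Local hV (hind H hH hns)
  exact hL.moving

end Cfsg.Agent.GWKlein
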